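import Cfsg.Agent.Lib.M22Nse57.ModelData
import Cfsg.Agent.Lib.Fusion.Mathieu.Identify

/-!
The numbers of elements of each order in the Mathieu group of degree 22.

Twelve pairwise non-conjugate elements have classes of sizes at least the listed values, which sum
to the group order, so the classes are exactly those.
-/

set_option autoImplicit false

namespace Cfsg.Agent.Lib.M22Nse57

open Cfsg.Agent.Lib.Compute Cfsg.Agent.Lib.Compute.Mathieu

/-- Orders of the twelve class representatives. -/
def nseOrd : Fin 12 → ℕ := ![1, 2, 3, 4, 4, 5, 6, 7, 7, 8, 11, 11]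

/-- Sizes of the twelve classes. -/
def nseSize : Fin 12 → ℕ :=
  ![1, 1155, 12320, 13860, 27720, 88704, 36960, 63360, 63360, 55440, 40320, 40320]

/-- Orders of the centralizers of the twelve representatives. -/
def nseCent : Fin 12 → ℕ := ![443520, 384, 36, 32, 16, 5, 12, 7, 7, 8, 11, 11]

theorem nse_size_mul : ∀ i, nseSize i * nseCent i = 443520 := by decide

theorem nse_ord_pos : ∀ i, 0 < nseOrd i := by decide

theorem nse_size_sum : ∑ i, nseSize i = 443520 := by decide

theorem nseReps_spec : ∀ i : Fin 11, (nseReps.getD i ((0, 0), 0, 0)).2 =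
    (nseOrd i.succ, nseCent i.succ) := by decide

theorem nse_rep (i : Fin 11) :
    ∃ x : m22Group, m22Enc x = (nseReps.getD i ((0, 0), 0, 0)).1.1 ∧ orderOf x = nseOrd i.succ ∧
      Nat.card (Subgroup.centralizer ({x} : Set m22Group)) ≤ nseCent i.succ := by
  classical
  have hmem : nseReps.getD i ((0, 0), 0, 0) ∈ nseReps := by
    have hi : (i : ℕ) < nseReps.length := i.isLt
    rw [← List.getElem_eq_getD (h := hi)]
    exact List.getElem_mem hi
  have hspec := nseReps_spec i
  generalize hr : nseReps.getD i ((0, 0), 0, 0) = r at hmem hspec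
  obtain ⟨p, o, c⟩ := r
  obtain ⟨rfl, rfl⟩ := Prod.mk.injEq .. ▸ hspec
  obtain ⟨x, hx, -⟩ := m22_lift (List.all_eq_true.1 nseReps_pairs p (List.mem_map_of_mem hmem))
  have ho := List.all_eq_true.1 nseReps_orders _ hmem
  simp only [Bool.and_eq_true, List.all_eq_true, List.mem_range, Bool.not_eq_true'] at ho
  have hc := Nat.le_of_ble_eq_true (List.all_eq_true.1 nseReps_cents _ hmem)
  have hpos : 0 < nseOrd i.succ := nse_ord_pos _
  dsimp only at hx ⊢
  refine ⟨x, hx, (orderOf_eq_iff hpos).2 ⟨m22Enc_inj ?_, fun m hm hm0 he => ?_⟩, ?_⟩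
  · rw [m22Enc_pow, hx, m22Enc_one]; exact Nat.eq_of_beq_eq_true ho.1
  · have h := ho.2 (m - 1) (by omega)
    rw [Nat.sub_add_cancel hm0, ← hx, ← m22Enc_pow, he, m22Enc_one] at h
    simp at h
  · obtain ⟨L, hL⟩ : ∃ L, L = transList (permOps 8 24) p.1 p.1 m22Chain (permOps 8 24).one [] :=
      ⟨_, rfl⟩
    dsimp only at hc
    rw [← hL] at hc
    let f : Subgroup.centralizer ({x} : Set m22Group) → L.toFinset := fun g =>
      ⟨m22Enc (g : m22Group), by
        rw [List.mem_toFinset, hL, ← hx]
        exact m22_mem_transList (Subgroup.mem_centralizer_singleton_iff.1 g.2)⟩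
    have hf : Function.Injective f := fun a b hab => by
      have h := congrArg Subtype.val hab
      simp only [f] at h
      exact Subtype.ext (m22Enc_inj h)
    refine (Nat.card_le_card_of_injective f hf).trans ?_
    rw [Nat.card_eq_fintype_card, Fintype.card_coe]
    exact (L.toFinset_card_le).trans hc

/-- The chosen representatives, the identity first. -/
noncomputable def nseElem : Fin 12 → m22Group := Fin.cases 1 fun i => (nse_rep i).choose

theorem nseElem_succ (i : Fin 11) :
    m22Enc (nseElem i.succ) = (nseReps.getD i ((0, 0), 0, 0)).1.1 :=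
  (nse_rep i).choose_spec.1

theorem nseElem_order : ∀ i, orderOf (nseElem i) = nseOrd i :=
  Fin.cases (by simp [nseElem, nseOrd]) fun i => (nse_rep i).choose_spec.2.1

theorem nseElem_cent : ∀ i, Nat.card (Subgroup.centralizer ({nseElem i} : Set m22Group)) ≤ nseCent i :=
  Fin.cases ((Subgroup.card_le_card_group _).trans_eq card_m22) fun i => (nse_rep i).choose_spec.2.2

theorem nseElem_not_conj {i j : Fin 12} (hij : i < j) : ¬ IsConj (nseElem i) (nseElem j) := by
  intro hc
  obtain ⟨g, hg⟩ := isConj_iff.1 hc
  have ho : nseOrd i = nseOrd j := by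
    rw [← nseElem_order, ← nseElem_order, ← hg]
    exact (MulAut.conj g).orderOf_eq (nseElem i) |>.symm
  have hi : i ≠ 0 := by rintro rfl; revert ho hij; clear hc hg; revert j; decide
  obtain ⟨a, rfl⟩ := Fin.exists_succ_eq.2 hi
  have hj : j ≠ 0 := fun h0 => by rw [h0] at hij; simp at hij
  obtain ⟨b, rfl⟩ := Fin.exists_succ_eq.2 hj
  have hm := m22_mem_transList (mul_inv_eq_iff_eq_mul.1 hg)
  rw [nseElem_succ, nseElem_succ] at hm
  have h := List.all_eq_true.1 (List.all_eq_true.1 nseReps_split a (List.mem_range.2 a.isLt)) b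
    (List.mem_range.2 b.isLt)
  have ha := congrArg Prod.fst (nseReps_spec a)
  have hb := congrArg Prod.fst (nseReps_spec b)
  simp only [Bool.or_eq_true, Bool.not_eq_true', Bool.and_eq_false_iff] at h
  rcases h with (h | h) | h
  · rw [Fin.succ_lt_succ_iff] at hij
    have h' : Nat.ble ((a : ℕ) + 1) b = true := Nat.ble_eq_true_of_le (Fin.lt_def.1 hij)
    change Nat.ble ((a : ℕ) + 1) b = false at h
    rw [h'] at h
    exact Bool.noConfusion h
  · rw [ha, hb, ho] at h
    simp at h
  · rw [List.isEmpty_iff.1 h] at hm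
    exact List.not_mem_nil hm

/-- The number of elements of order `n` in the certified M22. -/
theorem card_m22_order_eq (n : ℕ) : Nat.card {g : m22Group // orderOf g = n} =
    ∑ i ∈ Finset.univ.filter (fun i => nseOrd i = n), nseSize i := by
  classical
  let cls : Fin 12 → Finset m22Group := fun i => Finset.univ.filter (IsConj (nseElem i))
  have hcls : ∀ i, nseSize i ≤ (cls i).card := by
    intro i
    have h := MulAction.card_orbit_mul_card_stabilizer_eq_card_group (ConjAct m22Group) (nseElem i)
    rw [← Nat.card_eq_fintype_card, ← Nat.card_eq_fintype_card, ← Nat.card_eq_fintype_card] at h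
    have hG : Nat.card (ConjAct m22Group) = 443520 := card_m22
    have hO : Nat.card (MulAction.orbit (ConjAct m22Group) (nseElem i)) = (cls i).card := by
      have he : MulAction.orbit (ConjAct m22Group) (nseElem i) = (↑(cls i) : Set m22Group) := by
        ext g
        rw [ConjAct.mem_orbit_conjAct, SetLike.mem_coe]
        simp only [cls, Finset.mem_filter, Finset.mem_univ, true_and]
        exact isConj_comm
      rw [he, Nat.card_coe_set_eq, Set.ncard_coe_finset]
    have hS : Nat.card (MulAction.stabilizer (ConjAct m22Group) (nseElem i)) ≤ nseCent i := by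
      rw [ConjAct.stabilizer_eq_centralizer]
      exact nseElem_cent i
    rw [hG, hO, ← nse_size_mul i] at h
    have hp : 0 < nseCent i := Nat.pos_of_ne_zero fun h0 => by simpa [h0] using nse_size_mul i
    refine Nat.le_of_mul_le_mul_right ?_ hp
    rw [← h]
    exact Nat.mul_le_mul_left _ hS
  have hdisj : (↑(Finset.univ : Finset (Fin 12)) : Set (Fin 12)).PairwiseDisjoint cls := by
    intro i _ j _ hij
    rw [Function.onFun, Finset.disjoint_left]
    intro g hi hj
    simp only [cls, Finset.mem_filter, Finset.mem_univ, true_and] at hi hj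
    rcases lt_or_gt_of_ne hij with h | h
    · exact nseElem_not_conj h (hi.trans hj.symm)
    · exact nseElem_not_conj h (hj.trans hi.symm)
  have hsum : ∑ i, (cls i).card = 443520 ∧ ∀ g, ∃ i, g ∈ cls i := by
    have h1 : 443520 ≤ ∑ i, (cls i).card :=
      nse_size_sum ▸ Finset.sum_le_sum fun i _ => hcls i
    have hG : Fintype.card m22Group = 443520 := by rw [← Nat.card_eq_fintype_card, card_m22]
    have h2 : (Finset.univ.biUnion cls).card = ∑ i, (cls i).card := Finset.card_biUnion hdisj
    have h3 : (Finset.univ.biUnion cls).card ≤ 443520 := hG ▸ Finset.card_le_univ _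
    refine ⟨by omega, fun g => ?_⟩
    have h4 : Finset.univ.biUnion cls = Finset.univ :=
      Finset.eq_univ_of_card _ (by omega)
    simpa using Finset.ext_iff.1 h4 g
  have heq : ∀ i, (cls i).card = nseSize i := fun i =>
    (((Finset.sum_eq_sum_iff_of_le fun i _ => hcls i).1 (nse_size_sum.trans hsum.1.symm)) i
      (Finset.mem_univ i)).symm
  have hord : ∀ {i g}, g ∈ cls i → orderOf g = nseOrd i := by
    intro i g hg
    simp only [cls, Finset.mem_filter, Finset.mem_univ, true_and] at hg
    obtain ⟨c, rfl⟩ := isConj_iff.1 hg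
    rw [← nseElem_order i]
    exact (MulAut.conj c).orderOf_eq (nseElem i)
  have hset : (Finset.univ.filter fun g : m22Group => orderOf g = n) =
      (Finset.univ.filter fun i => nseOrd i = n).biUnion cls := by
    ext g
    simp only [Finset.mem_biUnion, Finset.mem_filter, Finset.mem_univ, true_and]
    refine ⟨fun hg => ?_, fun ⟨i, hi, hg⟩ => (hord hg).trans hi⟩
    obtain ⟨i, hi⟩ := hsum.2 g
    exact ⟨i, (hord hi).symm.trans hg, hi⟩
  rw [Nat.card_eq_fintype_card, Fintype.card_subtype, hset,
    Finset.card_biUnion (hdisj.subset (by simp))]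
  exact Finset.sum_congr rfl fun i _ => heq i

/-- The number of elements of order `n` in M22. -/
theorem card_M22_order_eq (n : ℕ) : Nat.card {g : Cfsg.Spor.M22 // orderOf g = n} =
    ∑ i ∈ Finset.univ.filter (fun i => nseOrd i = n), nseSize i := by
  rw [← card_m22_order_eq n]
  let e := MulEquiv.subgroupCongr Fusion.Mathieu.eq_m22
  exact Nat.card_congr (e.toEquiv.subtypeEquiv fun g => by
    rw [show e.toEquiv g = e g from rfl, e.orderOf_eq])

/-- The numbers of elements of equal order in M22. -/
theorem m22_count_set :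
    {c : ℕ | 0 < c ∧ ∃ n : ℕ, c = Nat.card {g : Cfsg.Spor.M22 // orderOf g = n}} =
      {1, 1155, 12320, 41580, 88704, 36960, 126720, 55440, 80640} := by
  ext c
  simp only [card_M22_order_eq, Set.mem_ofPred_eq, Set.mem_insert_iff, Set.mem_singleton_iff]
  constructor
  · rintro ⟨hc, n, rfl⟩
    obtain ⟨i, hi, -⟩ := Finset.exists_ne_zero_of_sum_ne_zero hc.ne'
    rw [Finset.mem_filter] at hi
    obtain ⟨-, rfl⟩ := hi
    clear hc
    revert i
    decide
  · rintro (rfl | rfl | rfl | rfl | rfl | rfl | rfl | rfl | rfl)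
    exacts [⟨by norm_num, 1, by decide⟩, ⟨by norm_num, 2, by decide⟩, ⟨by norm_num, 3, by decide⟩,
      ⟨by norm_num, 4, by decide⟩, ⟨by norm_num, 5, by decide⟩, ⟨by norm_num, 6, by decide⟩,
      ⟨by norm_num, 7, by decide⟩, ⟨by norm_num, 8, by decide⟩, ⟨by norm_num, 11, by decide⟩]

end Cfsg.Agent.Lib.M22Nse57
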