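import Mathlib

/-!
Interfaces for the recognition of the Mathieu group of degree 22 by order and element counts.
`Facts G` is what the counting hypothesis gives, `Local G` is the local structure it forces.
-/

set_option autoImplicit false

namespace Cfsg.Agent.Lib.M22Nse57

universe u

/-- What the order and the numbers of elements of each order give. -/
structure Facts (G : Type u) [Group G] : Prop where
  card : Nat.card G = 443520
  simple : IsSimpleGroup G
  ord_mem : ∀ g : G, orderOf g ∈ ({1, 2, 3, 4, 5, 6, 7, 8, 11} : Finset ℕ)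
  c2 : Nat.card {g : G // orderOf g = 2} = 1155
  c3 : Nat.card {g : G // orderOf g = 3} = 12320
  c5 : Nat.card {g : G // orderOf g = 5} = 88704
  c6 : Nat.card {g : G // orderOf g = 6} = 36960
  c7 : Nat.card {g : G // orderOf g = 7} = 126720
  c11 : Nat.card {g : G // orderOf g = 11} = 80640

/-- A subgroup of order sixteen with the properties of the hexad subgroups. -/
structure Local {G : Type u} [Group G] (A : Subgroup G) : Prop where
  card : Nat.card A = 16
  sq : ∀ a ∈ A, a * a = 1
  cent : Subgroup.centralizer (A : Set G) ≤ A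
  card_norm : Nat.card (Subgroup.normalizer (A : Set G)) = 5760
  cent_le : ∀ a ∈ A, a ≠ 1 → Subgroup.centralizer ({a} : Set G) ≤ Subgroup.normalizer (A : Set G)
  trans : ∀ a ∈ A, ∀ b ∈ A, a ≠ 1 → b ≠ 1 →
    ∃ n ∈ Subgroup.normalizer (A : Set G), n * a * n⁻¹ = b
  ti : ∀ g : G, ∀ a ∈ A, g * a * g⁻¹ ∈ A → a ≠ 1 → g ∈ Subgroup.normalizer (A : Set G)
  cover : ∀ x : G, orderOf x = 2 → ∃ g : G, g * x * g⁻¹ ∈ A

end Cfsg.Agent.Lib.M22Nse57
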