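import Cfsg.Agent.Lib.M22Nse57.Facts

/-!
The action of a group with the data `Facts` on the cosets of the normaliser of a subgroup with the
data `Local`: fixed points of elements of order five, the self-paired suborbit of size sixteen.
-/

set_option autoImplicit false
set_option linter.unusedSectionVars false
set_option linter.style.haveILetI false

namespace Cfsg.Agent.Lib.M22Nse57.Graph

open MulAction

universe u

variable {G : Type u} [Group G] [Finite G]

/-- Counting modulo five the points moved by an element of order five. -/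
theorem card_mod_five {α : Type*} [MulAction G α] [Finite α] {x : G} (hx : orderOf x = 5)
    (S : Set α) (hS : ∀ s ∈ S, x • s ∈ S) :
    S.ncard % 5 = ({s ∈ S | x • s = s} : Set α).ncard % 5 := by
  classical
  haveI : Fact (Nat.Prime 5) := ⟨by norm_num⟩
  have hpow : ∀ (k : ℕ) (s : α), s ∈ S → x ^ k • s ∈ S := by
    intro k
    induction k with
    | zero => intro s hs; simpa using hs
    | succ k ih =>
      intro s hs
      rw [pow_succ', mul_smul]
      exact hS _ (ih s hs)
  let T : SubMulAction (Subgroup.zpowers x) α :=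
    { carrier := S
      smul_mem' := by
        intro c s hs
        obtain ⟨k, hk⟩ := mem_powers_iff_mem_zpowers.2 c.2
        show (c : G) • s ∈ S
        have hk' : x ^ k = (c : G) := hk
        rw [← hk']
        exact hpow k s hs }
  have hp : IsPGroup 5 (Subgroup.zpowers x) :=
    IsPGroup.of_card (n := 1) (by rw [Nat.card_zpowers, hx, pow_one])
  have h := hp.card_modEq_card_fixedPoints T
  have hT : Nat.card T = S.ncard := Nat.card_coe_set_eq S
  have hF : Nat.card (fixedPoints (Subgroup.zpowers x) T) =
      ({s ∈ S | x • s = s} : Set α).ncard := by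
    rw [← Nat.card_coe_set_eq]
    refine Nat.card_congr
      { toFun := fun s => ⟨s.1.1, s.1.2, congrArg Subtype.val (s.2 ⟨x, Subgroup.mem_zpowers x⟩)⟩
        invFun := fun s => ⟨⟨s.1, s.2.1⟩, ?_⟩
        left_inv := fun s => rfl
        right_inv := fun s => rfl }
    intro c
    obtain ⟨k, hk⟩ := mem_powers_iff_mem_zpowers.2 c.2
    have hk' : x ^ k = (c : G) := hk
    apply Subtype.ext
    show (c : G) • s.1 = s.1
    rw [← hk']
    clear hk hk'
    induction k with
    | zero => simp
    | succ k ih => rw [pow_succ', mul_smul, ih, s.2.2]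
  rw [hT, hF] at h
  exact h

/-- The order of an element commuting with an element of order five is one or five. -/
theorem orderOf_of_commute_five (F : Facts G) {x c : G} (hx : orderOf x = 5)
    (hc : Commute c x) : orderOf c = 1 ∨ orderOf c = 5 := by
  by_cases h5 : 5 ∣ orderOf c
  · have := F.ord_mem c
    simp only [Finset.mem_insert, Finset.mem_singleton] at this
    omega
  · have hcop : (orderOf c).Coprime (orderOf x) := by
      rw [hx]
      exact ((Nat.prime_five.coprime_iff_not_dvd).2 h5).symm
    have hm := hc.orderOf_mul_eq_mul_orderOf_of_coprime hcop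
    have h1 := F.ord_mem (c * x)
    rw [hm, hx] at h1
    simp only [Finset.mem_insert, Finset.mem_singleton] at h1
    omega

theorem centralizer_five (F : Facts G) {x : G} (hx : orderOf x = 5) :
    Subgroup.centralizer ({x} : Set G) = Subgroup.zpowers x := by
  haveI : Fact (Nat.Prime 5) := ⟨by norm_num⟩
  have hle : Subgroup.zpowers x ≤ Subgroup.centralizer ({x} : Set G) := by
    rw [Subgroup.zpowers_le, Subgroup.mem_centralizer_singleton_iff]
  have hp : IsPGroup 5 (Subgroup.centralizer ({x} : Set G)) := by
    rw [IsPGroup.iff_orderOf]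
    intro c
    have hc : Commute (c : G) x := Subgroup.mem_centralizer_singleton_iff.1 c.2
    rw [← Subgroup.orderOf_coe]
    rcases orderOf_of_commute_five F hx hc with h | h
    · exact ⟨0, by simpa using h⟩
    · exact ⟨1, by simpa using h⟩
  obtain ⟨k, hk⟩ := hp.exists_card_eq
  have hd := Subgroup.card_subgroup_dvd_card (Subgroup.centralizer ({x} : Set G))
  rw [hk, F.card] at hd
  have hk1 : k ≤ 1 := by
    by_contra hcon
    have : 5 ^ 2 ∣ 443520 := dvd_trans (pow_dvd_pow 5 (by omega)) hd
    norm_num at this
  refine (Subgroup.eq_of_le_of_card_ge hle ?_).symm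
  rw [hk, Nat.card_zpowers, hx]
  calc 5 ^ k ≤ 5 ^ 1 := Nat.pow_le_pow_right (by norm_num) hk1
    _ = 5 := by norm_num

theorem card_normalizer_five_dvd (F : Facts G) {x : G} (hx : orderOf x = 5) :
    Nat.card (Subgroup.normalizer (Subgroup.zpowers x : Set G)) ∣ 20 := by
  set φ := Subgroup.normalizerMonoidHom (Subgroup.zpowers x)
  have hk : Nat.card φ.ker = 5 := by
    rw [Subgroup.normalizerMonoidHom_ker,
      Nat.card_congr (Subgroup.subgroupOfEquivOfLe (Subgroup.centralizer_le_normalizer _)).toEquiv,
      Subgroup.zpowers_eq_closure, Subgroup.centralizer_closure, centralizer_five F hx,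
      Nat.card_zpowers, hx]
  have ha : Nat.card (MulAut (Subgroup.zpowers x)) = 4 := by
    rw [IsCyclic.card_mulAut, Nat.card_zpowers, hx, Nat.totient_prime Nat.prime_five]
  have hr : Nat.card φ.range ∣ 4 := ha ▸ Subgroup.card_subgroup_dvd_card φ.range
  rw [Subgroup.card_eq_card_quotient_mul_card_subgroup φ.ker,
    Nat.card_congr (QuotientGroup.quotientKerEquivRange φ).toEquiv, hk]
  exact Nat.mul_dvd_mul_right hr 5

/-- An element of order five normalising a group of order five lies in it. -/
theorem mem_zpowers_of_normalizer (F : Facts G) {x y : G} (hx : orderOf x = 5)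
    (hy : orderOf y = 5) (h : y ∈ Subgroup.normalizer (Subgroup.zpowers x : Set G)) :
    y ∈ Subgroup.zpowers x := by
  haveI : Fact (Nat.Prime 5) := ⟨by norm_num⟩
  set φ := Subgroup.normalizerMonoidHom (Subgroup.zpowers x)
  have ha : Nat.card (MulAut (Subgroup.zpowers x)) = 4 := by
    rw [IsCyclic.card_mulAut, Nat.card_zpowers, hx, Nat.totient_prime Nat.prime_five]
  have h1 : orderOf (φ ⟨y, h⟩) ∣ 5 := by
    refine dvd_trans (orderOf_map_dvd φ _) ?_
    rw [← Subgroup.orderOf_coe]
    exact hy.dvd
  have h2 : orderOf (φ ⟨y, h⟩) ∣ 4 := ha ▸ orderOf_dvd_natCard _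
  have h3 : φ ⟨y, h⟩ = 1 := orderOf_eq_one_iff.1 (Nat.dvd_one.1 (Nat.dvd_gcd h1 h2))
  have h4 : (⟨y, h⟩ : Subgroup.normalizer (Subgroup.zpowers x : Set G)) ∈ φ.ker := h3
  rw [Subgroup.normalizerMonoidHom_ker, Subgroup.mem_subgroupOf] at h4
  rw [← centralizer_five F hx]
  rw [Subgroup.mem_centralizer_singleton_iff]
  exact (Subgroup.mem_centralizer_iff.1 h4 x (Subgroup.mem_zpowers x)).symm

/-- Inside a subgroup, the number of conjugates of a group of order five is one modulo five. -/
theorem five_conj (F : Facts G) {x : G} (hx : orderOf x = 5) (H : Subgroup G) (hxH : x ∈ H) :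
    ((Subgroup.normalizer (Subgroup.zpowers x : Set G)).subgroupOf H).index % 5 = 1 ∧
      ∀ y ∈ H, orderOf y = 5 → ∃ h ∈ H, h⁻¹ * y * h ∈ Subgroup.zpowers x := by
  classical
  set K := (Subgroup.normalizer (Subgroup.zpowers x : Set G)).subgroupOf H
  have hfix : ∀ y : H, orderOf (y : G) = 5 → ∀ h : H, y • (h : H ⧸ K) = (h : H ⧸ K) →
      (h : G)⁻¹ * (y : G) * (h : G) ∈ Subgroup.zpowers x := by
    intro y hy h hh
    rw [show y • (h : H ⧸ K) = ((y * h : H) : H ⧸ K) from rfl, QuotientGroup.eq,
      Subgroup.mem_subgroupOf] at hh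
    refine mem_zpowers_of_normalizer F hx ?_ ?_
    · rw [← hy]
      simpa [conj_mul] using (MulEquiv.orderOf_eq (MulAut.conj (h : G)⁻¹) (y : G))
    · have := inv_mem hh
      simpa [mul_assoc] using this
  have hoy : ∀ y : H, orderOf (y : G) = 5 → orderOf y = 5 := fun y hy => by
    rw [← Subgroup.orderOf_coe, hy]
  have hx' : orderOf (⟨x, hxH⟩ : H) = 5 := hoy _ hx
  have hone : (K.index) % 5 = 1 := by
    have h := card_mod_five hx' (Set.univ : Set (H ⧸ K)) (fun _ _ => Set.mem_univ _)
    rw [Set.ncard_univ, ← Subgroup.index_eq_card] at h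
    rw [h]
    have hset : ({s ∈ (Set.univ : Set (H ⧸ K)) | (⟨x, hxH⟩ : H) • s = s}) = {((1 : H) : H ⧸ K)} := by
      ext s
      induction s using QuotientGroup.induction_on with
      | H h =>
        simp only [Set.mem_univ, true_and, Set.mem_ofPred_eq, Set.mem_singleton_iff]
        constructor
        · intro hh
          have hm := hfix ⟨x, hxH⟩ hx h hh
          rw [QuotientGroup.eq, Subgroup.mem_subgroupOf]
          simp only [mul_one, Subgroup.coe_inv]
          have hn : (h : G)⁻¹ ∈ Subgroup.normalizer (Subgroup.zpowers x : Set G) := by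
            rw [Subgroup.mem_normalizer_iff']
            intro z
            have hz : Subgroup.zpowers ((h : G)⁻¹ * x * (h : G)) = Subgroup.zpowers x := by
              refine Subgroup.eq_of_le_of_card_ge (Subgroup.zpowers_le.2 hm) ?_
              rw [Nat.card_zpowers, Nat.card_zpowers]
              have := MulEquiv.orderOf_eq (MulAut.conj (h : G)⁻¹) x
              simp only [MulAut.conj_apply, inv_inv] at this
              rw [this]
            constructor
            · intro hzh
              obtain ⟨k, hk⟩ := Subgroup.mem_zpowers_iff.1 hzh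
              rw [← hz, Subgroup.mem_zpowers_iff]
              refine ⟨k, ?_⟩
              have hc : ((h : G)⁻¹ * x * (h : G)) ^ k = (h : G)⁻¹ * x ^ k * (h : G) := by
                simpa using (conj_zpow (a := (h : G)⁻¹) (b := x) (i := k))
              rw [hc, hk]
              group
            · intro hzh
              rw [← hz] at hzh
              obtain ⟨k, hk⟩ := Subgroup.mem_zpowers_iff.1 hzh
              rw [Subgroup.mem_zpowers_iff]
              refine ⟨k, ?_⟩
              have hc : ((h : G)⁻¹ * x * (h : G)) ^ k = (h : G)⁻¹ * x ^ k * (h : G) := by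
                simpa using (conj_zpow (a := (h : G)⁻¹) (b := x) (i := k))
              rw [hc] at hk
              calc x ^ k = (h : G) * ((h : G)⁻¹ * x ^ k * (h : G)) * (h : G)⁻¹ := by group
                _ = _ := by rw [hk]; group
          exact hn
        · intro hh
          rw [hh, show (⟨x, hxH⟩ : H) • ((1 : H) : H ⧸ K) = (((⟨x, hxH⟩ : H) * 1 : H) : H ⧸ K) from rfl,
            QuotientGroup.eq, Subgroup.mem_subgroupOf]
          simp only [mul_one, Subgroup.coe_inv]
          exact inv_mem (Subgroup.le_normalizer (Subgroup.mem_zpowers x))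
    rw [hset, Set.ncard_singleton]
  refine ⟨hone, fun y hy hy5 => ?_⟩
  by_contra hne
  push Not at hne
  have h := card_mod_five (hoy ⟨y, hy⟩ hy5) (Set.univ : Set (H ⧸ K)) (fun _ _ => Set.mem_univ _)
  rw [Set.ncard_univ, ← Subgroup.index_eq_card, hone] at h
  have hset : ({s ∈ (Set.univ : Set (H ⧸ K)) | (⟨y, hy⟩ : H) • s = s}) = ∅ := by
    ext s
    induction s using QuotientGroup.induction_on with
    | H h =>
      simp only [Set.mem_univ, true_and, Set.mem_ofPred_eq, Set.mem_empty_iff_false, iff_false]
      exact fun hh => hne h h.2 (hfix ⟨y, hy⟩ hy5 h hh)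
  rw [hset, Set.ncard_empty] at h
  omega

end Cfsg.Agent.Lib.M22Nse57.Graph
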