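import Cfsg.Agent.Lib.M22Nse57.GraphModel

/-! The sets of five pairwise compatible lines are the six spreads. -/

set_option autoImplicit false
set_option maxRecDepth 100000

namespace Cfsg.Agent.Lib.M22Nse57.GraphModel

theorem cliques : ∀ sel ∈ [81, 50, 28], (List.range 32768).all (cliqueOK sel) = true := by
  decide +kernel

end Cfsg.Agent.Lib.M22Nse57.GraphModel
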