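import Cfsg.Agent.Lib.M22Nse57.GraphTables

/-!
The finite checks for the graph on seventy-seven vertices attached to fifteen lines of a space of
order sixteen: a vertex at infinity, the sixteen points, and the sixty cosets of the lines.
-/

set_option autoImplicit false
set_option maxRecDepth 100000

namespace Cfsg.Agent.Lib.M22Nse57.GraphModel

/-- The mask of a line. -/
def lm (k : ℕ) : ℕ := lineMasks.getD k 0

/-- The number of points in a mask of width `w`. -/
def popW (w m : ℕ) : ℕ := (List.range w).countP (fun n => m.testBit n)

/-- The translate of a mask. -/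
def tr (a m : ℕ) : ℕ :=
  (List.range 16).foldr (fun n r => if m.testBit (n ^^^ a) then r ||| 2 ^ n else r) 0

/-- The companion map of order five. -/
def comp5 (v : ℕ) : ℕ :=
  (if v.testBit 0 then 2 else 0) ^^^ ((if v.testBit 1 then 4 else 0) ^^^
    ((if v.testBit 2 then 8 else 0) ^^^ (if v.testBit 3 then 15 else 0)))

/-- The lines selected by three orbits. -/
def inSel (sel k : ℕ) : Bool := sel.testBit (k / 5)

/-- Every non-zero point is on exactly three selected lines. -/
def regular (sel : ℕ) : Bool :=
  (List.range 15).all fun a =>
    ((List.range 35).filter fun k => inSel sel k && (lm k).testBit (a + 1)).length == 3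

/-- The line with a given index among the selected ones. -/
def line (sel g : ℕ) : ℕ := lm ((lineTable sel).getD g 0)

/-- The coset with a given index among the sixty. -/
def coset (sel i : ℕ) : ℕ := (cosetTable sel).getD i 0

/-- The forced neighbours of a coset. -/
def cand (sel i : ℕ) : ℕ := (candTable sel).getD i 0

/-- Two different selected lines meet non-trivially. -/
def meets (sel g h : ℕ) : Bool := g != h && (line sel g &&& line sel h) != 1

/-- Adjacency of the seventy-seven vertices. -/
def adj77 (sel i j : ℕ) : Bool :=
  if i = 0 then decide (1 ≤ j) && decide (j ≤ 16)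
  else if j = 0 then decide (i ≤ 16)
  else if i ≤ 16 then decide (16 < j) && (coset sel (j - 17)).testBit (i - 1)
  else if j ≤ 16 then (coset sel (i - 17)).testBit (j - 1)
  else (cand sel (i - 17)).testBit (j - 17)

theorem line_cover : ∀ a < 15, ∀ b < 15, a ≠ b → ∃ k < 35,
    lm k = 1 ||| 2 ^ (a + 1) ||| 2 ^ (b + 1) ||| 2 ^ ((a + 1) ^^^ (b + 1)) := by decide +kernel

theorem line_rot : ∀ k < 35, ∀ n < 16,
    (lm (5 * (k / 5) + (k % 5 + 1) % 5)).testBit (comp5 n) = (lm k).testBit n := by decide +kernel

theorem line_inj : ∀ k < 35, ∀ l < 35, lm k = lm l → k = l := by decide +kernel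

theorem comp5_xor : ∀ a < 16, ∀ b < 16, comp5 (a ^^^ b) = comp5 a ^^^ comp5 b := by decide +kernel

theorem regular_sel : ∀ sel < 128, regular sel = true →
    sel ∈ [81, 50, 28, 41, 70] := by decide +kernel

theorem lineTable_spec : ∀ sel ∈ [81, 50, 28, 41, 70],
    lineTable sel = (List.range 35).filter (inSel sel) ∧ (lineTable sel).length = 15 := by
  decide +kernel

/-- A point lies in exactly one of the four cosets of a line, and that is its translate. -/
theorem coset_spec : ∀ sel ∈ [81, 50, 28, 41, 70], ∀ g < 15, ∀ n < 16, ∃ r < 4,
    coset sel (4 * g + r) = tr n (line sel g) ∧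
      ∀ s < 4, (coset sel (4 * g + s)).testBit n = true → s = r := by decide +kernel

theorem cand_spec : ∀ sel ∈ [81, 50, 28, 41, 70], (List.range 60).all (fun i =>
    (List.range 60).all fun j => (cand sel i).testBit j ==
      (meets sel (i / 4) (j / 4) && (coset sel i &&& coset sel j == 0))) = true := by decide +kernel

theorem tri_bad : ∀ sel ∈ [41, 70], (List.range 60).any (fun i => (List.range 60).any fun j =>
    (cand sel i).testBit j && (cand sel i &&& cand sel j) != 0) = true := by decide +kernel

theorem cand_card : ∀ sel ∈ [81, 50, 28, 41, 70], ∀ i < 60, popW 60 (cand sel i) = 12 := by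
  decide +kernel

theorem cand_pair : ∀ sel ∈ [81, 50, 28, 41, 70], ∀ g < 15, ∀ r < 4, ∀ s < 4, r ≠ s →
    popW 60 (cand sel (4 * g + r) &&& cand sel (4 * g + s)) = 4 := by decide +kernel

theorem cand_triple : ∀ sel ∈ [81, 50, 28, 41, 70], (List.range 15).all (fun g =>
    (List.range 4).all fun r => (List.range 4).all fun s => (List.range 4).all fun t =>
      r == s || r == t || s == t ||
      cand sel (4 * g + r) &&& (cand sel (4 * g + s) &&& cand sel (4 * g + t)) == 0) = true := by
  decide +kernel

theorem meet_cosets : ∀ sel ∈ [81, 50, 28, 41, 70], (List.range 60).all (fun i =>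
    (List.range 60).all fun j => !meets sel (i / 4) (j / 4) || (coset sel i &&& coset sel j == 0) ||
      Nat.ble 2 (popW 16 (coset sel i &&& coset sel j))) = true := by decide +kernel

theorem apart_cosets : ∀ sel ∈ [81, 50, 28, 41, 70], (List.range 60).all (fun i =>
    (List.range 60).all fun j => i / 4 == j / 4 || meets sel (i / 4) (j / 4) ||
      coset sel i &&& coset sel j != 0) = true := by decide +kernel

theorem nbTable_spec : ∀ sel ∈ [81, 50, 28], (List.range 77).all (fun i => (List.range 77).all fun j =>
    ((nbTable sel).getD i 0).testBit j == adj77 sel i j) = true := by decide +kernel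

theorem confTable_spec : ∀ sel ∈ [81, 50, 28], ∀ g < 15, ∀ h < 15,
    ((confTable sel).getD g 0).testBit h = meets sel g h := by decide +kernel

/-- No selected line of the mask meets another one. -/
def compat (sel m : ℕ) : Bool :=
  (List.range 15).all fun a => !m.testBit a || (m &&& (confTable sel).getD a 0 == 0)

/-- A set of fifteen-bit masks is small or a spread of the table. -/
def cliqueOK (sel m : ℕ) : Bool :=
  !compat sel m || Nat.blt (popW 15 m) 5 || (spreadTable sel).any fun s => s == m

theorem spreads_spec : ∀ sel ∈ [81, 50, 28], (spreadTable sel).length = 6 ∧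
    (spreadTable sel).all (fun s => Nat.blt s 32768 && popW 15 s == 5 && compat sel s) = true := by
  decide +kernel

/-- The vertices of a star. -/
def starIdx (s : ℕ) : List ℕ :=
  0 :: ((List.range 60).filter fun i => s.testBit (i / 4)).map fun i => 17 + i

/-- A mask has at most one point. -/
def small (m : ℕ) : Bool := m == 0 || m == 2 ^ Nat.log2 m

/-- Three vertices: the first two are apart and all three have few common neighbours. -/
def goodIdx (sel i j l : ℕ) : Bool :=
  !((nbTable sel).getD i 0).testBit j &&
    small ((nbTable sel).getD i 0 &&& ((nbTable sel).getD j 0 &&& (nbTable sel).getD l 0))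

end Cfsg.Agent.Lib.M22Nse57.GraphModel
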