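import Cfsg.Agent.Lib.M22Nse57.GraphLines
import Cfsg.Agent.Lib.M22Nse57.GraphModel

/-!
Coordinates on the subgroup of order sixteen in which the fifteen lines are a selection of the table.
-/

set_option autoImplicit false

namespace Cfsg.Agent.Lib.M22Nse57.Graph

open MulAction GraphModel

universe u

variable {G : Type u} [Group G] {A : Subgroup G}

/-- Coordinates identifying the lines with selected lines of the table, with one neighbour of the
second fixed point on each line. -/
structure Coded (S : Seed A) (sel : ℕ) where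
  f : ℕ → G
  sel_mem : sel ∈ [81, 50, 28, 41, 70]
  mem : ∀ n < 16, f n ∈ A
  mul : ∀ m < 16, ∀ n < 16, f (m ^^^ n) = f m * f n
  surj : ∀ a ∈ A, ∃ n < 16, f n = a
  inj : ∀ m < 16, ∀ n < 16, f m = f n → m = n
  rep : ℕ → G ⧸ nA A
  rep_adj : ∀ g < 15, S.InR (rep g) ∧ S.Adj S.b (rep g)
  rep_fix : ∀ g < 15, ∀ n < 16, f n ∈ fixA (rep g) ↔ (line sel g).testBit n = true
  cover : ∀ y, S.InR y → ∃ g < 15, ∃ a ∈ A, a • rep g = y

end Cfsg.Agent.Lib.M22Nse57.Graph
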