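import Cfsg.Agent.Lib.M22Nse57.GraphLines

/-!
There are fifteen lines, three through each non-trivial element, and each line is the line of exactly
one neighbour of the second fixed point in the long suborbit.
-/

set_option autoImplicit false
set_option linter.unusedSectionVars false
set_option linter.style.haveILetI false

namespace Cfsg.Agent.Lib.M22Nse57.Graph

open MulAction

universe u

variable {G : Type u} [Group G] {A : Subgroup G}

/-- The neighbours of the second fixed point in the long suborbit. -/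
def Seed.xb (S : Seed A) : Set (G ⧸ nA A) := {z | S.InR z ∧ S.Adj S.b z}

variable [Finite G]

namespace Seed

variable (S : Seed A)

theorem fixA_smul_A (L : Local A) {a : G} (ha : a ∈ A) (y : G ⧸ nA A) :
    fixA (a • y) = fixA y := by
  ext c
  rw [mem_fixA, mem_fixA]
  refine and_congr_right fun hc => ?_
  rw [← mul_smul, comm_A L hc ha, mul_smul, smul_left_cancel_iff]

theorem fixA_conj {n : G} (hn : n ∈ nA A) (y : G ⧸ nA A) :
    fixA (n • y) = (fixA y).map (MulAut.conj n).toMonoidHom := by
  ext c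
  rw [Subgroup.mem_map_equiv, ← fixA_smul hn y ((MulAut.conj n).symm c)]
  simp [mul_assoc]

theorem lines_conj {n : G} (hn : n ∈ nA A) {W : Subgroup G} (hW : W ∈ S.lines) :
    W.map (MulAut.conj n).toMonoidHom ∈ S.lines := by
  obtain ⟨y, hy, rfl⟩ := hW
  exact ⟨n • y, S.inR_smul hn hy, fixA_conj hn y⟩

theorem card_lines (F : Facts G) (L : Local A) (Q : Quot A) : S.lines.ncard = 15 := by
  classical
  obtain ⟨y, hy⟩ : ∃ y, S.InR y := by
    by_contra hne
    push Not at hne
    have h := S.ncard_R F L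
    rw [show {y | S.InR y} = (∅ : Set (G ⧸ nA A)) from Set.eq_empty_iff_forall_notMem.2 hne,
      Set.ncard_empty] at h
    omega
  obtain ⟨h4, htr, h96⟩ := S.card_fixA_and_trans F L Q hy
  set U := fixA y
  let T : Subgroup (nA A) := (Subgroup.normalizer (U : Set G)).subgroupOf (nA A)
  have hmemT : ∀ n : nA A, n ∈ T ↔ U.map (MulAut.conj (n : G)).toMonoidHom = U := by
    intro n
    rw [Subgroup.mem_subgroupOf, Subgroup.mem_normalizer_iff]
    constructor
    · intro h
      ext c
      rw [Subgroup.mem_map_equiv, h ((MulAut.conj (n : G)).symm c)]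
      simp [mul_assoc]
    · intro h c
      conv_rhs => rw [← h]
      rw [Subgroup.mem_map_equiv]
      simp [mul_assoc]
  let φ : (nA A) ⧸ T → S.lines := fun q => Quotient.liftOn' q
    (fun n => ⟨U.map (MulAut.conj (n : G)).toMonoidHom, S.lines_conj n.2 ⟨y, hy, rfl⟩⟩)
    (fun n m hnm => by
      rw [QuotientGroup.leftRel_apply, hmemT] at hnm
      apply Subtype.ext
      show U.map (MulAut.conj (n : G)).toMonoidHom = U.map (MulAut.conj (m : G)).toMonoidHom
      conv_lhs => rw [← hnm]
      rw [Subgroup.map_map]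
      congr 1
      ext c
      simp [mul_assoc])
  have hφ : Function.Bijective φ := by
    constructor
    · intro p q hpq
      induction p using QuotientGroup.induction_on with
      | H n =>
        induction q using QuotientGroup.induction_on with
        | H m =>
          rw [QuotientGroup.eq, hmemT]
          have h : U.map (MulAut.conj (n : G)).toMonoidHom = U.map (MulAut.conj (m : G)).toMonoidHom :=
            congrArg Subtype.val hpq
          have h' := congrArg (Subgroup.map (MulAut.conj (n : G)⁻¹).toMonoidHom) h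
          rw [Subgroup.map_map, Subgroup.map_map] at h'
          have e1 : (MulAut.conj (n : G)⁻¹).toMonoidHom.comp (MulAut.conj (n : G)).toMonoidHom =
              MonoidHom.id G := by
            ext c; simp [mul_assoc]
          have e2 : (MulAut.conj (n : G)⁻¹).toMonoidHom.comp (MulAut.conj (m : G)).toMonoidHom =
              (MulAut.conj ((n⁻¹ * m : nA A) : G)).toMonoidHom := by
            ext c; simp [mul_assoc]
          rw [e1, e2, Subgroup.map_id] at h'
          exact h'.symm
    · rintro ⟨W, z, hz, rfl⟩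
      obtain ⟨n, hn, rfl⟩ := htr z hz
      exact ⟨((⟨n, hn⟩ : nA A) : (nA A) ⧸ T), Subtype.ext (fixA_conj hn y).symm⟩
  rw [← Nat.card_coe_set_eq, ← Nat.card_congr (Equiv.ofBijective φ hφ), ← Subgroup.index_eq_card]
  -- the stabiliser of a point fixes its line and maps onto a subgroup of order twenty-four
  let f := Q.π.comp (stabilizer (nA A) y).subtype
  have hsub : f.range ≤ T.map Q.π := by
    rintro _ ⟨n, rfl⟩
    refine Subgroup.mem_map.2 ⟨n, (hmemT _).2 ?_, rfl⟩
    rw [← fixA_conj n.1.2 y, show ((n : nA A) : G) • y = y from n.2]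
  have hker : Nat.card f.ker = Nat.card U :=
    Nat.card_congr
      { toFun := fun n => ⟨(n.1.1 : G), (Q.ker _).1 n.2, n.1.2⟩
        invFun := fun a => ⟨⟨⟨a.1, Subgroup.le_normalizer a.2.1⟩, a.2.2⟩, (Q.ker _).2 a.2.1⟩
        left_inv := fun n => rfl
        right_inv := fun a => rfl }
  have h24 : Nat.card f.range = 24 := by
    have h := Subgroup.card_eq_card_quotient_mul_card_subgroup f.ker
    rw [Nat.card_congr (QuotientGroup.quotientKerEquivRange f).toEquiv, hker, h4, h96] at h
    omega
  have hkerT : Q.π.ker ≤ T := by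
    intro n hn
    rw [hmemT, ← fixA_conj n.2 y]
    exact fixA_smul_A L ((Q.ker n).1 hn) y
  have hidx : (T.map Q.π).index = T.index := Subgroup.index_map_eq T Q.surj hkerT
  have hd := Subgroup.card_dvd_of_le hsub
  rw [h24] at hd
  have hmul := (T.map Q.π).card_mul_index
  rw [nat_card_alternatingGroup, Nat.card_fin, show Nat.factorial 6 / 2 = 360 by decide] at hmul
  obtain ⟨k, hk⟩ := hd
  rw [hk, hidx, show 360 = 24 * 15 by norm_num, mul_assoc] at hmul
  have hdvd : T.index ∣ 15 := Dvd.intro_left k (Nat.eq_of_mul_eq_mul_left (by norm_num) hmul)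
  have hne : T.map Q.π ≠ ⊤ := by
    intro htop
    have hTtop : T.index = 1 := by rw [← hidx, htop, Subgroup.index_top]
    rw [Subgroup.index_eq_one] at hTtop
    have hx := (hmemT ⟨S.x, S.hxN⟩).1 (hTtop ▸ Subgroup.mem_top _)
    rcases inv_subgroup F L S.hx U inf_le_left (fun a ha => by
      have h' : (MulAut.conj S.x).toMonoidHom a ∈ U.map (MulAut.conj S.x).toMonoidHom :=
        Subgroup.mem_map_of_mem _ ha
      rw [hx] at h'
      simpa using h') with h | h
    · rw [h, Subgroup.card_bot] at h4; omega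
    · rw [h, L.card] at h4; omega
  have h6 := Q.six_index _ hne
  rw [hidx] at h6
  have hmem : T.index ∈ Nat.divisors 15 := Nat.mem_divisors.2 ⟨hdvd, by norm_num⟩
  rw [show Nat.divisors 15 = {1, 3, 5, 15} by decide] at hmem
  simp only [Finset.mem_insert, Finset.mem_singleton] at hmem
  omega

theorem line_card (F : Facts G) (L : Local A) (Q : Quot A) {W : Subgroup G} (hW : W ∈ S.lines) :
    Nat.card W = 4 ∧ W ≤ A := by
  obtain ⟨y, hy, rfl⟩ := hW
  exact ⟨(S.card_fixA_and_trans F L Q hy).1, inf_le_left⟩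

theorem three_lines (F : Facts G) (L : Local A) (Q : Quot A) {a : G} (ha : a ∈ A) (ha1 : a ≠ 1) :
    {W ∈ S.lines | a ∈ W}.ncard = 3 := by
  classical
  haveI : Fintype G := Fintype.ofFinite G
  haveI : Fintype (Subgroup G) := Fintype.ofFinite _
  set X : Finset G := Finset.univ.filter (fun c => c ∈ A ∧ c ≠ 1)
  set Y : Finset (Subgroup G) := Finset.univ.filter (fun W => W ∈ S.lines)
  have hconst : ∀ c ∈ X, (Y.filter fun W => c ∈ W).card = (Y.filter fun W => a ∈ W).card := by
    intro c hc
    obtain ⟨hcA, hc1⟩ := (Finset.mem_filter.1 hc).2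
    obtain ⟨n, hn, hnac⟩ := L.trans a ha c hcA ha1 hc1
    refine (Finset.card_bij (fun W _ => W.map (MulAut.conj n).toMonoidHom) ?_ ?_ ?_).symm
    · intro W hW
      simp only [Y, Finset.mem_filter, Finset.mem_univ, true_and] at hW ⊢
      exact ⟨S.lines_conj hn hW.1, Subgroup.mem_map.2 ⟨a, hW.2, by simp [hnac]⟩⟩
    · intro W _ V _ h
      exact Subgroup.map_injective (MulAut.conj n).injective h
    · intro V hV
      simp only [Y, Finset.mem_filter, Finset.mem_univ, true_and] at hV
      refine ⟨V.map (MulAut.conj n⁻¹).toMonoidHom, ?_, ?_⟩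
      · simp only [Y, Finset.mem_filter, Finset.mem_univ, true_and]
        refine ⟨S.lines_conj (inv_mem hn) hV.1, Subgroup.mem_map.2 ⟨c, hV.2, ?_⟩⟩
        rw [← hnac]; simp [mul_assoc]
      · rw [Subgroup.map_map]
        convert Subgroup.map_id V using 2
        ext d; simp [mul_assoc]
  have hY : Y.card = 15 := by
    rw [← S.card_lines F L Q, ← Set.ncard_coe_finset]
    congr 1
    ext W
    simp [Y]
  have hX : X.card = 15 := by
    have h : X = (Finset.univ.filter (fun c => c ∈ A)).erase 1 := by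
      ext c
      simp [X, and_comm]
    rw [h, Finset.card_erase_of_mem (by simp [one_mem]), ← Fintype.card_subtype]
    have := L.card
    rw [Nat.card_eq_fintype_card] at this
    omega
  have hW3 : ∀ W ∈ Y, (X.filter fun c => c ∈ W).card = 3 := by
    intro W hW
    simp only [Y, Finset.mem_filter, Finset.mem_univ, true_and] at hW
    obtain ⟨h4, hle⟩ := S.line_card F L Q hW
    have h : (X.filter fun c => c ∈ W) = (Finset.univ.filter (fun c => c ∈ W)).erase 1 := by
      ext c
      simp only [X, Finset.mem_filter, Finset.mem_univ, true_and, Finset.mem_erase]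
      exact ⟨fun h => ⟨h.1.2, h.2⟩, fun h => ⟨⟨hle h.2, h.1⟩, h.2⟩⟩
    rw [h, Finset.card_erase_of_mem (by simp [one_mem]), ← Fintype.card_subtype]
    rw [Nat.card_eq_fintype_card] at h4
    have h4' : Fintype.card {c // c ∈ W} = 4 := h4
    omega
  have key := Finset.sum_card_bipartiteAbove_eq_sum_card_bipartiteBelow
    (s := X) (t := Y) (fun c W => c ∈ W)
  simp only [Finset.bipartiteAbove, Finset.bipartiteBelow] at key
  rw [Finset.sum_congr rfl hconst, Finset.sum_congr rfl hW3, Finset.sum_const, Finset.sum_const,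
    smul_eq_mul, smul_eq_mul, hX, hY] at key
  have h3 : (Y.filter fun W => a ∈ W).card = 3 := by omega
  rw [← h3, ← Set.ncard_coe_finset]
  congr 1
  ext W
  simp [Y]

theorem xb_ncard (F : Facts G) (L : Local A) : S.xb.ncard = 15 := by
  have himg : {z | S.Adj S.b z} = (fun z => S.w • z) '' {z | S.Adj (base A) z} := by
    ext z
    constructor
    · intro hz
      refine ⟨S.w⁻¹ • z, ?_, smul_inv_smul _ z⟩
      show S.Adj (base A) (S.w⁻¹ • z)
      refine (S.adj_smul S.w).1 ?_
      rw [smul_inv_smul, smul_coe, mul_one]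
      exact hz
    · rintro ⟨z, hz, rfl⟩
      have h := (S.adj_smul S.w).2 hz
      rwa [smul_coe S.w 1, mul_one] at h
  have heq : S.xb = {z | S.Adj S.b z} \ {base A} := by
    ext z
    simp only [Seed.xb, Seed.InR, Set.mem_ofPred_eq, Set.mem_sdiff, Set.mem_singleton_iff]
    constructor
    · exact fun h => ⟨h.2, h.1.1⟩
    · rintro ⟨h1, h2⟩
      exact ⟨⟨h2, fun h3 => S.no_triangle F L
        ((S.adj_base F L).2 ⟨1, one_mem A, one_smul _ _⟩) h3 h1⟩, h1⟩
  have hbase : S.Adj S.b (base A) :=
    S.adj_symm F L ((S.adj_base F L).2 ⟨1, one_mem A, one_smul _ _⟩)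
  rw [heq, Set.ncard_sdiff_singleton_of_mem (show base A ∈ {z | S.Adj S.b z} from hbase), himg,
    Set.ncard_image_of_injective _ (MulAction.injective S.w), S.nbrs_ncard F L]

theorem xb_unique (F : Facts G) (L : Local A) (Q : Quot A) {W : Subgroup G} (hW : W ∈ S.lines) :
    ∃ z ∈ S.xb, fixA z = W ∧ ∀ z' ∈ S.xb, fixA z' = W → z' = z := by
  classical
  have hmaps : Set.MapsTo (fun z => fixA z) S.xb S.lines := fun z hz => ⟨z, hz.1, rfl⟩
  have hsurj : Set.SurjOn (fun z => fixA z) S.xb S.lines := by
    rintro _ ⟨y, hy, rfl⟩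
    obtain ⟨z, hz⟩ : S.xb.Nonempty :=
      Set.nonempty_of_ncard_ne_zero (by rw [S.xb_ncard F L]; norm_num)
    obtain ⟨n, hn, rfl⟩ := (S.card_fixA_and_trans F L Q hz.1).2.1 y hy
    obtain ⟨a, ha, k, hk, rfl⟩ := S.exists_AK F L hn
    refine ⟨k • z, ⟨S.inR_smul (mem_K.1 hk).1 hz.1, ?_⟩, ?_⟩
    · have h := (S.adj_smul k).2 hz.2
      rwa [(mem_K.1 hk).2] at h
    · show fixA (k • z) = fixA ((a * k) • z)
      rw [mul_smul, fixA_smul_A L ha]
  have hinj : Set.InjOn (fun z => fixA z) S.xb := by
    refine Set.injOn_of_ncard_image_eq ?_ (Set.toFinite _)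
    rw [Set.Subset.antisymm hmaps.image_subset hsurj, S.xb_ncard F L, S.card_lines F L Q]
  obtain ⟨z, hz, hzW⟩ := hsurj hW
  exact ⟨z, hz, hzW, fun z' hz' h' => hinj hz' hz (h'.trans hzW.symm)⟩

theorem cover (F : Facts G) (L : Local A) (Q : Quot A) {y : G ⧸ nA A} (hy : S.InR y) :
    ∃ z ∈ S.xb, ∃ a ∈ A, a • z = y := by
  obtain ⟨z, hz⟩ : S.xb.Nonempty :=
    Set.nonempty_of_ncard_ne_zero (by rw [S.xb_ncard F L]; norm_num)
  obtain ⟨n, hn, rfl⟩ := (S.card_fixA_and_trans F L Q hz.1).2.1 y hy
  obtain ⟨a, ha, k, hk, rfl⟩ := S.exists_AK F L hn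
  refine ⟨k • z, ⟨S.inR_smul (mem_K.1 hk).1 hz.1, ?_⟩, a, ha, (mul_smul a k z).symm⟩
  have h := (S.adj_smul k).2 hz.2
  rwa [(mem_K.1 hk).2] at h

end Seed

end Cfsg.Agent.Lib.M22Nse57.Graph
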