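import Cfsg.Agent.Lib.M22Nse57.GraphCoded
import Cfsg.Agent.Lib.M22Nse57.GraphLineSet

/-!
Coordinates on the subgroup of order sixteen adapted to an element of order five: in them the fifteen
lines form three orbits of the table of thirty-five lines.
-/

set_option autoImplicit false
set_option linter.unusedSectionVars false
set_option linter.style.haveILetI false

namespace Cfsg.Agent.Lib.M22Nse57.Graph

open MulAction GraphModel

universe u

variable {G : Type u} [Group G] {A : Subgroup G}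

/-- An element if a bit is set. -/
def pick (c : G) (p : Bool) : G := if p then c else 1

/-- The conjugates of `v` by the powers of `x`. -/
def cj (x v : G) : ℕ → G
  | 0 => v
  | i + 1 => x * cj x v i * x⁻¹

/-- The map from four-bit numbers. -/
def coord (x v : G) (n : ℕ) : G :=
  pick (cj x v 0) (n.testBit 0) * (pick (cj x v 1) (n.testBit 1) *
    (pick (cj x v 2) (n.testBit 2) * pick (cj x v 3) (n.testBit 3)))

theorem pick_mem {c : G} (hc : c ∈ A) (p : Bool) : pick c p ∈ A := by
  cases p <;> simp [pick, hc]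

theorem pick_xor (L : Local A) {c : G} (hc : c ∈ A) (p q : Bool) :
    pick c (p != q) = pick c p * pick c q := by
  cases p <;> cases q <;> simp [pick, L.sq c hc]

theorem pick_conj (x c : G) (p : Bool) : x * pick c p * x⁻¹ = pick (x * c * x⁻¹) p := by
  cases p <;> simp [pick]

theorem mul_swap_A (L : Local A) {a b c d : G} (hb : b ∈ A) (hc : c ∈ A) :
    (a * b) * (c * d) = (a * c) * (b * d) := by
  rw [mul_assoc, ← mul_assoc b c d, Seed.comm_A L hb hc, mul_assoc, ← mul_assoc a c]

theorem coord_mem {x v : G} (hx : x ∈ nA A) (hv : v ∈ A) (n : ℕ) : coord x v n ∈ A := by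
  have h : ∀ i, cj x v i ∈ A := by
    intro i
    induction i with
    | zero => exact hv
    | succ i ih => exact conj_mem_A hx ih
  exact mul_mem (pick_mem (h 0) _) (mul_mem (pick_mem (h 1) _) (mul_mem (pick_mem (h 2) _)
    (pick_mem (h 3) _)))

theorem cj_mem {x v : G} (hx : x ∈ nA A) (hv : v ∈ A) (i : ℕ) : cj x v i ∈ A := by
  induction i with
  | zero => exact hv
  | succ i ih => exact conj_mem_A hx ih

theorem coord_mul (L : Local A) {x v : G} (hx : x ∈ nA A) (hv : v ∈ A) (m n : ℕ) :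
    coord x v (m ^^^ n) = coord x v m * coord x v n := by
  have h := cj_mem (A := A) hx hv
  have p := fun i b => pick_mem (h i) b
  simp only [coord, Nat.testBit_xor, pick_xor L (h _)]
  symm
  rw [mul_swap_A L (mul_mem (p 1 _) (mul_mem (p 2 _) (p 3 _))) (p 0 _),
    mul_swap_A L (mul_mem (p 2 _) (p 3 _)) (p 1 _), mul_swap_A L (p 3 _) (p 2 _)]

theorem coord_zero (x v : G) : coord x v 0 = 1 := by simp [coord, pick]

variable [Finite G]

theorem cj_four (F : Facts G) (L : Local A) (S : Seed A) {v : G} (hv : v ∈ A) :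
    cj S.x v 4 = cj S.x v 0 * (cj S.x v 1 * (cj S.x v 2 * cj S.x v 3)) := by
  have h := cj_mem (A := A) S.hxN hv
  have h5 : cj S.x v 5 = v := by
    have hx5 : S.x * S.x * S.x * S.x * S.x = 1 := by
      have := pow_orderOf_eq_one S.x
      rw [S.hx] at this
      rw [← this, pow_succ, pow_succ, pow_succ, pow_succ, pow_one]
    show S.x * (S.x * (S.x * (S.x * (S.x * v * S.x⁻¹) * S.x⁻¹) * S.x⁻¹) * S.x⁻¹) * S.x⁻¹ = v
    calc _ = (S.x * S.x * S.x * S.x * S.x) * v * (S.x * S.x * S.x * S.x * S.x)⁻¹ := by group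
      _ = v := by rw [hx5]; group
  set P := cj S.x v 0 * (cj S.x v 1 * (cj S.x v 2 * (cj S.x v 3 * cj S.x v 4)))
  have hP : P ∈ A :=
    mul_mem (h 0) (mul_mem (h 1) (mul_mem (h 2) (mul_mem (h 3) (h 4))))
  have hfix : S.x * P * S.x⁻¹ = P := by
    calc S.x * P * S.x⁻¹ =
        cj S.x v 1 * (cj S.x v 2 * (cj S.x v 3 * (cj S.x v 4 * cj S.x v 5))) := by
          simp only [P, cj]; group
      _ = (cj S.x v 1 * (cj S.x v 2 * (cj S.x v 3 * cj S.x v 4))) * cj S.x v 0 := by
          rw [h5]; simp only [mul_assoc]; rfl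
      _ = P := Seed.comm_A L (mul_mem (h 1) (mul_mem (h 2) (mul_mem (h 3) (h 4)))) (h 0)
  have hP1 : P = 1 := by
    have hmem : P ∈ Subgroup.centralizer ({S.x} : Set G) := by
      rw [Subgroup.mem_centralizer_singleton_iff]
      exact (mul_inv_eq_iff_eq_mul.1 hfix).symm
    rw [centralizer_five F S.hx] at hmem
    have h5' : orderOf P ∣ 5 := by
      have := (Subgroup.zpowers S.x).orderOf_dvd_natCard hmem
      rwa [Nat.card_zpowers, S.hx] at this
    have h2 : orderOf P ∣ 2 := orderOf_dvd_of_pow_eq_one (by rw [sq]; exact L.sq P hP)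
    exact orderOf_eq_one_iff.1 (Nat.dvd_one.1 (Nat.dvd_gcd h5' h2))
  have hsq := L.sq _ (h 4)
  calc cj S.x v 4 = P * cj S.x v 4 := by rw [hP1, one_mul]
    _ = cj S.x v 0 * (cj S.x v 1 * (cj S.x v 2 * (cj S.x v 3 * (cj S.x v 4 * cj S.x v 4)))) := by
        simp only [P, mul_assoc]
    _ = _ := by rw [hsq, mul_one]

theorem coord_conj (F : Facts G) (L : Local A) (S : Seed A) {v : G} (hv : v ∈ A) (n : ℕ) :
    S.x * coord S.x v n * S.x⁻¹ = coord S.x v (comp5 n) := by
  have hm := coord_mul L S.hxN hv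
  have hbase : coord S.x v 2 = cj S.x v 1 ∧ coord S.x v 4 = cj S.x v 2 ∧
      coord S.x v 8 = cj S.x v 3 ∧ coord S.x v 15 = cj S.x v 4 := by
    refine ⟨?_, ?_, ?_, ?_⟩ <;> simp [coord, pick, cj_four F L S hv, Nat.testBit, Nat.shiftRight_eq_div_pow]
  have hcond : ∀ (p : Bool) (k : ℕ), coord S.x v (if p then k else 0) = pick (coord S.x v k) p := by
    intro p k; cases p <;> simp [pick, coord_zero]
  rw [comp5, hm, hm, hm, hcond, hcond, hcond, hcond, hbase.1, hbase.2.1, hbase.2.2.1, hbase.2.2.2]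
  calc S.x * coord S.x v n * S.x⁻¹
      = (S.x * pick (cj S.x v 0) (n.testBit 0) * S.x⁻¹) *
        ((S.x * pick (cj S.x v 1) (n.testBit 1) * S.x⁻¹) *
          ((S.x * pick (cj S.x v 2) (n.testBit 2) * S.x⁻¹) *
            (S.x * pick (cj S.x v 3) (n.testBit 3) * S.x⁻¹))) := by simp only [coord]; group
    _ = _ := by simp only [pick_conj]; rfl

/-- Coordinates: an isomorphism from four-bit numbers commuting with conjugation. -/
theorem exists_coord (F : Facts G) (L : Local A) (S : Seed A) : ∃ f : ℕ → G,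
    (∀ n, f n ∈ A) ∧ (∀ m n, f (m ^^^ n) = f m * f n) ∧ (∀ a ∈ A, ∃ n < 16, f n = a) ∧
      (∀ m < 16, ∀ n < 16, f m = f n → m = n) ∧ (∀ n, S.x * f n * S.x⁻¹ = f (comp5 n)) := by
  classical
  obtain ⟨v, hv, hv1⟩ : ∃ v ∈ A, v ≠ 1 := by
    by_contra h
    push Not at h
    have h16 := L.card
    rw [(Subgroup.eq_bot_iff_forall A).2 h, Subgroup.card_bot] at h16
    omega
  set f := coord S.x v
  have hmem : ∀ n, f n ∈ A := coord_mem S.hxN hv
  have hmul : ∀ m n, f (m ^^^ n) = f m * f n := coord_mul L S.hxN hv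
  have hconj : ∀ n, S.x * f n * S.x⁻¹ = f (comp5 n) := coord_conj F L S hv
  let H : Subgroup G :=
    { carrier := {a | ∃ n < 16, f n = a}
      one_mem' := ⟨0, by norm_num, coord_zero _ _⟩
      mul_mem' := by
        rintro _ _ ⟨m, hm, rfl⟩ ⟨n, hn, rfl⟩
        exact ⟨m ^^^ n, Nat.xor_lt_two_pow (n := 4) hm hn, hmul m n⟩
      inv_mem' := by
        rintro _ ⟨m, hm, rfl⟩
        exact ⟨m, hm, (inv_eq_of_mul_eq_one_left (L.sq _ (hmem m))).symm⟩ }
  have hHA : H ≤ A := by rintro _ ⟨n, -, rfl⟩; exact hmem n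
  have hH : H = A := by
    refine (inv_subgroup F L S.hx H hHA ?_).resolve_left fun h => hv1 ?_
    · rintro _ ⟨n, hn, rfl⟩
      refine ⟨comp5 n, ?_, (hconj n).symm⟩
      unfold comp5
      split_ifs <;> decide
    · have : v ∈ H := ⟨1, by norm_num, by simp [f, coord, pick, cj, Nat.testBit, Nat.shiftRight_eq_div_pow]⟩
      rwa [h, Subgroup.mem_bot] at this
  have hsurj : ∀ a ∈ A, ∃ n < 16, f n = a := fun a ha => (hH.symm ▸ ha : a ∈ H)
  refine ⟨f, hmem, hmul, hsurj, ?_, hconj⟩
  have hb : Function.Bijective (fun n : Fin 16 => (⟨f n, hmem n⟩ : A)) := by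
    haveI : Fintype A := Fintype.ofFinite A
    rw [Fintype.bijective_iff_surjective_and_card, Fintype.card_fin, ← Nat.card_eq_fintype_card,
      L.card]
    refine ⟨fun a => ?_, rfl⟩
    obtain ⟨n, hn, h⟩ := hsurj a a.2
    exact ⟨⟨n, hn⟩, Subtype.ext h⟩
  intro m hm n hn h
  exact congrArg Fin.val (hb.1 (a₁ := ⟨m, hm⟩) (a₂ := ⟨n, hn⟩) (Subtype.ext h))

theorem three_mask {i j n : ℕ} (hn : n < 16) :
    ((1 : ℕ) ||| 2 ^ i ||| 2 ^ j ||| 2 ^ (i ^^^ j)).testBit n = true ↔
      n = 0 ∨ n = i ∨ n = j ∨ n = i ^^^ j := by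
  rw [show (1 : ℕ) = 2 ^ 0 from rfl]
  simp only [Nat.testBit_or, Nat.testBit_two_pow, Bool.or_eq_true, decide_eq_true_eq]
  constructor
  · rintro (((h | h) | h) | h) <;> simp [h]
  · rintro (h | h | h | h) <;> simp [h]

/-- Each line is a line of the table. -/
theorem exists_index (L : Local A) {f : ℕ → G} (hmul : ∀ m n, f (m ^^^ n) = f m * f n)
    (hsurj : ∀ a ∈ A, ∃ n < 16, f n = a) (hinj : ∀ m < 16, ∀ n < 16, f m = f n → m = n)
    {W : Subgroup G} (h4 : Nat.card W = 4) (hW : W ≤ A) :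
    ∃ k < 35, ∀ n < 16, (f n ∈ W ↔ (lm k).testBit n = true) := by
  classical
  have h0 : f 0 = 1 := by
    have h := hmul 0 0
    rw [Nat.xor_self] at h
    exact left_eq_mul.1 h
  obtain ⟨a, ha, ha1⟩ : ∃ a ∈ W, a ≠ 1 := by
    by_contra h
    push Not at h
    rw [(Subgroup.eq_bot_iff_forall W).2 h, Subgroup.card_bot] at h4
    omega
  obtain ⟨c, hc, hc1, hca⟩ : ∃ c ∈ W, c ≠ 1 ∧ c ≠ a := by
    by_contra h
    push Not at h
    have hsub : (W : Set G) ⊆ {1, a} := fun c hc => by
      by_cases hc1 : c = 1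
      · exact Or.inl hc1
      · exact Or.inr (h c hc hc1)
    have := Set.ncard_le_ncard hsub
    rw [← Nat.card_coe_set_eq] at this
    have h2 : ({1, a} : Set G).ncard ≤ 2 := (Set.ncard_insert_le 1 {a}).trans (by simp)
    have h4' : Nat.card (W : Set G) = 4 := h4
    omega
  obtain ⟨i, hi, rfl⟩ := hsurj a (hW ha)
  obtain ⟨j, hj, rfl⟩ := hsurj c (hW hc)
  have hi0 : i ≠ 0 := fun h => ha1 (h ▸ h0)
  have hj0 : j ≠ 0 := fun h => hc1 (h ▸ h0)
  obtain ⟨k, hk, hkm⟩ := line_cover (i - 1) (by omega) (j - 1) (by omega)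
    (fun h => hca (by rw [show j = i by omega]))
  rw [show i - 1 + 1 = i by omega, show j - 1 + 1 = j by omega] at hkm
  refine ⟨k, hk, fun n hn => ?_⟩
  rw [hkm, three_mask hn]
  have hij : i ^^^ j < 16 := Nat.xor_lt_two_pow (n := 4) hi hj
  have hprod : f (i ^^^ j) ∈ W := hmul i j ▸ mul_mem ha hc
  have hset : (W : Set G) = {1, f i, f j, f (i ^^^ j)} := by
    symm
    refine Set.eq_of_subset_of_ncard_le ?_ ?_
    · intro d hd
      rcases hd with rfl | rfl | rfl | rfl
      exacts [one_mem W, ha, hc, hprod]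
    · rw [← Nat.card_coe_set_eq, show Nat.card (W : Set G) = 4 from h4]
      have h1 : f (i ^^^ j) ≠ 1 := fun h => hca (by
        rw [hmul] at h
        have := L.sq _ (hW ha)
        exact mul_left_cancel (h.trans this.symm))
      have h2 : f (i ^^^ j) ≠ f i := fun h => hc1 (by rw [hmul] at h; exact mul_eq_left.1 h)
      have h3 : f (i ^^^ j) ≠ f j := fun h => ha1 (by rw [hmul] at h; exact mul_eq_right.1 h)
      rw [Set.ncard_insert_of_notMem (by simp [eq_comm, ha1, hc1, h1]),
        Set.ncard_insert_of_notMem (by simp [hca.symm, h2.symm]),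
        Set.ncard_insert_of_notMem (by simp [h3.symm]), Set.ncard_singleton]
  constructor
  · intro h
    have h' : f n ∈ (W : Set G) := h
    rw [hset] at h'
    rcases h' with h' | h' | h' | h'
    · exact Or.inl (hinj n hn 0 (by norm_num) (h'.trans h0.symm))
    · exact Or.inr (Or.inl (hinj n hn i hi h'))
    · exact Or.inr (Or.inr (Or.inl (hinj n hn j hj h')))
    · exact Or.inr (Or.inr (Or.inr (hinj n hn _ hij h')))
  · rintro (rfl | rfl | rfl | rfl)
    exacts [h0 ▸ one_mem W, ha, hc, hprod]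

theorem mask_lt (k : ℕ) : lm k < 2 ^ 16 := by
  by_cases hk : k < 35
  · revert hk; revert k; decide +kernel
  · rw [lm, List.getD_eq_default _ _ (by simp [lineMasks]; omega)]; norm_num

theorem exists_coded (F : Facts G) (L : Local A) (S : Seed A) (Q : Quot A) :
    ∃ sel, Nonempty (Coded S sel) := by
  classical
  obtain ⟨f, hmem, hmul, hsurj, hinj, hconj⟩ := exists_coord F L S
  have hidx : ∀ W ∈ S.lines, ∃ k < 35, ∀ n < 16, (f n ∈ W ↔ (lm k).testBit n = true) := fun W hW =>
    exists_index L hmul hsurj hinj (S.line_card F L Q hW).1 (S.line_card F L Q hW).2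
  choose! idx hidx35 hidxmem using hidx
  have hext : ∀ W ∈ S.lines, ∀ V ∈ S.lines, idx W = idx V → W = V := by
    intro W hW V hV h
    ext a
    constructor
    · intro ha
      obtain ⟨n, hn, rfl⟩ := hsurj a ((S.line_card F L Q hW).2 ha)
      exact (hidxmem V hV n hn).2 (h ▸ (hidxmem W hW n hn).1 ha)
    · intro ha
      obtain ⟨n, hn, rfl⟩ := hsurj a ((S.line_card F L Q hV).2 ha)
      exact (hidxmem W hW n hn).2 (h ▸ (hidxmem V hV n hn).1 ha)
  let P : ℕ → Prop := fun k => ∃ W ∈ S.lines, idx W = k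
  have hrot : ∀ k, P k → P (5 * (k / 5) + (k % 5 + 1) % 5) := by
    rintro _ ⟨W, hW, rfl⟩
    refine ⟨_, S.lines_conj S.hxN hW, ?_⟩
    have hk := hidx35 W hW
    have hW' := S.lines_conj S.hxN hW
    set k' := 5 * (idx W / 5) + (idx W % 5 + 1) % 5
    refine line_inj _ (hidx35 _ hW') k' (by omega) (Nat.eq_of_testBit_eq fun n => ?_)
    by_cases hn : n < 16
    · -- every number below sixteen is an image of the companion map
      obtain ⟨m, hm, hmn⟩ : ∃ m < 16, comp5 m = n := by
        revert hn; revert n; decide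
      subst hmn
      rw [line_rot _ hk m hm, Bool.eq_iff_iff, ← hidxmem _ hW' _ hn, ← hidxmem W hW m hm,
        ← hconj m, Subgroup.mem_map_equiv]
      simp [mul_assoc]
    · rw [Nat.testBit_eq_false_of_lt (lt_of_lt_of_le (mask_lt _) (Nat.pow_le_pow_right (by norm_num) (by omega))),
        Nat.testBit_eq_false_of_lt (lt_of_lt_of_le (mask_lt _) (Nat.pow_le_pow_right (by norm_num) (by omega)))]
  have horbit : ∀ k < 35, (P k ↔ P (5 * (k / 5))) := by
    have hstep : ∀ k, P k → ∀ j, P (5 * (k / 5) + (k % 5 + j) % 5) := by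
      intro k hk j
      induction j with
      | zero => convert hk using 1; omega
      | succ j ih =>
        have := hrot _ ih
        convert this using 1
        omega
    intro k _
    constructor
    · intro hk
      have := hstep k hk (5 - k % 5)
      convert this using 1
      omega
    · intro hk
      have := hstep _ hk (k % 5)
      convert this using 1
      omega
  have hex : ∀ p : Fin 7 → Bool, ∃ sel < 128, ∀ o : Fin 7, sel.testBit o = p o := by decide +kernel
  obtain ⟨sel, hsel128, hsel⟩ := hex (fun o => decide (P (5 * o.val)))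
  have hin : ∀ k < 35, (inSel sel k = true ↔ P k) := by
    intro k hk
    rw [inSel, hsel ⟨k / 5, by omega⟩, decide_eq_true_eq, horbit k hk]
  have hreg : regular sel = true := by
    rw [regular, List.all_eq_true]
    intro a ha
    rw [List.mem_range] at ha
    rw [beq_iff_eq]
    set l := (List.range 35).filter fun k => inSel sel k && (lm k).testBit (a + 1)
    have h1 : l.toFinset.card = l.length :=
      List.toFinset_card_of_nodup (List.nodup_range.filter _)
    rw [← h1, ← Set.ncard_coe_finset, ← S.three_lines F L Q (hmem (a + 1)) (fun h => by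
      have h0 : f 0 = 1 := by
        have h' := hmul 0 0
        rw [Nat.xor_self] at h'
        exact left_eq_mul.1 h'
      have := hinj (a + 1) (by omega) 0 (by norm_num) (h.trans h0.symm)
      omega)]
    symm
    refine Set.ncard_congr (fun W _ => idx W) ?_ ?_ ?_
    · rintro W ⟨hW, haW⟩
      simp only [l, List.coe_toFinset, Set.mem_ofPred_eq, List.mem_filter, List.mem_range,
        Bool.and_eq_true]
      exact ⟨hidx35 W hW, (hin _ (hidx35 W hW)).2 ⟨W, hW, rfl⟩, (hidxmem W hW _ (by omega)).1 haW⟩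
    · rintro W V ⟨hW, -⟩ ⟨hV, -⟩ h; exact hext W hW V hV h
    · intro k hk
      simp only [l, List.coe_toFinset, Set.mem_ofPred_eq, List.mem_filter, List.mem_range,
        Bool.and_eq_true] at hk
      obtain ⟨W, hW, rfl⟩ := (hin k hk.1).1 hk.2.1
      exact ⟨W, ⟨hW, (hidxmem W hW _ (by omega)).2 hk.2.2⟩, rfl⟩
  have hsel5 := regular_sel sel hsel128 hreg
  obtain ⟨htab, hlen⟩ := lineTable_spec sel hsel5
  have hget : ∀ g < 15, ∃ W ∈ S.lines, idx W = (lineTable sel).getD g 0 := by
    intro g hg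
    rw [List.getD_eq_getElem _ 0 (by omega : g < (lineTable sel).length)]
    have hm : (lineTable sel)[g] ∈ (List.range 35).filter (inSel sel) :=
      htab ▸ List.getElem_mem _
    rw [List.mem_filter, List.mem_range] at hm
    exact (hin _ hm.1).1 hm.2
  choose! Wof hWof hWidx using hget
  have hz : ∀ g < 15, ∃ z ∈ S.xb, fixA z = Wof g := fun g hg => by
    obtain ⟨z, hz, h, -⟩ := S.xb_unique F L Q (hWof g hg)
    exact ⟨z, hz, h⟩
  haveI : Nonempty (G ⧸ nA A) := ⟨base A⟩
  choose! rep hrep hrepW using hz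
  refine ⟨sel, ⟨
    { f := f, sel_mem := hsel5, mem := fun n _ => hmem n, mul := fun m _ n _ => hmul m n
      surj := hsurj, inj := hinj, rep := rep, rep_adj := fun g hg => hrep g hg
      rep_fix := fun g hg n hn => by
        rw [hrepW g hg, hidxmem _ (hWof g hg) n hn, hWidx g hg]; rfl
      cover := fun y hy => ?_ }⟩⟩
  obtain ⟨z, hz, a, ha, rfl⟩ := S.cover F L Q hy
  have hl : fixA z ∈ S.lines := ⟨z, hz.1, rfl⟩
  have hm : idx (fixA z) ∈ lineTable sel := by
    rw [htab, List.mem_filter, List.mem_range]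
    exact ⟨hidx35 _ hl, (hin _ (hidx35 _ hl)).2 ⟨_, hl, rfl⟩⟩
  obtain ⟨g, hg, hgz⟩ := List.getElem_of_mem hm
  have hg15 : g < 15 := hlen ▸ hg
  have hW : Wof g = fixA z := hext _ (hWof g hg15) _ hl (by
    rw [hWidx g hg15, List.getD_eq_getElem _ 0 hg, hgz])
  obtain ⟨u, -, -, huniq⟩ := S.xb_unique F L Q hl
  exact ⟨g, hg15, a, ha, by
    rw [huniq z hz rfl, huniq (rep g) (hrep g hg15) ((hrepW g hg15).trans hW)]⟩

end Cfsg.Agent.Lib.M22Nse57.Graph
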