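import Cfsg.Agent.Lib.M22Nse57.GraphModel

/-! The stars of the spreads are good. -/

set_option autoImplicit false
set_option maxRecDepth 100000

namespace Cfsg.Agent.Lib.M22Nse57.GraphModel

theorem stars_good : ∀ sel ∈ [81, 50, 28], (spreadTable sel).all (fun s =>
    (starIdx s).all fun i => (starIdx s).all fun j => (starIdx s).all fun l =>
      !(Nat.blt i j && Nat.blt j l) || goodIdx sel i j l) = true := by
  decide +kernel

end Cfsg.Agent.Lib.M22Nse57.GraphModel
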