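import Cfsg.Agent.Lib.M22Nse57.GraphCliques
import Cfsg.Agent.Lib.M22Nse57.GraphStars

/-!
A transitive group on seventy-seven points preserving one of the three graphs, with stabiliser of
the point at infinity transitive on the lines, has a subgroup of index twenty-two: the translates
of a star number twenty-two.
-/

set_option autoImplicit false
set_option maxRecDepth 100000

namespace Cfsg.Agent.Lib.M22Nse57.GraphModel

open Finset
open scoped Classical Pointwise

theorem star_pairs : ∀ sel ∈ [81, 50, 28], (spreadTable sel).all (fun s =>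
    (starIdx s).all fun i => (starIdx s).all fun j => !((nbTable sel).getD i 0).testBit j) = true := by
  decide +kernel

theorem star_shape : ∀ sel ∈ [81, 50, 28], (spreadTable sel).all (fun s =>
    (starIdx s).length == 21 && (starIdx s).toFinset.card == 21 && ((starIdx s).all fun i => decide (i < 77))
      && (List.range 15).any (fun a => s.testBit a) && (List.range 15).any (fun b => !s.testBit b))
        = true := by
  decide +kernel

theorem first_row : ∀ sel ∈ [81, 50, 28], ∀ j < 77, 1 ≤ j → j ≤ 16 →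
    ((nbTable sel).getD 0 0).testBit j = true := by
  decide +kernel

theorem small_bits {m a b : ℕ} (h : small m = true) (ha : m.testBit a = true)
    (hb : m.testBit b = true) : a = b := by
  simp only [small, Bool.or_eq_true, beq_iff_eq] at h
  rcases h with h | h
  · subst h; simp at ha
  · rw [h] at ha hb
    simp only [Nat.testBit_two_pow, decide_eq_true_eq] at ha hb
    omega

theorem two_bits {w m : ℕ} (h : 2 ≤ popW w m) :
    ∃ a < w, ∃ b < w, a ≠ b ∧ m.testBit a = true ∧ m.testBit b = true := by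
  rw [popW, List.countP_eq_length_filter] at h
  set l := (List.range w).filter fun n => m.testBit n with hl
  have h0 := List.mem_filter.1 (List.getElem_mem (show 0 < l.length by omega))
  have h1 := List.mem_filter.1 (List.getElem_mem (show 1 < l.length by omega))
  refine ⟨_, List.mem_range.1 h0.1, _, List.mem_range.1 h1.1, fun e => ?_, h0.2, h1.2⟩
  have := (List.nodup_range.filter _).getElem_inj_iff.1 e
  omega

theorem popW_eq (w m : ℕ) : popW w m = ((Finset.range w).filter fun n => m.testBit n = true).card := by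
  rw [popW, List.countP_eq_length_filter,
    ← List.toFinset_card_of_nodup (List.nodup_range.filter _)]
  congr 1
  ext n
  simp

section

variable {G Ω : Type*} [Group G] [MulAction G Ω] (sel : ℕ) (φ : Ω ≃ Fin 77)

/-- Adjacency in the numbered graph. -/
def Edge (x y : Ω) : Prop := ((nbTable sel).getD (φ x).val 0).testBit (φ y).val = true

/-- A set without edges in which three points have at most one common neighbour. -/
def GoodSet (T : Finset Ω) : Prop :=
  (∀ x ∈ T, ∀ y ∈ T, ¬ Edge sel φ x y) ∧
    ∀ x ∈ T, ∀ y ∈ T, ∀ z ∈ T, x ≠ y → y ≠ z → x ≠ z → ∀ c d,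
      Edge sel φ x c → Edge sel φ y c → Edge sel φ z c →
      Edge sel φ x d → Edge sel φ y d → Edge sel φ z d → c = d

/-- The star of a spread. -/
noncomputable def star [Fintype Ω] (s : ℕ) : Finset Ω :=
  univ.filter fun x => (φ x).val ∈ starIdx s

variable {sel}

theorem mem_starIdx {s i : ℕ} : i ∈ starIdx s ↔ i = 0 ∨ ∃ k < 60, s.testBit (k / 4) = true ∧ i = 17 + k := by
  simp only [starIdx, List.mem_cons, List.mem_map, List.mem_filter, List.mem_range]
  constructor
  · rintro (h | ⟨k, ⟨h1, h2⟩, h3⟩)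
    · exact Or.inl h
    · exact Or.inr ⟨k, h1, h2, h3.symm⟩
  · rintro (h | ⟨k, h1, h2, h3⟩)
    · exact Or.inl h
    · exact Or.inr ⟨k, ⟨h1, h2⟩, h3.symm⟩

theorem shape_of_mem (hsel : sel ∈ [81, 50, 28]) {s : ℕ} (hs : s ∈ spreadTable sel) :
    (starIdx s).toFinset.card = 21 ∧ (∀ i ∈ starIdx s, i < 77) ∧
      (∃ a < 15, s.testBit a = true) ∧ ∃ b < 15, s.testBit b = false := by
  have h := List.all_eq_true.1 (star_shape sel hsel) s hs
  simp only [Bool.and_eq_true, List.all_eq_true, List.any_eq_true, decide_eq_true_eq, beq_iff_eq,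
    List.mem_range, Bool.not_eq_true'] at h
  exact ⟨h.1.1.1.2, h.1.1.2, h.1.2, h.2⟩

theorem card_star [Fintype Ω] (hsel : sel ∈ [81, 50, 28]) {s : ℕ} (hs : s ∈ spreadTable sel) :
    (star φ s).card = 21 := by
  obtain ⟨hc, hlt, -, -⟩ := shape_of_mem hsel hs
  rw [← hc]
  refine card_bij (fun x _ => (φ x).val) (fun x hx => List.mem_toFinset.2 (mem_filter.1 hx).2)
    (fun a _ b _ h => φ.injective (Fin.ext h)) fun i hi => ?_
  refine ⟨φ.symm ⟨i, hlt i (List.mem_toFinset.1 hi)⟩, mem_filter.2 ⟨mem_univ _, ?_⟩, by simp⟩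
  simpa using hi

theorem good_star [Fintype Ω] (hsel : sel ∈ [81, 50, 28]) {s : ℕ} (hs : s ∈ spreadTable sel) :
    GoodSet sel φ (star φ s) := by
  refine ⟨fun x hx y hy h => ?_, fun x hx y hy z hz hxy hyz hxz c d a1 a2 a3 b1 b2 b3 => ?_⟩
  · have h' := List.all_eq_true.1 (List.all_eq_true.1 (List.all_eq_true.1 (star_pairs sel hsel) s hs)
      _ (mem_filter.1 hx).2) _ (mem_filter.1 hy).2
    simp only [Edge] at h
    rw [h] at h'
    exact absurd h' (by decide)
  · have key : ∀ u ∈ star φ s, ∀ v ∈ star φ s, ∀ w ∈ star φ s,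
        (φ u).val < (φ v).val → (φ v).val < (φ w).val →
        small ((nbTable sel).getD (φ u).val 0 &&& ((nbTable sel).getD (φ v).val 0 &&&
          (nbTable sel).getD (φ w).val 0)) = true := by
      intro u hu v hv w hw huv hvw
      have h := List.all_eq_true.1 (List.all_eq_true.1 (List.all_eq_true.1 (List.all_eq_true.1
        (stars_good sel hsel) s hs) _ (mem_filter.1 hu).2) _ (mem_filter.1 hv).2) _ (mem_filter.1 hw).2
      simp only [Bool.or_eq_true, Bool.not_eq_true', Bool.and_eq_false_iff, goodIdx,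
        Bool.and_eq_true] at h
      rcases h with h | h
      · simp only [Nat.blt, Nat.ble_eq, Bool.eq_false_iff, ne_eq] at h; omega
      · exact h.2
    have fin : ∀ m, small m = true → m.testBit (φ c).val = true → m.testBit (φ d).val = true →
        c = d := fun m hm hc hd => φ.injective (Fin.ext (small_bits hm hc hd))
    have n1 : (φ x).val ≠ (φ y).val := fun e => hxy (φ.injective (Fin.ext e))
    have n2 : (φ y).val ≠ (φ z).val := fun e => hyz (φ.injective (Fin.ext e))
    have n3 : (φ x).val ≠ (φ z).val := fun e => hxz (φ.injective (Fin.ext e))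
    simp only [Edge] at a1 a2 a3 b1 b2 b3
    rcases Nat.lt_or_gt_of_ne n1 with p | p <;> rcases Nat.lt_or_gt_of_ne n2 with q | q <;>
      rcases Nat.lt_or_gt_of_ne n3 with r | r
    all_goals first
      | (exfalso; omega)
      | exact fin _ (key x hx y hy z hz p q) (by simp only [Nat.testBit_and, a1, a2, a3, Bool.and_self])
          (by simp only [Nat.testBit_and, b1, b2, b3, Bool.and_self])
      | exact fin _ (key x hx z hz y hy r q) (by simp only [Nat.testBit_and, a1, a2, a3, Bool.and_self])
          (by simp only [Nat.testBit_and, b1, b2, b3, Bool.and_self])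
      | exact fin _ (key y hy x hx z hz p r) (by simp only [Nat.testBit_and, a1, a2, a3, Bool.and_self])
          (by simp only [Nat.testBit_and, b1, b2, b3, Bool.and_self])
      | exact fin _ (key y hy z hz x hx q r) (by simp only [Nat.testBit_and, a1, a2, a3, Bool.and_self])
          (by simp only [Nat.testBit_and, b1, b2, b3, Bool.and_self])
      | exact fin _ (key z hz x hx y hy r p) (by simp only [Nat.testBit_and, a1, a2, a3, Bool.and_self])
          (by simp only [Nat.testBit_and, b1, b2, b3, Bool.and_self])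
      | exact fin _ (key z hz y hy x hx q p) (by simp only [Nat.testBit_and, a1, a2, a3, Bool.and_self])
          (by simp only [Nat.testBit_and, b1, b2, b3, Bool.and_self])

theorem good_smul {T : Finset Ω}
    (hinv : ∀ (g : G) (x y : Ω), Edge sel φ (g • x) (g • y) ↔ Edge sel φ x y) (h : GoodSet sel φ T)
    (g : G) : GoodSet sel φ (g • T) := by
  refine ⟨fun x hx y hy he => ?_, fun x hx y hy z hz h1 h2 h3 c d a1 a2 a3 b1 b2 b3 => ?_⟩
  all_goals simp only [Finset.mem_smul_finset] at hx hy
  · obtain ⟨x, hx, rfl⟩ := hx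
    obtain ⟨y, hy, rfl⟩ := hy
    exact h.1 x hx y hy ((hinv g x y).1 he)
  · simp only [Finset.mem_smul_finset] at hz
    obtain ⟨x, hx, rfl⟩ := hx
    obtain ⟨y, hy, rfl⟩ := hy
    obtain ⟨z, hz, rfl⟩ := hz
    rw [← smul_inv_smul g c, hinv] at a1 a2 a3
    rw [← smul_inv_smul g d, hinv] at b1 b2 b3
    have := h.2 x hx y hy z hz (fun e => h1 (by rw [e])) (fun e => h2 (by rw [e]))
      (fun e => h3 (by rw [e])) _ _ a1 a2 a3 b1 b2 b3
    exact MulAction.injective g⁻¹ this

theorem eq_star_of_good [Fintype Ω] (hsel : sel ∈ [81, 50, 28]) {T : Finset Ω}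
    (hT : GoodSet sel φ T) (hcard : T.card = 21) (ho : φ.symm 0 ∈ T) :
    ∃ s ∈ spreadTable sel, T = star φ s := by
  have hsel5 : sel ∈ [81, 50, 28, 41, 70] := by
    simp only [List.mem_cons, List.not_mem_nil, or_false] at hsel ⊢
    omega
  have hnb := List.all_eq_true.1 (nbTable_spec sel hsel)
  have hedge : ∀ i < 77, ∀ j < 77, ((nbTable sel).getD i 0).testBit j = adj77 sel i j := fun i hi j hj =>
    beq_iff_eq.1 (List.all_eq_true.1 (hnb i (List.mem_range.2 hi)) j (List.mem_range.2 hj))
  set o := φ.symm 0 with hodef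
  have h0 : (φ o).val = 0 := by simp [o]
  have hout : ∀ z ∈ T.erase o, 17 ≤ (φ z).val ∧ (φ z).val - 17 < 60 := fun z hz => by
    obtain ⟨hzo, hzT⟩ := mem_erase.1 hz
    have hlt := (φ z).isLt
    have hz0 : (φ z).val ≠ 0 := fun e => hzo (φ.injective (Fin.ext (e.trans h0.symm)))
    refine ⟨?_, by omega⟩
    by_contra hle
    refine hT.1 o ho z hzT ?_
    rw [Edge, h0]
    exact first_row sel hsel _ hlt (by omega) (by omega)
  set L := (T.erase o).image fun z => ((φ z).val - 17) / 4 with hL
  have hL15 : ∀ a ∈ L, a < 15 := fun a ha => by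
    obtain ⟨z, hz, rfl⟩ := mem_image.1 ha
    have := (hout z hz).2
    omega
  set m := Nat.ofBits (fun a : Fin 15 => decide (a.val ∈ L)) with hm
  have hbit : ∀ a, m.testBit a = true ↔ a ∈ L := fun a => by
    rcases lt_or_ge a 15 with ha | ha
    · rw [hm, Nat.testBit_ofBits_lt _ _ ha]; simp
    · rw [hm, Nat.testBit_ofBits_ge _ _ ha]
      simp only [Bool.false_eq_true, false_iff]
      exact fun h => by have := hL15 a h; omega
  have hmlt : m < 32768 := Nat.ofBits_lt_two_pow _
  have hapart : ∀ y ∈ T.erase o, ∀ z ∈ T.erase o,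
      meets sel (((φ y).val - 17) / 4) (((φ z).val - 17) / 4) = false := by
    intro y hy z hz
    by_contra hne
    rw [Bool.not_eq_false] at hne
    set i := (φ y).val - 17 with hi
    set j := (φ z).val - 17 with hj
    obtain ⟨hy17, hi60⟩ := hout y hy
    obtain ⟨hz17, hj60⟩ := hout z hz
    have hyi : (φ y).val = 17 + i := by omega
    have hzj : (φ z).val = 17 + j := by omega
    have hij : i / 4 ≠ j / 4 := fun e => by
      rw [e] at hne; simp [meets] at hne
    rcases Classical.em (coset sel i &&& coset sel j = 0) with hd | hd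
    · refine hT.1 y (mem_of_mem_erase hy) z (mem_of_mem_erase hz) ?_
      have hc := beq_iff_eq.1 (List.all_eq_true.1 (List.all_eq_true.1 (cand_spec sel hsel5) i
        (List.mem_range.2 hi60)) j (List.mem_range.2 hj60))
      rw [Edge, hedge _ (φ y).isLt _ (φ z).isLt, hyi, hzj]
      simp [adj77, show ¬ 17 + i ≤ 16 by omega, show ¬ 17 + j ≤ 16 by omega, hc, hne, hd]
    · have hm2 := List.all_eq_true.1 (List.all_eq_true.1 (meet_cosets sel hsel5) i
        (List.mem_range.2 hi60)) j (List.mem_range.2 hj60)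
      have hle : 2 ≤ popW 16 (coset sel i &&& coset sel j) := by
        simpa [hne, hd] using hm2
      obtain ⟨a, ha, b, hb, hab, hba, hbb⟩ := two_bits hle
      simp only [Nat.testBit_and, Bool.and_eq_true] at hba hbb
      have hyz : y ≠ z := fun e => hij (by rw [hi, hj, e])
      have e1 : ∀ c (_ : c < 16), (coset sel i).testBit c = true → (coset sel j).testBit c = true →
          Edge sel φ o (φ.symm ⟨c + 1, by omega⟩) ∧ Edge sel φ y (φ.symm ⟨c + 1, by omega⟩) ∧
            Edge sel φ z (φ.symm ⟨c + 1, by omega⟩) := by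
        intro c hc16 hci hcj
        simp only [Edge, Equiv.apply_symm_apply, h0]
        refine ⟨first_row sel hsel _ (by omega) (by omega) (by omega), ?_, ?_⟩
        · rw [hedge _ (φ y).isLt _ (by omega), hyi]
          simp [adj77, show ¬ 17 + i ≤ 16 by omega, show c + 1 ≤ 16 by omega, hci]
        · rw [hedge _ (φ z).isLt _ (by omega), hzj]
          simp [adj77, show ¬ 17 + j ≤ 16 by omega, show c + 1 ≤ 16 by omega, hcj]
      obtain ⟨p1, p2, p3⟩ := e1 a ha hba.1 hba.2
      obtain ⟨q1, q2, q3⟩ := e1 b hb hbb.1 hbb.2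
      have := hT.2 o ho y (mem_of_mem_erase hy) z (mem_of_mem_erase hz) (mem_erase.1 hy).1.symm hyz
        (mem_erase.1 hz).1.symm _ _ p1 p2 p3 q1 q2 q3
      have := congrArg (fun w => (φ w).val) this
      simp only [Equiv.apply_symm_apply] at this
      omega
  have hcompat : compat sel m = true := by
    rw [compat, List.all_eq_true]
    intro a ha
    rw [List.mem_range] at ha
    rcases hba : m.testBit a with _ | _
    · simp
    · simp only [Bool.not_true, Bool.false_or, beq_iff_eq]
      refine Nat.eq_of_testBit_eq fun h => ?_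
      rw [Nat.zero_testBit, Bool.eq_false_iff]
      intro hh
      rw [Nat.testBit_and, Bool.and_eq_true] at hh
      have hhL := (hbit h).1 hh.1
      rw [confTable_spec sel hsel a ha h (hL15 h hhL)] at hh
      obtain ⟨y, hy, rfl⟩ := mem_image.1 ((hbit a).1 hba)
      obtain ⟨z, hz, rfl⟩ := mem_image.1 hhL
      rw [hapart y hy z hz] at hh
      exact absurd hh.2 (by decide)
  have hpop : popW 15 m = L.card := by
    rw [popW_eq]
    refine congrArg Finset.card (Finset.ext fun a => ?_)
    simp only [mem_filter, Finset.mem_range, hbit]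
    exact ⟨fun h => h.2, fun h => ⟨hL15 a h, h⟩⟩
  have h20 : (T.erase o).card = 20 := by rw [card_erase_of_mem ho, hcard]
  have h5 : 5 ≤ L.card := by
    have h := card_le_mul_card_image (f := fun z => ((φ z).val - 17) / 4) (T.erase o) 4 fun a _ => by
      refine le_trans (card_le_card_of_injOn (fun z => (φ z).val - 17) (fun z hz => ?_)
        fun p hp q hq e => ?_) (le_of_eq (Nat.card_Ico (4 * a) (4 * a + 4)) |>.trans (by omega))
      · have := (mem_filter.1 hz).2
        simp only [Finset.coe_Ico, Set.mem_Ico]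
        omega
      · have h1 := (hout p (mem_filter.1 hp).1).1
        have h2 := (hout q (mem_filter.1 hq).1).1
        exact φ.injective (Fin.ext (by simp only at e; omega))
    rw [← hL, h20] at h
    omega
  have hcl := List.all_eq_true.1 (cliques sel hsel) m (List.mem_range.2 hmlt)
  simp only [cliqueOK, hcompat, Bool.not_true, Bool.false_or, Bool.or_eq_true, List.any_eq_true,
    beq_iff_eq, hpop] at hcl
  rcases hcl with hcl | ⟨s, hs, hsm⟩
  · simp only [Nat.blt, Nat.ble_eq] at hcl; omega
  · subst hsm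
    refine ⟨_, hs, eq_of_subset_of_card_le (fun z hz => mem_filter.2 ⟨mem_univ _, mem_starIdx.2 ?_⟩)
      (by rw [card_star φ hsel hs, hcard])⟩
    by_cases hzo : z = o
    · exact Or.inl (by rw [hzo, h0])
    · have hz' := mem_erase.2 ⟨hzo, hz⟩
      obtain ⟨h1, h2⟩ := hout z hz'
      exact Or.inr ⟨(φ z).val - 17, h2, (hbit _).2 (mem_image.2 ⟨z, hz', rfl⟩), by omega⟩

end

/-- A subgroup of index twenty-two from a transitive action on the graph. -/
theorem exists_index_22_of_graph {G Ω : Type*} [Group G] [Finite G] [MulAction G Ω]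
    [MulAction.IsPretransitive G Ω] (sel : ℕ) (hsel : sel ∈ [81, 50, 28]) (φ : Ω ≃ Fin 77)
    (hcard : Nat.card G = 443520)
    (hinv : ∀ (g : G) (x y : Ω), ((nbTable sel).getD (φ (g • x)).val 0).testBit (φ (g • y)).val =
      ((nbTable sel).getD (φ x).val 0).testBit (φ y).val)
    (hlines : ∀ a < 15, ∀ b < 15, ∃ n ∈ MulAction.stabilizer G (φ.symm 0), ∀ r : Fin 77,
      17 + 4 * a ≤ r.val → r.val < 21 + 4 * a → 17 + 4 * b ≤ (φ (n • φ.symm r)).val ∧
        (φ (n • φ.symm r)).val < 21 + 4 * b)
    (hperf : ∀ S : Subgroup (MulAction.stabilizer G (φ.symm 0)), S ≠ ⊤ → 3 < S.index) :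
    ∃ H : Subgroup G, H.index = 22 := by
  haveI := Fintype.ofFinite G
  letI : Fintype Ω := Fintype.ofEquiv (Fin 77) φ.symm
  have hinv' : ∀ (g : G) (x y : Ω), Edge sel φ (g • x) (g • y) ↔ Edge sel φ x y := fun g x y => by
    simp only [Edge, hinv]
  obtain ⟨hlen, hspreads⟩ := spreads_spec sel hsel
  obtain ⟨s₀, hs₀⟩ := List.exists_mem_of_length_pos (show 0 < (spreadTable sel).length by omega)
  obtain ⟨-, -, ⟨a, ha, hsa⟩, ⟨b, hb, hsb⟩⟩ := shape_of_mem hsel hs₀
  set o := φ.symm 0
  set S₀ := star φ s₀ with hS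
  have hoS : o ∈ S₀ := mem_filter.2 ⟨mem_univ _, mem_starIdx.2 (Or.inl (by simp [o]))⟩
  set O : Finset (Finset Ω) := univ.image fun g : G => g • S₀
  have hidx : (MulAction.stabilizer G S₀).index = O.card := by
    rw [MulAction.index_stabilizer, ← Set.ncard_coe_finset]
    congr 1
    ext T
    simp [O, MulAction.orbit]
  set A := O.filter fun T => o ∈ T
  have hA : A ⊆ ((spreadTable sel).map (star φ)).toFinset := fun T hT => by
    obtain ⟨hTO, hoT⟩ := mem_filter.1 hT
    obtain ⟨g, -, rfl⟩ := mem_image.1 hTO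
    obtain ⟨s, hs, e⟩ := eq_star_of_good φ hsel (good_smul φ hinv' (good_star φ hsel hs₀) g)
      (by rw [card_smul_finset, card_star φ hsel hs₀]) hoT
    exact List.mem_toFinset.2 (List.mem_map.2 ⟨s, hs, e.symm⟩)
  have hA6 : A.card ≤ 6 := (card_le_card hA).trans ((List.toFinset_card_le _).trans (by simp [hlen]))
  have hdc : O.card * 21 = Fintype.card Ω * A.card := by
    have h1 : ∑ T ∈ O, T.card = O.card * 21 := by
      rw [sum_congr rfl fun T hT => ?_, sum_const, smul_eq_mul]
      obtain ⟨g, -, rfl⟩ := mem_image.1 hT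
      rw [card_smul_finset, card_star φ hsel hs₀]
    have h2 : ∀ x : Ω, (O.filter fun T => x ∈ T).card = A.card := fun x => by
      obtain ⟨g, hg⟩ := MulAction.exists_smul_eq G o x
      refine (card_equiv (MulAction.toPerm g) fun T => ?_).symm
      simp only [A, O, mem_filter, mem_image, mem_univ, true_and, MulAction.toPerm_apply]
      refine and_congr ⟨fun ⟨k, e⟩ => ⟨g * k, by rw [mul_smul, e]⟩,
        fun ⟨k, e⟩ => ⟨g⁻¹ * k, by rw [mul_smul, e, inv_smul_smul]⟩⟩ ?_
      rw [← hg, Finset.smul_mem_smul_finset_iff]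
    rw [← h1]
    calc ∑ T ∈ O, T.card = ∑ T ∈ O, ∑ x : Ω, (if x ∈ T then 1 else 0) :=
          sum_congr rfl fun T _ => by simp
      _ = ∑ x : Ω, (O.filter fun T => x ∈ T).card := by
          rw [sum_comm]; exact sum_congr rfl fun x _ => by rw [card_filter]
      _ = _ := by rw [sum_congr rfl fun x _ => h2 x, sum_const, card_univ, smul_eq_mul]
  rw [Fintype.card_congr φ, Fintype.card_fin] at hdc
  have hA0 : 0 < A.card := card_pos.2 ⟨S₀, mem_filter.2
    ⟨mem_image.2 ⟨1, mem_univ _, one_smul G S₀⟩, hoS⟩⟩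
  refine ⟨MulAction.stabilizer G S₀, hidx.trans ?_⟩
  by_contra hne
  have hA3 : A.card ≤ 3 := by omega
  set K := MulAction.stabilizer G o
  have hK : MulAction.stabilizer ↥K S₀ = ⊤ := by
    by_contra hK
    have h := hperf _ hK
    rw [MulAction.index_stabilizer] at h
    have hsub : MulAction.orbit ↥K S₀ ⊆ (A : Set (Finset Ω)) := by
      rintro T ⟨k, rfl⟩
      refine mem_coe.2 (mem_filter.2 ⟨mem_image.2 ⟨k, mem_univ _, rfl⟩, ?_⟩)
      have hk : (k : G) • o = o := k.2
      rw [← hk]
      exact Finset.smul_mem_smul_finset hoS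
    have := Set.ncard_le_ncard hsub
    rw [Set.ncard_coe_finset] at this
    omega
  obtain ⟨n, hn, hline⟩ := hlines a ha b hb
  have hfix : n • S₀ = S₀ :=
    (hK.symm ▸ Subgroup.mem_top (⟨n, hn⟩ : ↥K) : (⟨n, hn⟩ : ↥K) ∈ MulAction.stabilizer ↥K S₀)
  set r : Fin 77 := ⟨17 + 4 * a, by omega⟩
  have hr : φ.symm r ∈ S₀ := mem_filter.2 ⟨mem_univ _, mem_starIdx.2 (Or.inr ⟨4 * a, by omega,
    by rw [Nat.mul_div_cancel_left _ (by norm_num : 0 < 4)]; exact hsa, by simp [r]⟩)⟩
  have hnr : n • φ.symm r ∈ S₀ := hfix ▸ Finset.smul_mem_smul_finset hr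
  obtain ⟨h1, h2⟩ := hline r le_rfl (show 17 + 4 * a < 21 + 4 * a by omega)
  rcases mem_starIdx.1 (mem_filter.1 hnr).2 with e | ⟨k, -, hk, e⟩
  · omega
  · rw [show k / 4 = b by omega, hsb] at hk
    exact absurd hk (by decide)

end Cfsg.Agent.Lib.M22Nse57.GraphModel
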