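import Cfsg.Agent.Lib.M22Nse57.GraphLineSet
import Cfsg.Agent.Lib.M22Nse57.GraphCoded
import Cfsg.Agent.Lib.M22Nse57.GraphFinal

/-!
A group with the local data has a subgroup of index twenty-two, once the seventy-seven points are
identified with the vertices of one of the three graphs.
-/

set_option autoImplicit false
set_option linter.style.haveILetI false

namespace Cfsg.Agent.Lib.M22Nse57.Graph

open MulAction GraphModel

universe u

variable {G : Type u} [Group G] [Finite G] {A : Subgroup G}

theorem exists_index_of_phi (F : Facts G) (L : Local A) (S : Seed A) (Q : Quot A) {sel : ℕ}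
    (C : Coded S sel) (hsel : sel ∈ [81, 50, 28]) (φ : (G ⧸ nA A) ≃ Fin 77)
    (h0 : (φ (base A)).val = 0)
    (hadj : ∀ y z, S.Adj y z ↔ ((nbTable sel).getD (φ y).val 0).testBit (φ z).val = true)
    (hgroup : ∀ g < 15, ∀ y, S.InR y →
      ((17 + 4 * g ≤ (φ y).val ∧ (φ y).val < 21 + 4 * g) ↔ fixA y = fixA (C.rep g)))
    (hperf : ∀ T : Subgroup (nA A), T ≠ ⊤ → 5 < T.index) :
    ∃ H : Subgroup G, H.index = 22 := by
  have hbase : φ.symm 0 = base A := by
    rw [Equiv.symm_apply_eq]; exact Fin.ext h0.symm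
  have hstab : stabilizer G (φ.symm 0) = nA A := by
    ext g
    rw [mem_stabilizer_iff, hbase, smul_base_eq_iff]
  have hinR : ∀ y, 17 ≤ (φ y).val → S.InR y := by
    intro y hy
    refine ⟨fun h => ?_, fun h => ?_⟩
    · rw [h, h0] at hy; omega
    · have h1 := (hadj _ _).1 h
      have h2 := nbTable_spec sel hsel
      rw [List.all_eq_true] at h2
      have h3 := h2 0 (List.mem_range.2 (by norm_num))
      rw [List.all_eq_true] at h3
      have h4 := h3 (φ y).val (List.mem_range.2 (φ y).2)
      rw [beq_iff_eq] at h4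
      rw [h0, h4, adj77, if_pos rfl] at h1
      simp only [Bool.and_eq_true, decide_eq_true_eq] at h1
      omega
  refine exists_index_22_of_graph sel hsel φ F.card (fun g y z => ?_) (fun a ha b hb => ?_)
    (fun T hT => ?_)
  · rw [Bool.eq_iff_iff, ← hadj, ← hadj, S.adj_smul]
  · obtain ⟨n, hn, hab⟩ :=
      (S.card_fixA_and_trans F L Q (C.rep_adj a ha).1).2.1 _ (C.rep_adj b hb).1
    refine ⟨n, hstab.symm ▸ hn, fun r hr1 hr2 => ?_⟩
    have hy : S.InR (φ.symm r) := hinR _ (by rw [Equiv.apply_symm_apply]; omega)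
    have hfix : fixA (φ.symm r) = fixA (C.rep a) :=
      (hgroup a ha _ hy).1 (by rw [Equiv.apply_symm_apply]; exact ⟨hr1, hr2⟩)
    refine (hgroup b hb _ (S.inR_smul hn hy)).2 ?_
    rw [Seed.fixA_conj hn, hfix, ← Seed.fixA_conj hn, hab]
  · let e : stabilizer G (φ.symm 0) ≃* nA A := MulEquiv.subgroupCongr hstab
    have h1 : (T.map e.toMonoidHom).index = T.index := Subgroup.index_map_equiv _ e
    have h2 : T.map e.toMonoidHom ≠ ⊤ := by
      intro h
      apply hT
      rw [← Subgroup.index_eq_one, ← h1, h, Subgroup.index_top]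
    have := hperf _ h2
    omega

end Cfsg.Agent.Lib.M22Nse57.Graph
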