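import Cfsg.Agent.Lib.M22Nse57.GraphModel

/-!
Finite checks on the sixty cosets used to compare the graph with its model.
-/

set_option autoImplicit false
set_option maxRecDepth 100000

namespace Cfsg.Agent.Lib.M22Nse57.GraphModel

/-- A chosen point of a coset. -/
def pt (sel i : ℕ) : ℕ := (List.range 16).findIdx fun n => (coset sel i).testBit n

/-- The index of the coset of a line through a point. -/
def idx (sel g n : ℕ) : ℕ :=
  4 * g + (List.range 4).findIdx fun r => (coset sel (4 * g + r)).testBit n

theorem pt_spec : ∀ sel ∈ [81, 50, 28, 41, 70], ∀ i < 60,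
    pt sel i < 16 ∧ (coset sel i).testBit (pt sel i) = true ∧ idx sel (i / 4) (pt sel i) = i := by
  decide +kernel

theorem idx_spec : ∀ sel ∈ [81, 50, 28, 41, 70], ∀ g < 15, ∀ n < 16,
    idx sel g n < 60 ∧ idx sel g n / 4 = g ∧ (coset sel (idx sel g n)).testBit n = true := by
  decide +kernel

theorem coset_line : ∀ sel ∈ [81, 50, 28, 41, 70], ∀ i < 60, ∀ n < 16, ∀ m < 16,
    (coset sel i).testBit n = true →
      (coset sel i).testBit m = (line sel (i / 4)).testBit (n ^^^ m) := by decide +kernel

theorem coset_four : ∀ sel ∈ [81, 50, 28, 41, 70], ∀ i < 60, popW 16 (coset sel i) = 4 := by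
  decide +kernel

theorem line_sep : ∀ sel ∈ [81, 50, 28, 41, 70], ∀ g < 15, ∀ h < 15, g ≠ h →
    ((List.range 16).any fun n => (line sel g).testBit n != (line sel h).testBit n) = true := by
  decide +kernel

theorem xor_lt : ∀ m < 16, ∀ n < 16, m ^^^ n < 16 := by decide +kernel

theorem coset_inter : ∀ sel ∈ [81, 50, 28, 41, 70], ∀ i < 60, ∀ j < 60,
    (coset sel i &&& coset sel j != 0) = true →
      ((List.range 16).any fun n => (coset sel i).testBit n && (coset sel j).testBit n) = true := by
  decide +kernel

/-- The vertices forced next to both of two cosets, as a list. -/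
def both (sel i j : ℕ) : List ℕ :=
  (List.range 60).filter fun k => (cand sel i &&& cand sel j).testBit k

/-- A translation of a coset onto a parallel one moving a given coset. -/
def shiftPt (sel i j k : ℕ) : ℕ :=
  (List.range 16).findIdx fun c => idx sel (i / 4) (c ^^^ pt sel i) == j &&
    idx sel (k / 4) (c ^^^ pt sel k) != k

/-- The image of a coset under that translation. -/
def mate (sel i j k : ℕ) : ℕ := idx sel (k / 4) (shiftPt sel i j k ^^^ pt sel k)

theorem cand_shift : ∀ sel ∈ [81, 50, 28, 41, 70], (List.range 60).all (fun i =>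
    (List.range 4).all fun s =>
      i == 4 * (i / 4) + s || (both sel i (4 * (i / 4) + s)).all fun k =>
        Nat.blt (shiftPt sel i (4 * (i / 4) + s) k) 16 &&
          idx sel (i / 4) (shiftPt sel i (4 * (i / 4) + s) k ^^^ pt sel i) == 4 * (i / 4) + s &&
          idx sel (i / 4) (shiftPt sel i (4 * (i / 4) + s) k ^^^ pt sel (4 * (i / 4) + s)) == i &&
          (both sel i (4 * (i / 4) + s)).contains (mate sel i (4 * (i / 4) + s) k) &&
          mate sel i (4 * (i / 4) + s) k != k &&
          mate sel i (4 * (i / 4) + s) (mate sel i (4 * (i / 4) + s) k) == k) = true := by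
  decide +kernel

end Cfsg.Agent.Lib.M22Nse57.GraphModel
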