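import Cfsg.Agent.Lib.M22Nse57.GraphCoded
import Cfsg.Agent.Lib.M22Nse57.GraphIsoChecks

/-!
The graph on the seventy-seven cosets is the model graph of one of three selections of lines.
-/

set_option autoImplicit false
set_option linter.unusedSectionVars false
set_option linter.style.haveILetI false

namespace Cfsg.Agent.Lib.M22Nse57.Graph

open MulAction GraphModel

universe u

variable {G : Type u} [Group G] [Finite G] {A : Subgroup G}

theorem fixA_smul_of_mem (L : Local A) {a : G} (ha : a ∈ A) (y : G ⧸ nA A) :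
    fixA (a • y) = fixA y := by
  have hn : a ∈ nA A := Subgroup.le_normalizer ha
  ext c
  by_cases hc : c ∈ A
  · have h := fixA_smul hn y c
    rwa [Seed.comm_A L ha hc, mul_inv_cancel_right] at h
  · simp [mem_fixA, hc]

theorem card_range_filter (w : ℕ) (f : ℕ → Bool) :
    ((Finset.range w).filter fun n => f n = true).card = (List.range w).countP f := by
  induction w with
  | zero => rfl
  | succ w ih =>
    rw [List.range_succ, List.countP_append, Finset.range_add_one, Finset.filter_insert]
    by_cases h : f w = true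
    · rw [if_pos h, Finset.card_insert_of_notMem (by simp), ih]
      simp [h]
    · rw [if_neg h, ih]
      simp [h]

theorem cand_lt : ∀ sel ∈ [81, 50, 28, 41, 70], ∀ i < 60, cand sel i < 2 ^ 60 := by
  decide +kernel

namespace Seed

variable {S : Seed A}

theorem nbrs_ncard_all (S : Seed A) (F : Facts G) (L : Local A) (y : G ⧸ nA A) :
    {z | S.Adj y z}.ncard = 16 := by
  obtain ⟨g, rfl⟩ := exists_coe y
  have h : {z | S.Adj (g • base A) z} = (fun z => g • z) '' {z | S.Adj (base A) z} := by
    ext z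
    constructor
    · intro hz
      refine ⟨g⁻¹ • z, ?_, smul_inv_smul g z⟩
      show S.Adj (base A) (g⁻¹ • z)
      have := (S.adj_smul g⁻¹).2 hz
      rwa [inv_smul_smul] at this
    · rintro ⟨z, hz, rfl⟩
      exact (S.adj_smul g).2 hz
  rw [h, Set.ncard_image_of_injective _ (MulAction.injective g), S.nbrs_ncard F L]

variable {sel : ℕ}

/-- A point of the short suborbit. -/
def pnt (C : Coded S sel) (n : ℕ) : G ⧸ nA A := C.f n • S.b

/-- A point of the long suborbit. -/
def crd (C : Coded S sel) (i : ℕ) : G ⧸ nA A := C.f (pt sel i) • C.rep (i / 4)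

/-- The vertex with a given number. -/
def vert (C : Coded S sel) (i : Fin 77) : G ⧸ nA A :=
  if i.val = 0 then base A else if i.val ≤ 16 then pnt C (i.val - 1) else crd C (i.val - 17)

variable (C : Coded S sel)

theorem line_lt {i : ℕ} (hi : i < 60) : i / 4 < 15 := by omega

theorem smul_rep (F : Facts G) (L : Local A) {g : ℕ} (hg : g < 15) {m n : ℕ} (hm : m < 16)
    (hn : n < 16) : C.f m • C.rep g = C.f n • C.rep g ↔ (line sel g).testBit (m ^^^ n) = true := by
  have hinv : (C.f n)⁻¹ = C.f n := inv_eq_of_mul_eq_one_right (L.sq _ (C.mem n hn))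
  rw [← C.rep_fix g hg _ (xor_lt m hm n hn), mem_fixA, C.mul m hm n hn,
    comm_A L (C.mem m hm) (C.mem n hn)]
  constructor
  · intro h
    refine ⟨mul_mem (C.mem n hn) (C.mem m hm), ?_⟩
    rw [mul_smul, h, ← mul_smul, L.sq _ (C.mem n hn), one_smul]
  · rintro ⟨-, h⟩
    rwa [mul_smul, ← eq_inv_smul_iff, hinv] at h

theorem eq_crd (F : Facts G) (L : Local A) {g : ℕ} (hg : g < 15) {n : ℕ} (hn : n < 16) :
    C.f n • C.rep g = crd C (idx sel g n) := by
  obtain ⟨h60, h4, hbit⟩ := idx_spec sel C.sel_mem g hg n hn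
  obtain ⟨hp, hpb, -⟩ := pt_spec sel C.sel_mem _ h60
  rw [crd, h4, smul_rep C F L hg hn hp]
  have h := coset_line sel C.sel_mem _ h60 n hn _ hp hbit
  rw [hpb, h4] at h
  exact h.symm

theorem inR_crd {i : ℕ} (hi : i < 60) : S.InR (crd C i) :=
  S.inR_smul (Subgroup.le_normalizer (C.mem _ (pt_spec sel C.sel_mem i hi).1))
    (C.rep_adj _ (line_lt hi)).1

theorem fixA_crd (L : Local A) {i : ℕ} (hi : i < 60) : fixA (crd C i) = fixA (C.rep (i / 4)) :=
  fixA_smul_of_mem L (C.mem _ (pt_spec sel C.sel_mem i hi).1) _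

theorem fixA_inj {g h : ℕ} (hg : g < 15) (hh : h < 15) (he : fixA (C.rep g) = fixA (C.rep h)) :
    g = h := by
  by_contra hne
  obtain ⟨n, hn, hb⟩ := List.any_eq_true.1 (line_sep sel C.sel_mem g hg h hh hne)
  rw [List.mem_range] at hn
  have h1 := C.rep_fix g hg n hn
  have h2 := C.rep_fix h hh n hn
  rw [he] at h1
  have : ((line sel g).testBit n = true) ↔ ((line sel h).testBit n = true) := h1.symm.trans h2
  revert hb this
  cases (line sel g).testBit n <;> cases (line sel h).testBit n <;> simp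

theorem crd_inj (F : Facts G) (L : Local A) {i j : ℕ} (hi : i < 60) (hj : j < 60)
    (h : crd C i = crd C j) : i = j := by
  have hg : i / 4 = j / 4 :=
    fixA_inj C (line_lt hi) (line_lt hj) (by rw [← fixA_crd C L hi, ← fixA_crd C L hj, h])
  obtain ⟨hp, hpb, hidx⟩ := pt_spec sel C.sel_mem i hi
  obtain ⟨hq, hqb, hidx'⟩ := pt_spec sel C.sel_mem j hj
  rw [crd, crd, ← hg, smul_rep C F L (line_lt hi) hp hq] at h
  have h' := coset_line sel C.sel_mem i hi _ hp _ hq hpb
  rw [h] at h'
  obtain ⟨h60, hd, hb⟩ := idx_spec sel C.sel_mem _ (line_lt hi) _ hq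
  have hj' : idx sel (i / 4) (pt sel j) = j := by rw [hg]; exact hidx'
  have key : ∀ s ∈ List.range 4, (coset sel (4 * (i / 4) + s)).testBit (pt sel j) = true →
      4 * (i / 4) + s = j := by
    obtain ⟨r, hr, -, huniq⟩ := coset_spec sel C.sel_mem _ (line_lt hi) _ hq
    intro s hs hsb
    rw [List.mem_range] at hs
    have e1 := huniq s hs hsb
    have e2 := huniq (j % 4) (Nat.mod_lt _ (by norm_num)) (by
      rw [show 4 * (i / 4) + j % 4 = j by omega]; exact hqb)
    omega
  have := key (i % 4) (List.mem_range.2 (Nat.mod_lt _ (by norm_num)))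
    (by rw [show 4 * (i / 4) + i % 4 = i by omega]; exact h')
  omega

theorem adj_pnt_crd (F : Facts G) (L : Local A) {n i : ℕ} (hn : n < 16) (hi : i < 60)
    (hb : (coset sel i).testBit n = true) : S.Adj (pnt C n) (crd C i) := by
  obtain ⟨hp, hpb, -⟩ := pt_spec sel C.sel_mem i hi
  have h := coset_line sel C.sel_mem i hi n hn _ hp hb
  rw [hpb] at h
  have he : C.f n • C.rep (i / 4) = crd C i := (smul_rep C F L (line_lt hi) hn hp).2 h.symm
  rw [← he, pnt]
  exact (S.adj_smul _).2 (C.rep_adj _ (line_lt hi)).2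

theorem pnt_adj_base (F : Facts G) (L : Local A) {n : ℕ} (hn : n < 16) :
    S.Adj (base A) (pnt C n) := (S.adj_base F L).2 ⟨C.f n, C.mem n hn, rfl⟩

theorem nbrs_pnt (F : Facts G) (L : Local A) {n : ℕ} (hn : n < 16) {z : G ⧸ nA A}
    (hz : S.Adj (pnt C n) z) :
    z = base A ∨ ∃ i < 60, (coset sel i).testBit n = true ∧ crd C i = z := by
  classical
  let e : Fin 15 → G ⧸ nA A := fun g => crd C (idx sel g.val n)
  have he : Function.Injective e := by
    intro g h hgh
    obtain ⟨a1, b1, -⟩ := idx_spec sel C.sel_mem _ g.isLt n hn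
    obtain ⟨a2, b2, -⟩ := idx_spec sel C.sel_mem _ h.isLt n hn
    have := crd_inj C F L a1 a2 hgh
    exact Fin.ext (by rw [← b1, ← b2, this])
  set T : Set (G ⧸ nA A) := insert (base A) (Set.range e) with hT
  have hbase : base A ∉ Set.range e := by
    rintro ⟨g, hg⟩
    exact (inR_crd C (idx_spec sel C.sel_mem _ g.isLt n hn).1).1 hg
  have hcard : T.ncard = 16 := by
    rw [hT, Set.ncard_insert_of_notMem hbase, Set.ncard_range_of_injective he, Nat.card_fin]
  have hsub : T ⊆ {z | S.Adj (pnt C n) z} := by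
    rintro z (rfl | ⟨g, rfl⟩)
    · exact S.adj_symm F L (pnt_adj_base C F L hn)
    · obtain ⟨a1, -, c1⟩ := idx_spec sel C.sel_mem _ g.isLt n hn
      exact adj_pnt_crd C F L hn a1 c1
  have heq := Set.eq_of_subset_of_ncard_le hsub (by rw [hcard, S.nbrs_ncard_all F L])
  rcases (Set.ext_iff.1 heq z).2 hz with h | ⟨g, h⟩
  · exact Or.inl h
  · obtain ⟨a1, -, c1⟩ := idx_spec sel C.sel_mem _ g.isLt n hn
    exact Or.inr ⟨_, a1, c1, h⟩

theorem adj_pnt_crd_iff (F : Facts G) (L : Local A) {n i : ℕ} (hn : n < 16) (hi : i < 60) :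
    S.Adj (pnt C n) (crd C i) ↔ (coset sel i).testBit n = true := by
  refine ⟨fun h => ?_, adj_pnt_crd C F L hn hi⟩
  rcases nbrs_pnt C F L hn h with e | ⟨j, hj, hb, e⟩
  · exact absurd e (inR_crd C hi).1
  · rwa [crd_inj C F L hj hi e] at hb

theorem vert_surj (F : Facts G) (L : Local A) : Function.Surjective (vert C) := by
  intro y
  by_cases h0 : y = base A
  · exact ⟨⟨0, by norm_num⟩, by simp [vert, h0]⟩
  by_cases h1 : S.Adj (base A) y
  · obtain ⟨a, ha, rfl⟩ := (S.adj_base F L).1 h1
    obtain ⟨n, hn, rfl⟩ := C.surj a ha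
    exact ⟨⟨1 + n, by omega⟩, by simp [vert, pnt, show 1 + n ≤ 16 by omega]⟩
  · obtain ⟨g, hg, a, ha, rfl⟩ := C.cover y ⟨h0, h1⟩
    obtain ⟨n, hn, rfl⟩ := C.surj a ha
    have h60 := (idx_spec sel C.sel_mem g hg n hn).1
    refine ⟨⟨17 + idx sel g n, by omega⟩, ?_⟩
    rw [eq_crd C F L hg hn]
    show (if (17 + idx sel g n) = 0 then _ else if 17 + idx sel g n ≤ 16 then _ else _) = _
    rw [if_neg (by omega), if_neg (by omega), Nat.add_sub_cancel_left]

/-- The indices of the neighbours in the long suborbit. -/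
noncomputable def nbs (i : ℕ) : Finset ℕ :=
  haveI := Classical.decPred fun k => S.Adj (crd C i) (crd C k)
  (Finset.range 60).filter fun k => S.Adj (crd C i) (crd C k)

theorem mem_nbs {i k : ℕ} : k ∈ nbs C i ↔ k < 60 ∧ S.Adj (crd C i) (crd C k) := by
  simp [nbs]

theorem card_nbs (F : Facts G) (L : Local A) {i : ℕ} (hi : i < 60) : (nbs C i).card = 12 := by
  classical
  set P : Finset ℕ := (Finset.range 16).filter fun n => (coset sel i).testBit n with hP
  have hP4 : P.card = 4 := by
    rw [← coset_four sel C.sel_mem i hi, popW, hP]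
    exact card_range_filter 16 fun n => (coset sel i).testBit n
  have heq : {z | S.Adj (crd C i) z} =
      (fun n => pnt C n) '' (P : Set ℕ) ∪ (fun k => crd C k) '' (nbs C i : Set ℕ) := by
    ext z
    constructor
    · intro hz
      obtain ⟨v, rfl⟩ := vert_surj C F L z
      have hz' : S.Adj (crd C i) (vert C v) := hz
      unfold vert at hz' ⊢
      split_ifs at hz' ⊢ with h0 h16
      · exact absurd (S.adj_symm F L hz') (inR_crd C hi).2
      · refine Or.inl ⟨v.val - 1, ?_, rfl⟩
        simp only [hP, Finset.coe_filter, Set.mem_ofPred_eq, Finset.mem_range]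
        exact ⟨by omega, (adj_pnt_crd_iff C F L (by omega) hi).1 (S.adj_symm F L hz')⟩
      · exact Or.inr ⟨v.val - 17, (mem_nbs C).2 ⟨by omega, hz'⟩, rfl⟩
    · rintro (⟨n, hn, rfl⟩ | ⟨k, hk, rfl⟩)
      · simp only [hP, Finset.coe_filter, Set.mem_ofPred_eq, Finset.mem_range] at hn
        exact S.adj_symm F L (adj_pnt_crd C F L hn.1 hi hn.2)
      · exact ((mem_nbs C).1 hk).2
  have hdisj : Disjoint ((fun n => pnt C n) '' (P : Set ℕ))
      ((fun k => crd C k) '' (nbs C i : Set ℕ)) := by
    rw [Set.disjoint_left]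
    rintro z ⟨n, hn, rfl⟩ ⟨k, hk, e⟩
    simp only [hP, Finset.coe_filter, Set.mem_ofPred_eq, Finset.mem_range] at hn
    have h := pnt_adj_base C F L hn.1
    rw [← show crd C k = pnt C n from e] at h
    exact (inR_crd C ((mem_nbs C).1 hk).1).2 h
  have hinj1 : Set.InjOn (fun n => pnt C n) (P : Set ℕ) := by
    intro m hm n hn h
    simp only [hP, Finset.coe_filter, Set.mem_ofPred_eq, Finset.mem_range] at hm hn
    have h' : ((C.f n)⁻¹ * C.f m) • S.b = S.b := by
      rw [mul_smul, show C.f m • S.b = C.f n • S.b from h, inv_smul_smul]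
    exact (C.inj n hn.1 m hm.1
      (inv_mul_eq_one.1 (S.regular F L (mul_mem (inv_mem (C.mem n hn.1)) (C.mem m hm.1)) h'))).symm
  have hinj2 : Set.InjOn (fun k => crd C k) (nbs C i : Set ℕ) := fun a ha b hb h =>
    crd_inj C F L ((mem_nbs C).1 ha).1 ((mem_nbs C).1 hb).1 h
  have h16 := S.nbrs_ncard_all F L (crd C i)
  rw [heq, Set.ncard_union_eq hdisj, Set.ncard_image_of_injOn hinj1,
    Set.ncard_image_of_injOn hinj2, Set.ncard_coe_finset, Set.ncard_coe_finset, hP4] at h16
  omega

include C in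
theorem cand_iff {i j : ℕ} (hi : i < 60) (hj : j < 60) :
    (cand sel i).testBit j = true ↔
      meets sel (i / 4) (j / 4) = true ∧ coset sel i &&& coset sel j = 0 := by
  have h := List.all_eq_true.1 (List.all_eq_true.1 (cand_spec sel C.sel_mem) i (List.mem_range.2 hi))
    j (List.mem_range.2 hj)
  rw [beq_iff_eq] at h
  rw [h, Bool.and_eq_true, beq_iff_eq]

theorem nbs_cases (F : Facts G) (L : Local A) {i j : ℕ} (hi : i < 60) (h : j ∈ nbs C i) :
    (cand sel i).testBit j = true ∨ (i / 4 = j / 4 ∧ i ≠ j) := by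
  obtain ⟨hj, hadj⟩ := (mem_nbs C).1 h
  have hne : i ≠ j := fun e => S.adj_irrefl _ (e ▸ hadj)
  have h0 : coset sel i &&& coset sel j = 0 := by
    by_contra hc
    obtain ⟨n, hn, hb⟩ := List.any_eq_true.1 (coset_inter sel C.sel_mem i hi j hj (by simp [hc]))
    rw [List.mem_range] at hn
    rw [Bool.and_eq_true] at hb
    exact S.no_triangle F L (S.adj_symm F L (adj_pnt_crd C F L hn hi hb.1)) hadj
      (adj_pnt_crd C F L hn hj hb.2)
  by_cases hg : i / 4 = j / 4
  · exact Or.inr ⟨hg, hne⟩
  · left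
    rw [cand_iff C hi hj]
    refine ⟨?_, h0⟩
    have ha := List.all_eq_true.1 (List.all_eq_true.1 (apart_cosets sel C.sel_mem) i
      (List.mem_range.2 hi)) j (List.mem_range.2 hj)
    simpa [hg, h0] using ha

/-- The forced neighbours as a finite set. -/
def candSet (sel i : ℕ) : Finset ℕ := (Finset.range 60).filter fun k => (cand sel i).testBit k

include C in
theorem card_candSet {i : ℕ} (hi : i < 60) : (candSet sel i).card = 12 := by
  rw [← cand_card sel C.sel_mem i hi, popW]
  exact card_range_filter 60 fun k => (cand sel i).testBit k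

theorem smul_crd (F : Facts G) (L : Local A) {i d : ℕ} (hi : i < 60) (hd : d < 16) :
    C.f d • crd C i = crd C (idx sel (i / 4) (d ^^^ pt sel i)) := by
  obtain ⟨hp, -, -⟩ := pt_spec sel C.sel_mem i hi
  rw [crd, ← mul_smul, ← C.mul d hd _ hp, eq_crd C F L (line_lt hi) (xor_lt d hd _ hp)]

theorem nbs_eq (F : Facts G) (L : Local A) {i : ℕ} (hi : i < 60) :
    nbs C i = candSet sel i := by
  classical
  set X := nbs C i with hX
  set K := candSet sel i with hK
  have hKi : ∀ k, k ∈ K ↔ k < 60 ∧ (cand sel i).testBit k = true := fun k => by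
    simp [hK, candSet]
  set P := X \ K with hP
  have hPj : ∀ j ∈ P, j < 60 ∧ j / 4 = i / 4 ∧ i ≠ j ∧ S.Adj (crd C i) (crd C j) := by
    intro j hj
    rw [hP, Finset.mem_sdiff] at hj
    obtain ⟨hj60, hadj⟩ := (mem_nbs C).1 hj.1
    rcases nbs_cases C F L hi hj.1 with h | ⟨h, hne⟩
    · exact absurd ((hKi j).2 ⟨hj60, h⟩) hj.2
    · exact ⟨hj60, h.symm, hne, hadj⟩
  let I : ℕ → Finset ℕ := fun j => K ∩ candSet sel j
  have hIsub : ∀ j ∈ P, 2 ≤ (I j \ X).card := by
    intro j hj
    obtain ⟨hj60, hjg, hne, hadj⟩ := hPj j hj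
    have hjeq : 4 * (i / 4) + j % 4 = j := by omega
    have hI4 : (I j).card = 4 := by
      have h := cand_pair sel C.sel_mem (i / 4) (line_lt hi) (i % 4) (Nat.mod_lt _ (by norm_num))
        (j % 4) (Nat.mod_lt _ (by norm_num)) (by omega)
      rw [show 4 * (i / 4) + i % 4 = i by omega, hjeq] at h
      have hIe : I j = (Finset.range 60).filter fun k => (cand sel i &&& cand sel j).testBit k := by
        ext k
        simp [I, hK, candSet, Nat.testBit_and, and_assoc]
        tauto
      rw [hIe, ← h, popW]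
      exact card_range_filter 60 fun k => (cand sel i &&& cand sel j).testBit k
    have hs := List.all_eq_true.1 (List.all_eq_true.1 (cand_shift sel C.sel_mem) i
      (List.mem_range.2 hi)) (j % 4) (List.mem_range.2 (Nat.mod_lt _ (by norm_num)))
    rw [hjeq] at hs
    simp only [Bool.or_eq_true, beq_iff_eq, hne, false_or, List.all_eq_true] at hs
    have hboth : ∀ k, k ∈ both sel i j ↔ k ∈ I j := by
      intro k
      simp [both, I, hK, candSet, Nat.testBit_and]
      tauto
    have hfact : ∀ k ∈ I j, mate sel i j k ∈ I j ∧ mate sel i j k ≠ k ∧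
        mate sel i j (mate sel i j k) = k ∧ ¬ (k ∈ X ∧ mate sel i j k ∈ X) := by
      intro k hk
      have h := hs k ((hboth k).2 hk)
      simp only [Bool.and_eq_true, beq_iff_eq, bne_iff_ne, Nat.blt_eq, List.contains_iff_mem] at h
      obtain ⟨⟨⟨⟨⟨hd, hdi⟩, hdj⟩, hm⟩, hmne⟩, hmm⟩ := h
      refine ⟨(hboth _).1 hm, hmne, hmm, fun hb => ?_⟩
      obtain ⟨hk60, hka⟩ := (mem_nbs C).1 hb.1
      obtain ⟨hm60, hma⟩ := (mem_nbs C).1 hb.2
      set d := shiftPt sel i j k with hdd
      have hsq : C.f d * C.f d = 1 := L.sq _ (C.mem d hd)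
      have e1 : C.f d • crd C i = crd C j := by rw [smul_crd C F L hi hd, hdi]
      have e2 : C.f d • crd C k = crd C (mate sel i j k) := by rw [smul_crd C F L hk60 hd]; rfl
      have e3 : C.f d • crd C (mate sel i j k) = crd C k := by
        rw [← e2, ← mul_smul, hsq, one_smul]
      have hjk := (S.adj_smul (C.f d)).2 hma
      rw [e1, e3] at hjk
      exact S.no_triangle F L hadj hka hjk
    have hle : (I j ∩ X).card ≤ (I j \ X).card := by
      refine Finset.card_le_card_of_injOn (mate sel i j) ?_ ?_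
      · intro k hk
        rw [Finset.mem_coe, Finset.mem_inter] at hk
        rw [Finset.mem_coe, Finset.mem_sdiff]
        exact ⟨(hfact k hk.1).1, fun h => (hfact k hk.1).2.2.2 ⟨hk.2, h⟩⟩
      · intro k hk l hl h
        rw [Finset.mem_coe, Finset.mem_inter] at hk hl
        rw [← (hfact k hk.1).2.2.1, h, (hfact l hl.1).2.2.1]
    have := Finset.card_sdiff_add_card_inter (I j) X
    omega
  have hdisj : (P : Set ℕ).PairwiseDisjoint fun j => I j \ X := by
    intro j hj l hl hjl
    obtain ⟨hj60, hjg, hji, -⟩ := hPj j hj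
    obtain ⟨hl60, hlg, hli, -⟩ := hPj l hl
    rw [Function.onFun, Finset.disjoint_left]
    intro k hk hk'
    simp only [I, Finset.mem_sdiff, Finset.mem_inter, candSet, hK, Finset.mem_filter] at hk hk'
    have h := List.all_eq_true.1 (cand_triple sel C.sel_mem) (i / 4)
      (List.mem_range.2 (line_lt hi))
    have h' := List.all_eq_true.1 (List.all_eq_true.1 (List.all_eq_true.1 h (i % 4)
      (List.mem_range.2 (Nat.mod_lt _ (by norm_num)))) (j % 4)
      (List.mem_range.2 (Nat.mod_lt _ (by norm_num)))) (l % 4)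
      (List.mem_range.2 (Nat.mod_lt _ (by norm_num)))
    simp only [Bool.or_eq_true, beq_iff_eq] at h'
    rw [show 4 * (i / 4) + i % 4 = i by omega, show 4 * (i / 4) + j % 4 = j by omega,
      show 4 * (i / 4) + l % 4 = l by omega] at h'
    rcases h' with ((h' | h') | h') | h'
    · omega
    · omega
    · omega
    · have hb := congrArg (fun m => m.testBit k) h'
      simp [Nat.testBit_and, hk.1.1.2, hk.1.2.2, hk'.1.2.2] at hb
  have hsubK : (P.biUnion fun j => I j \ X) ⊆ K \ X := by
    intro k hk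
    simp only [Finset.mem_biUnion, I, Finset.mem_sdiff, Finset.mem_inter] at hk
    obtain ⟨j, -, hk⟩ := hk
    exact Finset.mem_sdiff.2 ⟨hk.1.1, hk.2⟩
  have h1 := Finset.card_le_card hsubK
  rw [Finset.card_biUnion hdisj] at h1
  have h2 := Finset.sum_le_sum (s := P) hIsub
  rw [Finset.sum_const, smul_eq_mul] at h2
  have h3 := card_nbs C F L hi
  have h4 := card_candSet C hi
  rw [← hX] at h3
  rw [← hK] at h4
  have h5 := Finset.card_sdiff_add_card_inter X K
  have h6 := Finset.card_sdiff_add_card_inter K X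
  rw [Finset.inter_comm K X] at h6
  rw [← hP] at h5
  have hP0 : P.card = 0 := by omega
  have hXK : X ⊆ K := Finset.sdiff_eq_empty_iff_subset.1 (Finset.card_eq_zero.1 hP0)
  exact Finset.eq_of_subset_of_card_le hXK (by omega)

theorem adj_crd_iff (F : Facts G) (L : Local A) {i j : ℕ} (hi : i < 60) (hj : j < 60) :
    S.Adj (crd C i) (crd C j) ↔ (cand sel i).testBit j = true := by
  have h := Finset.ext_iff.1 (nbs_eq C F L hi) j
  rw [mem_nbs, candSet, Finset.mem_filter, Finset.mem_range] at h
  exact ⟨fun ha => (h.1 ⟨hj, ha⟩).2, fun hb => (h.2 ⟨hj, hb⟩).2⟩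

theorem adj_vert (F : Facts G) (L : Local A) (i j : Fin 77) :
    S.Adj (vert C i) (vert C j) ↔ adj77 sel i.val j.val = true := by
  unfold vert adj77
  by_cases hi0 : i.val = 0
  · by_cases hj0 : j.val = 0
    · simp [hi0, hj0, S.adj_irrefl]
    · by_cases hj16 : j.val ≤ 16
      · simp [hi0, hj0, hj16, pnt_adj_base C F L (n := j.val - 1) (by omega), show 1 ≤ j.val by omega]
      · simp [hi0, hj0, hj16, (inR_crd C (i := j.val - 17) (by omega)).2]
  · by_cases hj0 : j.val = 0
    · by_cases hi16 : i.val ≤ 16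
      · simp [hi0, hj0, hi16, S.adj_symm F L (pnt_adj_base C F L (n := i.val - 1) (by omega))]
      · simp only [hi0, hj0, hi16, if_false, if_true, decide_false, Bool.false_eq_true, iff_false]
        exact fun h => (inR_crd C (i := i.val - 17) (by omega)).2 (S.adj_symm F L h)
    · by_cases hi16 : i.val ≤ 16
      · by_cases hj16 : j.val ≤ 16
        · simp only [hi0, hj0, hi16, hj16, if_false, if_true]
          rw [decide_eq_false (by omega), Bool.false_and]
          simp only [Bool.false_eq_true, iff_false]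
          exact S.no_triangle F L (pnt_adj_base C F L (by omega)) (pnt_adj_base C F L (by omega))
        · simp [hi0, hj0, hi16, hj16, show 16 < j.val by omega,
            adj_pnt_crd_iff C F L (n := i.val - 1) (i := j.val - 17) (by omega) (by omega)]
      · by_cases hj16 : j.val ≤ 16
        · simp only [hi0, hj0, hi16, hj16, if_false, if_true]
          rw [← adj_pnt_crd_iff C F L (n := j.val - 1) (i := i.val - 17) (by omega) (by omega)]
          exact ⟨S.adj_symm F L, S.adj_symm F L⟩
        · simp only [hi0, hj0, hi16, hj16, if_false]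
          exact adj_crd_iff C F L (by omega) (by omega)

end Seed

theorem exists_phi (F : Facts G) (L : Local A) (S : Seed A) (Q : Quot A) {sel : ℕ}
    (C : Coded S sel) :
    sel ∈ [81, 50, 28] ∧ ∃ φ : (G ⧸ nA A) ≃ Fin 77, (φ (base A)).val = 0 ∧
      (∀ y z, S.Adj y z ↔
        ((GraphModel.nbTable sel).getD (φ y).val 0).testBit (φ z).val = true) ∧
      (∀ g < 15, ∀ y, S.InR y →
        ((17 + 4 * g ≤ (φ y).val ∧ (φ y).val < 21 + 4 * g) ↔ fixA y = fixA (C.rep g))) := by
  classical
  have hsurj := Seed.vert_surj C F L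
  have hbij : Function.Bijective (Seed.vert C) :=
    hsurj.bijective_of_nat_card_le (by rw [card_points F L, Nat.card_fin])
  have hsel : sel ∈ [81, 50, 28] := by
    by_contra hno
    have h5 := C.sel_mem
    have hmem : sel ∈ [41, 70] := by
      simp only [List.mem_cons, List.not_mem_nil, or_false] at h5 hno ⊢
      omega
    obtain ⟨i, hi, hij⟩ := List.any_eq_true.1 (tri_bad sel hmem)
    obtain ⟨j, hj, hb⟩ := List.any_eq_true.1 hij
    rw [List.mem_range] at hi hj
    simp only [Bool.and_eq_true, bne_iff_ne] at hb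
    obtain ⟨k, hk⟩ := Nat.exists_testBit_of_ne_zero hb.2
    rw [Nat.testBit_and, Bool.and_eq_true] at hk
    have hk60 : k < 60 := by
      by_contra hk'
      have hlt : cand sel i < 2 ^ 60 := cand_lt sel C.sel_mem i hi
      have := Nat.testBit_eq_false_of_lt
        (lt_of_lt_of_le hlt (Nat.pow_le_pow_right (by norm_num) (Nat.le_of_not_lt hk')))
      rw [hk.1] at this
      simp at this
    exact S.no_triangle F L ((Seed.adj_crd_iff C F L hi hj).2 hb.1)
      ((Seed.adj_crd_iff C F L hi hk60).2 hk.1) ((Seed.adj_crd_iff C F L hj hk60).2 hk.2)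
  let φ : (G ⧸ nA A) ≃ Fin 77 := (Equiv.ofBijective _ hbij).symm
  have hφ : ∀ y, Seed.vert C (φ y) = y := fun y => (Equiv.ofBijective _ hbij).apply_symm_apply y
  refine ⟨hsel, φ, ?_, fun y z => ?_, fun g hg y hy => ?_⟩
  · have h0 : φ (base A) = ⟨0, by norm_num⟩ :=
      hbij.1 (by rw [hφ]; simp [Seed.vert])
    rw [h0]
  · have h := Seed.adj_vert C F L (φ y) (φ z)
    rw [hφ, hφ] at h
    have ht := List.all_eq_true.1 (List.all_eq_true.1 (nbTable_spec sel hsel) _
      (List.mem_range.2 (φ y).isLt)) _ (List.mem_range.2 (φ z).isLt)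
    rw [beq_iff_eq] at ht
    rw [ht, h]
  · have h17 : 17 ≤ (φ y).val := by
      by_contra hlt
      have e := hφ y
      unfold Seed.vert at e
      split_ifs at e with h0 h16
      · exact hy.1 e.symm
      · exact hy.2 (e ▸ Seed.pnt_adj_base C F L (by omega))
      · omega
    have hy' : Seed.crd C ((φ y).val - 17) = y := by
      have e := hφ y
      unfold Seed.vert at e
      rwa [if_neg (by omega), if_neg (by omega)] at e
    have h60 : (φ y).val - 17 < 60 := by omega
    have hfix : fixA y = fixA (C.rep (((φ y).val - 17) / 4)) := by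
      conv_lhs => rw [← hy']
      exact Seed.fixA_crd C L h60
    constructor
    · intro h
      rw [hfix, show ((φ y).val - 17) / 4 = g by omega]
    · intro h
      have := Seed.fixA_inj C (Seed.line_lt h60) hg (hfix.symm.trans h)
      omega

end Cfsg.Agent.Lib.M22Nse57.Graph
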