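import Cfsg.Agent.Lib.M22Nse57.GraphPoints

/-!
The suborbit of size sixty, its fifteen lines of order four, and the absence of triangles.
-/

set_option autoImplicit false
set_option linter.unusedSectionVars false
set_option linter.style.haveILetI false

namespace Cfsg.Agent.Lib.M22Nse57.Graph

open MulAction
open scoped Pointwise

universe u

variable {G : Type u} [Group G]

/-- What is used of the quotient of the normaliser by the subgroup of order sixteen. -/
structure Quot (A : Subgroup G) where
  π : nA A →* alternatingGroup (Fin 6)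
  surj : Function.Surjective π
  ker : ∀ n : nA A, π n = 1 ↔ (n : G) ∈ A
  six_index : ∀ W : Subgroup (alternatingGroup (Fin 6)), W ≠ ⊤ → 5 < W.index
  six_eight : ∀ W : Subgroup (alternatingGroup (Fin 6)), Nat.card W = 8 → ∃ w ∈ W, w * w ≠ 1

variable {A : Subgroup G}

/-- The points outside the base point and its sixteen neighbours. -/
def Seed.InR (S : Seed A) (y : G ⧸ nA A) : Prop := y ≠ base A ∧ ¬ S.Adj (base A) y

/-- The elements of the sixteen fixing a point. -/
def fixA (y : G ⧸ nA A) : Subgroup G := A ⊓ stabilizer G y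

/-- The lines. -/
def Seed.lines (S : Seed A) : Set (Subgroup G) := {W | ∃ y, S.InR y ∧ fixA y = W}

theorem mem_fixA {y : G ⧸ nA A} {a : G} : a ∈ fixA y ↔ a ∈ A ∧ a • y = y := by
  rw [fixA, Subgroup.mem_inf, mem_stabilizer_iff]

theorem fixA_smul {n : G} (hn : n ∈ nA A) (y : G ⧸ nA A) (a : G) :
    n * a * n⁻¹ ∈ fixA (n • y) ↔ a ∈ fixA y := by
  rw [mem_fixA, mem_fixA]
  have h1 : n * a * n⁻¹ ∈ A ↔ a ∈ A := (Subgroup.mem_normalizer_iff.1 hn a).symm
  rw [h1, mul_smul, mul_smul, inv_smul_smul, smul_left_cancel_iff]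

theorem eq_of_mem_four [Finite G] {W : Subgroup G} (hW : Nat.card W = 4) {V : Subgroup G}
    (hV : Nat.card V = 4) (h : V ≤ W) : V = W :=
  Subgroup.eq_of_le_of_card_ge h (by rw [hV, hW])

namespace Seed

variable (S : Seed A)

theorem comm_A (L : Local A) {a c : G} (ha : a ∈ A) (hc : c ∈ A) : a * c = c * a := by
  have h1 := L.sq a ha
  have h2 := L.sq c hc
  have h3 := L.sq _ (mul_mem ha hc)
  calc a * c = a * (a * c * (a * c)) * c := by rw [h3]; group
    _ = (a * a) * (c * a) * (c * c) := by group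
    _ = c * a := by rw [h1, h2]; group

variable [Finite G]

theorem inR_smul {n : G} (hn : n ∈ nA A) {y : G ⧸ nA A} (hy : S.InR y) : S.InR (n • y) := by
  have hb : n • base A = base A := (smul_base_eq_iff n).2 hn
  refine ⟨fun h => hy.1 (smul_left_cancel n (h.trans hb.symm)), fun h => hy.2 ?_⟩
  rw [← hb] at h
  exact (S.adj_smul n).1 h


theorem exists_AK (F : Facts G) (L : Local A) {n : G} (hn : n ∈ nA A) :
    ∃ a ∈ A, ∃ k ∈ S.K, n = a * k := by
  obtain ⟨a, ha, h⟩ := (S.card_K_and_orbit F L).2 n hn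
  refine ⟨a, ha, a⁻¹ * n, mem_K.2 ⟨mul_mem (inv_mem (Subgroup.le_normalizer ha)) hn, ?_⟩, by group⟩
  rw [mul_smul, h, inv_smul_smul]

theorem K_trans (F : Facts G) (L : Local A) {a c : G} (ha : a ∈ A) (hc : c ∈ A) (ha1 : a ≠ 1)
    (hc1 : c ≠ 1) : ∃ k ∈ S.K, k * a * k⁻¹ = c := by
  obtain ⟨n, hn, h⟩ := L.trans a ha c hc ha1 hc1
  obtain ⟨d, hd, k, hk, rfl⟩ := S.exists_AK F L hn
  refine ⟨k, hk, ?_⟩
  have hkc : k * a * k⁻¹ ∈ A := conj_mem_A (mem_K.1 hk).1 ha
  rw [← h]
  calc k * a * k⁻¹ = d * (k * a * k⁻¹) * d⁻¹ := by rw [comm_A L hd hkc]; group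
    _ = _ := by group

theorem nbrs_ncard (F : Facts G) (L : Local A) :
    {z | S.Adj (base A) z}.ncard = 16 := by
  have : {z | S.Adj (base A) z} = (fun a : A => (a : G) • S.b) '' Set.univ := by
    ext z
    simp only [Set.mem_ofPred_eq, Set.image_univ, Set.mem_range, S.adj_base F L]
    exact ⟨fun ⟨a, ha, h⟩ => ⟨⟨a, ha⟩, h⟩, fun ⟨a, h⟩ => ⟨a, a.2, h⟩⟩
  rw [this, Set.ncard_image_of_injective _ ?_, Set.ncard_univ, L.card]
  intro a c hac
  have h1 : ((c : G)⁻¹ * a) • S.b = S.b := by
    rw [mul_smul, show (a : G) • S.b = (c : G) • S.b from hac, inv_smul_smul]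
  exact Subtype.ext (inv_mul_eq_one.1 (S.regular F L (mul_mem (inv_mem c.2) a.2) h1)).symm

theorem b_indep (F : Facts G) (L : Local A) {d : G} (hd : d ∈ A) : ¬ S.Adj S.b (d • S.b) := by
  classical
  intro hadj
  have hd1 : d ≠ 1 := fun h => S.adj_irrefl S.b (by simpa [h] using hadj)
  have hall : ∀ c ∈ A, c ≠ 1 → S.Adj S.b (c • S.b) := by
    intro c hc hc1
    obtain ⟨k, hk, hkc⟩ := S.K_trans F L hd hc hd1 hc1
    have h := (S.adj_smul k).2 hadj
    have hkb : k • S.b = S.b := (mem_K.1 hk).2
    have hkb' : k⁻¹ • S.b = S.b := inv_smul_eq_iff.2 hkb.symm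
    rw [hkb] at h
    rw [← hkc, mul_smul, mul_smul, hkb']
    exact h
  set B : Set (G ⧸ nA A) := insert (base A) {z | S.Adj (base A) z} with hB
  have hB17 : B.ncard = 17 := by
    rw [hB, Set.ncard_insert_of_notMem (show base A ∉ {z | S.Adj (base A) z} from S.adj_irrefl _) (Set.toFinite _), S.nbrs_ncard F L]
  have hclique : ∀ y ∈ B, ∀ z ∈ B, y ≠ z → S.Adj y z := by
    rintro y (rfl | hy) z (rfl | hz) hne
    · exact absurd rfl hne
    · exact hz
    · exact S.adj_symm F L hy
    · obtain ⟨a, ha, rfl⟩ := (S.adj_base F L).1 hy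
      obtain ⟨c, hc, rfl⟩ := (S.adj_base F L).1 hz
      have hac : a⁻¹ * c ≠ 1 := fun h => hne (by rw [inv_mul_eq_one.1 h])
      have h := (S.adj_smul a).2 (hall _ (mul_mem (inv_mem ha) hc) hac)
      rwa [← mul_smul, mul_inv_cancel_left] at h
  have hnb : ∀ g : G, g • base A ∈ B → g • B = B := by
    intro g hg
    have hn16 : {z | S.Adj (g • base A) z}.ncard = 16 := by
      have : {z | S.Adj (g • base A) z} = (fun z => g • z) '' {z | S.Adj (base A) z} := by
        ext z
        constructor
        · intro hz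
          refine ⟨g⁻¹ • z, ?_, smul_inv_smul g z⟩
          show S.Adj (base A) (g⁻¹ • z)
          have := (S.adj_smul g⁻¹).2 hz
          rwa [inv_smul_smul] at this
        · rintro ⟨z, hz, rfl⟩; exact (S.adj_smul g).2 hz
      rw [this, Set.ncard_image_of_injective _ (MulAction.injective g), S.nbrs_ncard F L]
    have heq : B \ {g • base A} = {z | S.Adj (g • base A) z} := by
      refine Set.eq_of_subset_of_ncard_le (fun z hz => ?_) ?_
      · exact hclique _ hg z hz.1 (fun h => hz.2 h.symm)
      · rw [Set.ncard_sdiff_singleton_of_mem hg, hB17, hn16]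
    ext z
    rw [Set.mem_smul_set_iff_inv_smul_mem]
    constructor
    · rintro (h | h)
      · rw [inv_smul_eq_iff] at h; rw [h]; exact hg
      · have : S.Adj (g • base A) z := by
          have := (S.adj_smul g).2 h
          rwa [smul_inv_smul] at this
        exact ((Set.ext_iff.1 heq z).2 this).1
    · intro hz
      by_cases h : z = g • base A
      · exact Or.inl (by rw [h, inv_smul_smul])
      · right
        have h' := (Set.ext_iff.1 heq z).1 ⟨hz, h⟩
        have := (S.adj_smul g⁻¹).2 h'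
        rwa [inv_smul_smul] at this
  have horb : orbit (stabilizer G B) (base A) = B := by
    ext y
    constructor
    · rintro ⟨g, rfl⟩
      have hg : (g : G) • B = B := g.2
      exact (Set.ext_iff.1 hg _).1 (Set.smul_mem_smul_set (Set.mem_insert _ _))
    · intro hy
      obtain ⟨g, rfl⟩ := exists_coe y
      exact ⟨⟨g, hnb g hy⟩, rfl⟩
  have h := (stabilizer (stabilizer G B) (base A)).index_dvd_card
  rw [MulAction.index_stabilizer, horb, hB17] at h
  have h' := h.trans (Subgroup.card_subgroup_dvd_card (stabilizer G B))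
  rw [F.card] at h'
  norm_num at h'

theorem no_triangle (F : Facts G) (L : Local A) {y z v : G ⧸ nA A} (h1 : S.Adj y z)
    (h2 : S.Adj y v) : ¬ S.Adj z v := by
  intro h3
  obtain ⟨g, rfl⟩ := exists_coe y
  have k1 : S.Adj (base A) (g⁻¹ • z) := by
    have := (S.adj_smul g⁻¹).2 h1; rwa [inv_smul_smul] at this
  have k2 : S.Adj (base A) (g⁻¹ • v) := by
    have := (S.adj_smul g⁻¹).2 h2; rwa [inv_smul_smul] at this
  obtain ⟨a, ha, hza⟩ := (S.adj_base F L).1 k1
  obtain ⟨c, hc, hvc⟩ := (S.adj_base F L).1 k2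
  have k3 := (S.adj_smul g⁻¹).2 h3
  rw [← hza, ← hvc] at k3
  have k4 := (S.adj_smul a⁻¹).2 k3
  rw [inv_smul_smul, ← mul_smul] at k4
  exact S.b_indep F L (mul_mem (inv_mem ha) hc) k4

theorem ncard_R (F : Facts G) (L : Local A) : {y | S.InR y}.ncard = 60 := by
  have h : {y | S.InR y} = (insert (base A) {z | S.Adj (base A) z})ᶜ := by
    ext y
    simp only [Seed.InR, Set.mem_ofPred_eq, Set.mem_compl_iff, Set.mem_insert_iff, not_or]
  rw [h, Set.ncard_compl, Set.ncard_insert_of_notMem (show base A ∉ {z | S.Adj (base A) z} from S.adj_irrefl _) (Set.toFinite _),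
    S.nbrs_ncard F L, card_points F L]

/-- Points of the long suborbit: their lines have order four and they form one orbit. -/
theorem card_fixA_and_trans (F : Facts G) (L : Local A) (Q : Quot A) {y : G ⧸ nA A}
    (hy : S.InR y) :
    Nat.card (fixA y) = 4 ∧ (∀ z, S.InR z → ∃ n ∈ nA A, n • y = z) ∧
      Nat.card (stabilizer (nA A) y) = 96 := by
  classical
  have key : ∀ y, S.InR y → Nat.card (fixA y) = 4 ∧ 40 ≤ (orbit (nA A) y).ncard ∧
      orbit (nA A) y ⊆ {z | S.InR z} := by
    intro y hy
    set O := orbit (nA A) y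
    have hOR : O ⊆ {z | S.InR z} := by
      rintro _ ⟨n, rfl⟩; exact S.inR_smul n.2 hy
    have hO60 : O.ncard ≤ 60 := S.ncard_R F L ▸ Set.ncard_le_ncard hOR
    have hO5 : O.ncard % 5 = 0 := by
      rw [card_mod_five S.hx O (fun z hz => by
        obtain ⟨n, rfl⟩ := hz
        exact ⟨⟨S.x, S.hxN⟩ * n, mul_smul S.x (n : G) y⟩)]
      have : ({z ∈ O | S.x • z = z}) = ∅ := by
        ext z
        simp only [Set.mem_ofPred_eq, Set.mem_empty_iff_false, iff_false, not_and]
        intro hz hxz
        rcases S.fixed F L hxz with h | h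
        · exact (hOR hz).1 h
        · exact (hOR hz).2 ((S.adj_base F L).2 ⟨1, one_mem A, by rw [one_smul, h]⟩)
      rw [this, Set.ncard_empty]
    have horb : Nat.card (stabilizer (nA A) y) * O.ncard = 5760 := by
      have h := (stabilizer (nA A) y).card_mul_index
      rwa [MulAction.index_stabilizer, L.card_norm] at h
    let f := Q.π.comp (stabilizer (nA A) y).subtype
    have hker : Nat.card f.ker = Nat.card (fixA y) :=
      Nat.card_congr
        { toFun := fun n => ⟨(n.1.1 : G), (Q.ker _).1 n.2, n.1.2⟩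
          invFun := fun a => ⟨⟨⟨a.1, Subgroup.le_normalizer a.2.1⟩, a.2.2⟩, (Q.ker _).2 a.2.1⟩
          left_inv := fun n => rfl
          right_inv := fun a => rfl }
    have hsplit : Nat.card (stabilizer (nA A) y) = Nat.card f.range * Nat.card (fixA y) := by
      rw [Subgroup.card_eq_card_quotient_mul_card_subgroup f.ker,
        Nat.card_congr (QuotientGroup.quotientKerEquivRange f).toEquiv, hker]
    have hIm : Nat.card f.range ≤ 36 ∧ ¬ 5 ∣ Nat.card f.range := by
      have h5 : ¬ 5 ∣ Nat.card f.range := by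
        intro h5
        have h25 : 25 ∣ 5760 := by
          rw [← horb, hsplit]
          exact Nat.mul_dvd_mul (dvd_mul_of_dvd_left h5 _) (Nat.dvd_of_mod_eq_zero hO5)
        norm_num at h25
      refine ⟨?_, h5⟩
      have h2 := f.range.card_mul_index
      rw [nat_card_alternatingGroup, Nat.card_fin,
        show Nat.factorial 6 / 2 = 360 by decide] at h2
      have hne : f.range ≠ ⊤ := fun h => h5 (by
        rw [h, Subgroup.card_top, nat_card_alternatingGroup, Nat.card_fin]
        decide)
      have h6 := Q.six_index _ hne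
      have hdvd : Nat.card f.range ∣ 360 := Dvd.intro _ h2
      by_contra hcon
      have h7 : f.range.index < 10 := by
        by_contra h8
        have := Nat.mul_le_mul (Nat.succ_le_of_lt (Nat.lt_of_not_le hcon)) (Nat.le_of_not_lt h8)
        omega
      have h9 : Nat.card f.range = 360 / f.range.index := by
        rw [← h2, Nat.mul_div_cancel _ (by omega)]
      interval_cases h : f.range.index <;> omega
    have hA16 := L.card
    have hd : Nat.card (fixA y) ∣ 16 := L.card ▸ Subgroup.card_dvd_of_le (inf_le_left : fixA y ≤ A)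
    have hmem : Nat.card (fixA y) ∈ Nat.divisors 16 := Nat.mem_divisors.2 ⟨hd, by norm_num⟩
    have hdiv : Nat.divisors 16 = {1, 2, 4, 8, 16} := by decide
    rw [hdiv] at hmem
    simp only [Finset.mem_insert, Finset.mem_singleton] at hmem
    have hbound : 96 ≤ Nat.card f.range * Nat.card (fixA y) := by
      rw [← hsplit]
      by_contra hcon
      have := Nat.mul_le_mul (Nat.le_of_lt_succ (Nat.lt_of_not_le hcon) : _ ≤ 95) hO60
      omega
    have h16 : Nat.card (fixA y) ≠ 16 := by
      intro h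
      obtain ⟨a, ha, hay⟩ := A_moves L hy.1
      have := Subgroup.eq_of_le_of_card_ge (inf_le_left : fixA y ≤ A) (by rw [L.card]; exact h.ge)
      rw [← this] at ha
      exact hay (mem_fixA.1 ha).2
    have h8 : Nat.card (fixA y) ≠ 8 := by
      intro h
      obtain ⟨g, rfl⟩ : ∃ g : G, (g : G ⧸ nA A) = y := QuotientGroup.mk_surjective y
      have hg : g ∉ nA A := fun hg => hy.1 (by rw [QuotientGroup.eq]; simpa using hg)
      let e : fixA (g : G ⧸ nA A) →* alternatingGroup (Fin 6) :=
        Q.π.comp (((MulAut.conj g⁻¹).toMonoidHom.comp (fixA _).subtype).codRestrict (nA A)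
          fun a => by simpa using (fix_coe_iff (a : G) g).1 (mem_fixA.1 a.2).2)
      have he : Function.Injective e := by
        rw [injective_iff_map_eq_one]
        intro a ha
        have ha' : g⁻¹ * (a : G) * g ∈ A := by simpa using (Q.ker _).1 ha
        by_contra ha1
        exact hg (inv_mem_iff.1 (L.ti g⁻¹ a (mem_fixA.1 a.2).1 (by simpa using ha')
          (fun h => ha1 (Subtype.ext h))))
      obtain ⟨w, ⟨a, rfl⟩, hww⟩ := Q.six_eight e.range (by
        rw [← h]; exact (Nat.card_congr (MonoidHom.ofInjective he).toEquiv).symm)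
      apply hww
      rw [← map_mul, show a * a = 1 from Subtype.ext (L.sq a (mem_fixA.1 a.2).1), map_one]
    have h4 : Nat.card (fixA y) = 4 := by
      rcases hmem with h | h | h | h | h <;> rw [h] at hbound <;> omega
    refine ⟨h4, ?_, hOR⟩
    rw [hsplit, h4] at horb
    by_contra hcon
    have := Nat.mul_le_mul (Nat.mul_le_mul_right 4 hIm.1) (Nat.le_of_lt_succ (Nat.lt_of_not_le hcon) :
      O.ncard ≤ 39)
    omega
  obtain ⟨h4, h40, hsub⟩ := key y hy
  have heq : orbit (nA A) y = {z | S.InR z} := by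
    refine Set.Subset.antisymm hsub fun z hz => ?_
    by_contra hzy
    obtain ⟨-, hz40, hzsub⟩ := key z hz
    have hdisj : Disjoint (orbit (nA A) y) (orbit (nA A) z) :=
      (orbit.eq_or_disjoint y z).resolve_left fun h => hzy (h ▸ mem_orbit_self z)
    have := Set.ncard_le_ncard (Set.union_subset hsub hzsub)
    rw [Set.ncard_union_eq hdisj, S.ncard_R F L] at this
    omega
  refine ⟨h4, fun z hz => ?_, ?_⟩
  · obtain ⟨n, hn⟩ := (heq ▸ hz : z ∈ orbit (nA A) y)
    exact ⟨n, n.2, hn⟩
  · have h := (stabilizer (nA A) y).card_mul_index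
    rw [MulAction.index_stabilizer, L.card_norm, heq, S.ncard_R F L] at h
    omega

end Seed

end Cfsg.Agent.Lib.M22Nse57.Graph
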