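import Cfsg.Agent.Lib.M22Nse57.GraphBase

/-!
The seventy-seven cosets of the normaliser: the two fixed points of an element of order five, the
self-paired suborbit through them, and its regularity under the subgroup of order sixteen.
-/

set_option autoImplicit false
set_option linter.unusedSectionVars false
set_option linter.style.haveILetI false

namespace Cfsg.Agent.Lib.M22Nse57.Graph

open MulAction

universe u

variable {G : Type u} [Group G]

/-- The normaliser of the subgroup of order sixteen. -/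
abbrev nA (A : Subgroup G) : Subgroup G := Subgroup.normalizer (A : Set G)

/-- The base point. -/
abbrev base (A : Subgroup G) : G ⧸ nA A := ((1 : G) : G ⧸ nA A)

/-- An element of order five in the normaliser and an element moving it off the normaliser. -/
structure Seed (A : Subgroup G) where
  x : G
  w : G
  hx : orderOf x = 5
  hxN : x ∈ nA A
  hw : w ∈ Subgroup.normalizer (Subgroup.zpowers x : Set G)
  hwN : w ∉ nA A

variable {A : Subgroup G}

/-- The second fixed point of the element of order five. -/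
abbrev Seed.b (S : Seed A) : G ⧸ nA A := (S.w : G ⧸ nA A)

/-- The orbital relation of the two fixed points. -/
def Seed.Adj (S : Seed A) (y z : G ⧸ nA A) : Prop :=
  ∃ g : G, g • base A = y ∧ g • S.b = z

/-- The stabiliser of the second point in the normaliser. -/
def Seed.K (S : Seed A) : Subgroup G := nA A ⊓ stabilizer G S.b

theorem smul_coe (g h : G) : g • (h : G ⧸ nA A) = ((g * h : G) : G ⧸ nA A) := rfl

theorem smul_base_eq_iff (g : G) : g • base A = base A ↔ g ∈ nA A := by
  rw [smul_coe, mul_one, eq_comm, QuotientGroup.eq, inv_one, one_mul]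

theorem exists_coe (y : G ⧸ nA A) : ∃ g : G, g • base A = y := by
  induction y using QuotientGroup.induction_on with
  | H g => exact ⟨g, by rw [smul_coe, mul_one]⟩

theorem fix_coe_iff (g h : G) : g • (h : G ⧸ nA A) = h ↔ h⁻¹ * g * h ∈ nA A := by
  rw [smul_coe, eq_comm, QuotientGroup.eq, mul_assoc]

theorem mem_K {S : Seed A} {g : G} : g ∈ S.K ↔ g ∈ nA A ∧ g • S.b = S.b := by
  rw [Seed.K, Subgroup.mem_inf, mem_stabilizer_iff]

theorem conj_mem_A {n a : G} (hn : n ∈ nA A) (ha : a ∈ A) : n * a * n⁻¹ ∈ A :=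
  (Subgroup.mem_normalizer_iff.1 hn a).1 ha

variable [Finite G]

theorem index_nA (F : Facts G) (L : Local A) : (nA A).index = 77 := by
  have h := (nA A).card_mul_index
  rw [L.card_norm, F.card] at h
  omega

theorem card_points (F : Facts G) (L : Local A) : Nat.card (G ⧸ nA A) = 77 := by
  rw [← Subgroup.index_eq_card, index_nA F L]

theorem card_inf_normalizer (F : Facts G) (L : Local A) {x : G} (hx : orderOf x = 5)
    (hxN : x ∈ nA A) :
    Nat.card ((Subgroup.normalizer (Subgroup.zpowers x : Set G)).subgroupOf (nA A)) = 10 := by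
  set P := Subgroup.normalizer (Subgroup.zpowers x : Set G)
  have h1 := (five_conj F hx (nA A) hxN).1
  have h2 := (P.subgroupOf (nA A)).card_mul_index
  rw [L.card_norm] at h2
  have h5 : 5 ∣ Nat.card (P.subgroupOf (nA A)) := by
    have hxP : (⟨x, hxN⟩ : nA A) ∈ P.subgroupOf (nA A) :=
      Subgroup.le_normalizer (Subgroup.mem_zpowers x)
    have hd := (P.subgroupOf (nA A)).orderOf_dvd_natCard hxP
    rwa [Subgroup.orderOf_mk, hx] at hd
  have h20 : Nat.card (P.subgroupOf (nA A)) ∣ 20 := by
    refine dvd_trans ?_ (card_normalizer_five_dvd F hx)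
    have : Nat.card (P.subgroupOf (nA A)) = Nat.card ((P ⊓ nA A : Subgroup G)) := by
      rw [← Subgroup.inf_subgroupOf_right P (nA A)]
      exact Nat.card_congr (Subgroup.subgroupOfEquivOfLe inf_le_right).toEquiv
    rw [this]
    exact Subgroup.card_dvd_of_le inf_le_left
  have hmem : Nat.card (P.subgroupOf (nA A)) ∈ Nat.divisors 20 := Nat.mem_divisors.2 ⟨h20, by norm_num⟩
  have hdiv : Nat.divisors 20 = {1, 2, 4, 5, 10, 20} := by decide
  rw [hdiv] at hmem
  simp only [Finset.mem_insert, Finset.mem_singleton] at hmem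
  have h1' : (P.subgroupOf (nA A)).index % 5 = 1 := h1
  rcases hmem with h | h | h | h | h | h <;> rw [h] at h2 h5 <;> omega

theorem card_normalizer_five (F : Facts G) {x : G} (hx : orderOf x = 5) :
    Nat.card (Subgroup.normalizer (Subgroup.zpowers x : Set G)) = 20 := by
  set P := Subgroup.normalizer (Subgroup.zpowers x : Set G)
  have h1 := (five_conj F hx ⊤ (Subgroup.mem_top x)).1
  have h5 : 5 ∣ Nat.card P := by
    have hd := P.orderOf_dvd_natCard (Subgroup.le_normalizer (Subgroup.mem_zpowers x) : x ∈ P)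
    rwa [hx] at hd
  have h20 := card_normalizer_five_dvd F hx
  have hmem : Nat.card P ∈ Nat.divisors 20 := Nat.mem_divisors.2 ⟨h20, by norm_num⟩
  have hdiv : Nat.divisors 20 = {1, 2, 4, 5, 10, 20} := by decide
  rw [hdiv] at hmem
  simp only [Finset.mem_insert, Finset.mem_singleton] at hmem
  have hidx : (P.subgroupOf ⊤).index = P.index := Subgroup.relIndex_top_right P
  rw [hidx] at h1
  have h2 := P.card_mul_index
  rw [F.card] at h2
  rcases hmem with h | h | h | h | h | h <;> rw [h] at h2 h5 <;> omega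

theorem exists_seed (F : Facts G) (L : Local A) : Nonempty (Seed A) := by
  haveI : Fact (Nat.Prime 5) := ⟨by norm_num⟩
  obtain ⟨x, hx⟩ := exists_prime_orderOf_dvd_card' 5
    (show 5 ∣ Nat.card (nA A) by rw [L.card_norm]; norm_num)
  have hxo : orderOf (x : G) = 5 := by rw [Subgroup.orderOf_coe, hx]
  have h10 := card_inf_normalizer F L hxo x.2
  by_contra hne
  have hsub : Subgroup.normalizer (Subgroup.zpowers (x : G) : Set G) ≤ nA A := fun w hw => by
    by_contra hwN
    exact hne ⟨⟨x, w, hxo, x.2, hw, hwN⟩⟩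
  rw [Nat.card_congr (Subgroup.subgroupOfEquivOfLe hsub).toEquiv, card_normalizer_five F hxo] at h10
  omega

namespace Seed

variable (S : Seed A)

theorem fixed (F : Facts G) (L : Local A) {y : G ⧸ nA A} (hy : S.x • y = y) :
    y = base A ∨ y = S.b := by
  set P := Subgroup.normalizer (Subgroup.zpowers S.x : Set G)
  obtain ⟨g, rfl⟩ : ∃ g : G, (g : G ⧸ nA A) = y := QuotientGroup.mk_surjective y
  rw [fix_coe_iff] at hy
  have ho : orderOf (g⁻¹ * S.x * g) = 5 := by
    have := MulEquiv.orderOf_eq (MulAut.conj g⁻¹) S.x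
    simp only [MulAut.conj_apply, inv_inv] at this
    rw [this, S.hx]
  obtain ⟨n, hn, hmem⟩ := (five_conj F S.hx (nA A) S.hxN).2 _ hy ho
  have hgn : g * n ∈ P := by
    have h5 : orderOf (n⁻¹ * (g⁻¹ * S.x * g) * n) = 5 := by
      have := MulEquiv.orderOf_eq (MulAut.conj n⁻¹) (g⁻¹ * S.x * g)
      simp only [MulAut.conj_apply, inv_inv] at this
      rw [this, ho]
    have hz : Subgroup.zpowers (n⁻¹ * (g⁻¹ * S.x * g) * n) = Subgroup.zpowers S.x := by
      refine Subgroup.eq_of_le_of_card_ge (Subgroup.zpowers_le.2 hmem) ?_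
      rw [Nat.card_zpowers, Nat.card_zpowers, h5, S.hx]
    rw [← inv_inv (g * n)]
    refine inv_mem ?_
    rw [Subgroup.mem_normalizer_iff']
    intro z
    have hc : ∀ k : ℤ, (n⁻¹ * (g⁻¹ * S.x * g) * n) ^ k = (g * n)⁻¹ * S.x ^ k * (g * n) := by
      intro k
      rw [show n⁻¹ * (g⁻¹ * S.x * g) * n = (g * n)⁻¹ * S.x * ((g * n)⁻¹)⁻¹ by group, conj_zpow,
        inv_inv]
    constructor
    · intro hzh
      obtain ⟨k, hk⟩ := Subgroup.mem_zpowers_iff.1 hzh
      rw [← hz, Subgroup.mem_zpowers_iff]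
      refine ⟨k, ?_⟩
      rw [hc, hk]
      group
    · intro hzh
      rw [← hz] at hzh
      obtain ⟨k, hk⟩ := Subgroup.mem_zpowers_iff.1 hzh
      rw [Subgroup.mem_zpowers_iff]
      refine ⟨k, ?_⟩
      rw [hc] at hk
      calc S.x ^ k = (g * n) * ((g * n)⁻¹ * S.x ^ k * (g * n)) * (g * n)⁻¹ := by group
        _ = _ := by rw [hk]; group
  have hcoe : (g : G ⧸ nA A) = ((g * n : G) : G ⧸ nA A) := by
    rw [QuotientGroup.eq]; simpa using hn
  by_cases hc : g * n ∈ nA A
  · left
    rw [hcoe, QuotientGroup.eq]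
    simpa using inv_mem hc
  · right
    rw [hcoe, Seed.b, QuotientGroup.eq]
    have h2 : ((nA A).subgroupOf P).index = 2 := by
      have h := ((nA A).subgroupOf P).card_mul_index
      have hcard : Nat.card ((nA A).subgroupOf P) = 10 := by
        rw [← card_inf_normalizer F L S.hx S.hxN, ← Subgroup.inf_subgroupOf_right P (nA A),
          ← Subgroup.inf_subgroupOf_right (nA A) P,
          Nat.card_congr (Subgroup.subgroupOfEquivOfLe inf_le_right).toEquiv,
          Nat.card_congr (Subgroup.subgroupOfEquivOfLe inf_le_right).toEquiv, inf_comm]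
      rw [card_normalizer_five F S.hx, hcard] at h
      omega
    have hiff := Subgroup.mul_mem_iff_of_index_two h2
      (a := (⟨(g * n)⁻¹, inv_mem hgn⟩ : P)) (b := (⟨S.w, S.hw⟩ : P))
    simp only [Subgroup.mem_subgroupOf, Subgroup.coe_mul] at hiff
    exact hiff.2 (iff_of_false (fun h => hc (by simpa using inv_mem h)) S.hwN)

theorem x_base : S.x • base A = base A := (smul_base_eq_iff _).2 S.hxN

theorem b_ne : S.b ≠ base A := by
  intro h
  rw [Seed.b, QuotientGroup.eq, mul_one] at h
  exact S.hwN ((inv_mem_iff).1 h)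

theorem x_b : S.x • S.b = S.b := by
  rw [Seed.b, fix_coe_iff]
  have h := (Subgroup.mem_normalizer_iff'.1 S.hw (S.w⁻¹ * S.x)).2
    (by simp)
  obtain ⟨k, hk⟩ := Subgroup.mem_zpowers_iff.1 h
  have : S.w⁻¹ * S.x * S.w = S.x ^ k := hk.symm
  rw [this]
  exact zpow_mem S.hxN k

theorem w_b (F : Facts G) (L : Local A) : S.w • S.b = base A := by
  have hf : S.x • (S.w • S.b) = S.w • S.b := by
    have hmem : S.w⁻¹ * S.x * S.w ∈ Subgroup.zpowers S.x :=
      (Subgroup.mem_normalizer_iff'.1 S.hw (S.w⁻¹ * S.x)).2 (by simp)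
    obtain ⟨k, hk⟩ := Subgroup.mem_zpowers_iff.1 hmem
    have hxb : S.x ^ k • S.b = S.b :=
      zpow_mem (mem_stabilizer_iff.2 (S.x_b) : S.x ∈ stabilizer G S.b) k
    rw [← mul_smul, show S.x * S.w = S.w * (S.w⁻¹ * S.x * S.w) by group, ← hk, mul_smul, hxb]
  rcases S.fixed F L hf with h | h
  · exact h
  · exfalso
    have h' : S.w • S.b = S.w • base A := by
      rw [h, smul_coe, mul_one]
    exact S.b_ne (smul_left_cancel _ h')

theorem adj_symm (F : Facts G) (L : Local A) {y z : G ⧸ nA A} (h : S.Adj y z) : S.Adj z y := by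
  obtain ⟨g, h1, h2⟩ := h
  refine ⟨g * S.w, ?_, ?_⟩
  · rw [mul_smul, smul_coe S.w 1, mul_one]; exact h2
  · rw [mul_smul, S.w_b F L]; exact h1

theorem adj_smul (g : G) {y z : G ⧸ nA A} : S.Adj (g • y) (g • z) ↔ S.Adj y z := by
  constructor
  · rintro ⟨h, h1, h2⟩
    refine ⟨g⁻¹ * h, ?_, ?_⟩
    · rw [mul_smul, h1, inv_smul_smul]
    · rw [mul_smul, h2, inv_smul_smul]
  · rintro ⟨h, h1, h2⟩
    exact ⟨g * h, by rw [mul_smul, h1], by rw [mul_smul, h2]⟩

theorem adj_irrefl (y : G ⧸ nA A) : ¬ S.Adj y y := by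
  rintro ⟨g, h1, h2⟩
  exact S.b_ne (smul_left_cancel g (h2.trans h1.symm))

theorem adj_base_iff {z : G ⧸ nA A} : S.Adj (base A) z ↔ ∃ n ∈ nA A, n • S.b = z := by
  constructor
  · rintro ⟨g, h1, h2⟩; exact ⟨g, (smul_base_eq_iff g).1 h1, h2⟩
  · rintro ⟨n, h1, h2⟩; exact ⟨n, (smul_base_eq_iff n).2 h1, h2⟩

end Seed

/-- A subgroup of order sixteen fixes no other point. -/
theorem A_moves (L : Local A) {y : G ⧸ nA A} (hy : y ≠ base A) :
    ∃ a ∈ A, a • y ≠ y := by
  by_contra hall
  push Not at hall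
  obtain ⟨g, rfl⟩ : ∃ g : G, (g : G ⧸ nA A) = y := QuotientGroup.mk_surjective y
  have hg : g ∉ nA A := fun hg => hy (by
    rw [QuotientGroup.eq]; simpa using hg)
  let A' : Subgroup (nA A) := A.subgroupOf (nA A)
  haveI : A'.Normal := (Subgroup.normal_subgroupOf_iff_le_normalizer Subgroup.le_normalizer).2 le_rfl
  let f : A →* (nA A) ⧸ A' :=
    (QuotientGroup.mk' A').comp
      (((MulAut.conj g⁻¹).toMonoidHom.comp A.subtype).codRestrict (nA A) fun a => by
        have h := (fix_coe_iff (a : G) g).1 (hall a a.2)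
        simpa using h)
  have hf : Function.Injective f := by
    rw [injective_iff_map_eq_one]
    intro a ha
    have ha' : g⁻¹ * (a : G) * g ∈ A := by
      have h := (QuotientGroup.eq_one_iff _).1 ha
      simpa [A', Subgroup.mem_subgroupOf] using h
    by_contra ha1
    have h2 := L.ti g⁻¹ a a.2 (by simpa using ha') (fun h => ha1 (Subtype.ext h))
    exact hg (inv_mem_iff.1 h2)
  have h1 := Subgroup.card_dvd_of_injective f hf
  have h2 := A'.card_mul_index
  rw [show Nat.card A' = 16 from
    (Nat.card_congr (Subgroup.subgroupOfEquivOfLe Subgroup.le_normalizer).toEquiv).trans L.card,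
    L.card_norm, Subgroup.index_eq_card] at h2
  rw [L.card] at h1
  omega

/-- A subgroup of the sixteen normalised by an element of order five is trivial or everything. -/
theorem inv_subgroup (F : Facts G) (L : Local A) {x : G} (hx : orderOf x = 5) (H : Subgroup G)
    (hH : H ≤ A) (hinv : ∀ a ∈ H, x * a * x⁻¹ ∈ H) : H = ⊥ ∨ H = A := by
  classical
  haveI : Finite (ConjAct G) := Finite.of_equiv G ConjAct.toConjAct.toEquiv
  have hx' : orderOf (ConjAct.toConjAct x) = 5 := (MulEquiv.orderOf_eq ConjAct.toConjAct x).trans hx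
  have hm := card_mod_five hx' (H : Set G) (fun a ha => by
    rw [ConjAct.toConjAct_smul]; exact hinv a ha)
  have hset : ({a ∈ (H : Set G) | ConjAct.toConjAct x • a = a}) = {1} := by
    ext a
    simp only [Set.mem_ofPred_eq, SetLike.mem_coe, Set.mem_singleton_iff, ConjAct.toConjAct_smul]
    constructor
    · rintro ⟨haH, hxa⟩
      have hcomm : a ∈ Subgroup.centralizer ({x} : Set G) := by
        rw [Subgroup.mem_centralizer_singleton_iff]
        exact (mul_inv_eq_iff_eq_mul.1 hxa).symm
      rw [centralizer_five F hx] at hcomm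
      have h5 : orderOf a ∣ 5 := by
        have := (Subgroup.zpowers x).orderOf_dvd_natCard hcomm
        rwa [Nat.card_zpowers, hx] at this
      have h2 : orderOf a ∣ 2 := orderOf_dvd_of_pow_eq_one (by rw [sq]; exact L.sq a (hH haH))
      exact orderOf_eq_one_iff.1 (Nat.dvd_one.1 (Nat.dvd_gcd h5 h2))
    · rintro rfl; exact ⟨one_mem H, by simp⟩
  rw [hset, Set.ncard_singleton, ← Nat.card_coe_set_eq] at hm
  have hm' : Nat.card H % 5 = 1 := hm
  have hd := Subgroup.card_dvd_of_le hH
  rw [L.card] at hd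
  have hmem : Nat.card H ∈ Nat.divisors 16 := Nat.mem_divisors.2 ⟨hd, by norm_num⟩
  have hdiv : Nat.divisors 16 = {1, 2, 4, 8, 16} := by decide
  rw [hdiv] at hmem
  simp only [Finset.mem_insert, Finset.mem_singleton] at hmem
  rcases hmem with h | h | h | h | h <;> first | omega | skip
  · exact Or.inl (Subgroup.card_eq_one.1 h)
  · exact Or.inr (Subgroup.eq_of_le_of_card_ge hH (by rw [h, L.card]))

namespace Seed

variable (S : Seed A)

theorem regular (F : Facts G) (L : Local A) {a : G} (ha : a ∈ A) (hab : a • S.b = S.b) : a = 1 := by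
  rcases inv_subgroup F L S.hx (A ⊓ stabilizer G S.b) inf_le_left (fun c hc => by
      obtain ⟨h1, h2⟩ := Subgroup.mem_inf.1 hc
      refine Subgroup.mem_inf.2 ⟨conj_mem_A S.hxN h1, ?_⟩
      have hxs : S.x ∈ stabilizer G S.b := S.x_b
      exact mul_mem (mul_mem hxs h2) (inv_mem hxs)) with h | h
  · have : a ∈ A ⊓ stabilizer G S.b := ⟨ha, hab⟩
    rwa [h, Subgroup.mem_bot] at this
  · exfalso
    obtain ⟨c, hc, hcb⟩ := A_moves L S.b_ne
    exact hcb (inf_eq_left.1 h hc)

theorem card_K_and_orbit (F : Facts G) (L : Local A) :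
    Nat.card S.K = 360 ∧ ∀ n ∈ nA A, ∃ a ∈ A, n • S.b = a • S.b := by
  classical
  let O : Set (G ⧸ nA A) := orbit (nA A) S.b
  let T : Set (G ⧸ nA A) := (fun a : A => (a : G) • S.b) '' Set.univ
  have hTO : T ⊆ O := by
    rintro _ ⟨a, -, rfl⟩
    exact ⟨⟨a, Subgroup.le_normalizer a.2⟩, rfl⟩
  have hT : T.ncard = 16 := by
    rw [Set.ncard_image_of_injective _ ?_, Set.ncard_univ, L.card]
    intro a c hac
    have h1 : ((c : G)⁻¹ * a) • S.b = S.b := by
      rw [mul_smul, show (a : G) • S.b = (c : G) • S.b from hac, inv_smul_smul]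
    have h2 := S.regular F L (mul_mem (inv_mem c.2) a.2) h1
    exact Subtype.ext (inv_mul_eq_one.1 h2).symm
  have hO : O.ncard ≤ 76 := by
    have hsub : O ⊆ {base A}ᶜ := by
      rintro _ ⟨n, rfl⟩ hn
      apply S.b_ne
      have hn' : (n : G) • S.b = base A := hn
      rw [← inv_smul_smul (n : G) S.b, hn']
      exact (smul_base_eq_iff _).2 (inv_mem n.2)
    have := Set.ncard_le_ncard hsub
    rw [Set.ncard_compl, Set.ncard_singleton, card_points F L] at this
    exact this
  have hmod : O.ncard % 5 = 1 := by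
    rw [card_mod_five S.hx O (fun y hy => by
      obtain ⟨n, rfl⟩ := hy
      exact ⟨⟨S.x, S.hxN⟩ * n, mul_smul S.x (n : G) S.b⟩)]
    have : ({y ∈ O | S.x • y = y}) = {S.b} := by
      ext y
      simp only [Set.mem_ofPred_eq, Set.mem_singleton_iff]
      constructor
      · rintro ⟨⟨n, rfl⟩, hy⟩
        rcases S.fixed F L hy with h | h
        · exfalso
          apply S.b_ne
          have hn' : (n : G) • S.b = base A := h
          rw [← inv_smul_smul (n : G) S.b, hn']
          exact (smul_base_eq_iff _).2 (inv_mem n.2)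
        · exact h
      · rintro rfl; exact ⟨mem_orbit_self _, S.x_b⟩
    rw [this, Set.ncard_singleton]
  have horb : Nat.card S.K * O.ncard = 5760 := by
    have h := (stabilizer (nA A) S.b).card_mul_index
    rw [MulAction.index_stabilizer, L.card_norm] at h
    have hcongr : Nat.card (stabilizer (nA A) S.b) = Nat.card S.K :=
      Nat.card_congr
        { toFun := fun n => ⟨n.1, n.1.2, n.2⟩
          invFun := fun k => ⟨⟨k.1, k.2.1⟩, k.2.2⟩
          left_inv := fun n => rfl
          right_inv := fun k => rfl }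
    rwa [hcongr] at h
  have hdvd : Nat.card S.K ∣ 360 := by
    let A' : Subgroup (nA A) := A.subgroupOf (nA A)
    haveI : A'.Normal := (Subgroup.normal_subgroupOf_iff_le_normalizer Subgroup.le_normalizer).2 le_rfl
    let f : S.K →* (nA A) ⧸ A' :=
      (QuotientGroup.mk' A').comp (Subgroup.inclusion inf_le_left)
    have hf : Function.Injective f := by
      rw [injective_iff_map_eq_one]
      intro k hk
      have hk' : Subgroup.inclusion (inf_le_left : S.K ≤ nA A) k ∈ A' := (QuotientGroup.eq_one_iff _).1 hk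
      exact Subtype.ext (S.regular F L hk' (mem_K.1 k.2).2)
    refine dvd_trans (Subgroup.card_dvd_of_injective f hf) ?_
    have h2 := A'.card_mul_index
    rw [show Nat.card A' = 16 from
      (Nat.card_congr (Subgroup.subgroupOfEquivOfLe Subgroup.le_normalizer).toEquiv).trans L.card,
      L.card_norm, Subgroup.index_eq_card] at h2
    exact dvd_of_eq (by omega)
  obtain ⟨m, hm⟩ := hdvd
  have hOm : O.ncard = 16 * m := by
    have h5760 : Nat.card S.K * O.ncard = Nat.card S.K * (16 * m) := by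
      rw [horb, show Nat.card S.K * (16 * m) = 16 * (Nat.card S.K * m) by ring, ← hm]
    exact Nat.eq_of_mul_eq_mul_left Nat.card_pos h5760
  have hO16 : O.ncard = 16 := by omega
  have hm1 : m = 1 := by omega
  refine ⟨by rw [hm, hm1, mul_one], fun n hn => ?_⟩
  have heq := Set.eq_of_subset_of_ncard_le hTO (by rw [hT, hO16])
  have : n • S.b ∈ T := heq ▸ (⟨⟨n, hn⟩, rfl⟩ : n • S.b ∈ O)
  obtain ⟨a, -, ha⟩ := this
  exact ⟨a, a.2, ha.symm⟩

theorem adj_base (F : Facts G) (L : Local A) {z : G ⧸ nA A} :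
    S.Adj (base A) z ↔ ∃ a ∈ A, a • S.b = z := by
  rw [S.adj_base_iff]
  constructor
  · rintro ⟨n, hn, rfl⟩
    obtain ⟨a, ha, h⟩ := (S.card_K_and_orbit F L).2 n hn
    exact ⟨a, ha, h.symm⟩
  · rintro ⟨a, ha, rfl⟩; exact ⟨a, Subgroup.le_normalizer ha, rfl⟩

end Seed

end Cfsg.Agent.Lib.M22Nse57.Graph
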