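import Cfsg.Agent.Lib.M22Nse57.GraphPoints
import Cfsg.Agent.S0497

/-!
The quotient of the normaliser by the subgroup of order sixteen is the alternating group of
degree six; its consequences for subgroups of small index.
-/

set_option autoImplicit false
set_option linter.unusedSectionVars false
set_option linter.style.haveILetI false

namespace Cfsg.Agent.Lib.M22Nse57.Graph

open MulAction

universe u

variable {G : Type u} [Group G] [Finite G]

/-- A subgroup of order prime to five normalised by an element of order five. -/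
theorem card_mod_five_of_inv (F : Facts G) {x : G} (hx : orderOf x = 5) (H : Subgroup G)
    (h5 : ¬ 5 ∣ Nat.card H) (hinv : ∀ a ∈ H, x * a * x⁻¹ ∈ H) : Nat.card H % 5 = 1 := by
  haveI : Finite (ConjAct G) := Finite.of_equiv G ConjAct.toConjAct.toEquiv
  have hx' : orderOf (ConjAct.toConjAct x) = 5 := (MulEquiv.orderOf_eq ConjAct.toConjAct x).trans hx
  have hm := card_mod_five hx' (H : Set G) (fun a ha => by
    rw [ConjAct.toConjAct_smul]; exact hinv a ha)
  have hset : ({a ∈ (H : Set G) | ConjAct.toConjAct x • a = a}) = {1} := by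
    ext a
    simp only [Set.mem_ofPred_eq, SetLike.mem_coe, Set.mem_singleton_iff, ConjAct.toConjAct_smul]
    constructor
    · rintro ⟨haH, hxa⟩
      rcases orderOf_of_commute_five F hx (show Commute a x from (mul_inv_eq_iff_eq_mul.1 hxa).symm)
        with h | h
      · exact orderOf_eq_one_iff.1 h
      · exact absurd (h ▸ H.orderOf_dvd_natCard haH) h5
    · rintro rfl; exact ⟨one_mem H, by simp⟩
  rw [hset, Set.ncard_singleton, ← Nat.card_coe_set_eq] at hm
  exact hm

open scoped Pointwise in
/-- An element of order five normalises no subgroup of order six or thirty-six. -/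
theorem not_six_or_thirtysix (F : Facts G) {x : G} (hx : orderOf x = 5) (M : Subgroup G)
    (hM : Nat.card M = 6 ∨ Nat.card M = 36) (hinv : ∀ a ∈ M, x * a * x⁻¹ ∈ M) : False := by
  classical
  haveI : Fact (Nat.Prime 3) := ⟨Nat.prime_three⟩
  haveI : Finite (ConjAct G) := Finite.of_equiv G ConjAct.toConjAct.toEquiv
  have hx' : orderOf (ConjAct.toConjAct x) = 5 := (MulEquiv.orderOf_eq ConjAct.toConjAct x).trans hx
  let Pset : Set (Subgroup G) :=
    Set.range fun P : Sylow 3 M => (P : Subgroup M).map M.subtype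
  have hmem : ∀ H : Subgroup G, H ∈ Pset ↔ H ≤ M ∧ Nat.card H = 3 ^ (Nat.card M).factorization 3 := by
    intro H
    constructor
    · rintro ⟨P, rfl⟩
      exact ⟨Subgroup.map_subtype_le _,
        (Nat.card_congr ((P : Subgroup M).equivMapOfInjective _ M.subtype_injective).toEquiv).symm.trans
          P.card_eq_multiplicity⟩
    · rintro ⟨hle, hcard⟩
      refine ⟨Sylow.ofCard (H.subgroupOf M)
        ((Nat.card_congr (Subgroup.subgroupOfEquivOfLe hle).toEquiv).trans hcard), ?_⟩
      show (H.subgroupOf M).map M.subtype = H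
      rw [Subgroup.map_subgroupOf_eq_of_le hle]
  have hsmul : ∀ H ∈ Pset, ConjAct.toConjAct x • H ∈ Pset := by
    intro H hH
    obtain ⟨hle, hcard⟩ := (hmem H).1 hH
    refine (hmem _).2 ⟨fun a ha => ?_,
      (Nat.card_congr (Subgroup.equivSMul (ConjAct.toConjAct x) H).toEquiv).symm.trans hcard⟩
    obtain ⟨b, hb, rfl⟩ := Subgroup.mem_smul_pointwise_iff_exists _ _ _ |>.1 ha
    rw [ConjAct.toConjAct_smul]
    exact hinv b (hle hb)
  have hm := card_mod_five hx' Pset hsmul
  have hfac : (Nat.card M).factorization 3 = 1 ∧ Nat.card M = 6 ∨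
      (Nat.card M).factorization 3 = 2 ∧ Nat.card M = 36 := by
    rcases hM with h | h <;> rw [h]
    · refine Or.inl ⟨?_, rfl⟩
      rw [show (6 : ℕ) = 3 ^ 1 * 2 by norm_num, Nat.factorization_mul (by norm_num) (by norm_num),
        Nat.Prime.factorization_pow Nat.prime_three]
      simp [Nat.factorization_eq_zero_of_not_dvd (show ¬ 3 ∣ 2 by norm_num)]
    · refine Or.inr ⟨?_, rfl⟩
      rw [show (36 : ℕ) = 3 ^ 2 * 4 by norm_num, Nat.factorization_mul (by norm_num) (by norm_num),
        Nat.Prime.factorization_pow Nat.prime_three]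
      simp [Nat.factorization_eq_zero_of_not_dvd (show ¬ 3 ∣ 4 by norm_num)]
  have hn : Nat.card (Sylow 3 M) ≤ 4 := by
    have P : Sylow 3 M := default
    have hd : Nat.card (Sylow 3 M) ∣ (P : Subgroup M).index := Sylow.card_dvd_index P
    have hi := (P : Subgroup M).card_mul_index
    rw [P.card_eq_multiplicity] at hi
    rcases hfac with ⟨h1, h2⟩ | ⟨h1, h2⟩ <;> rw [h1, h2] at hi
    · exact le_trans (Nat.le_of_dvd (by omega) hd) (by omega)
    · exact le_trans (Nat.le_of_dvd (by omega) hd) (by omega)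
  have hP0 : 0 < Pset.ncard := (Set.ncard_pos (Set.toFinite _)).2 (Set.range_nonempty _)
  have hP4 : Pset.ncard ≤ 4 := le_trans (by
    rw [← Set.ncard_univ]
    show (Set.range _).ncard ≤ _
    rw [← Set.image_univ]
    exact Set.ncard_image_le) hn
  obtain ⟨H, hH, hfix⟩ : ({H ∈ Pset | ConjAct.toConjAct x • H = H}).Nonempty :=
    Set.nonempty_of_ncard_ne_zero (by omega)
  obtain ⟨hle, hcard⟩ := (hmem H).1 hH
  have h5 : ¬ 5 ∣ Nat.card H := by
    rcases hfac with ⟨h1, -⟩ | ⟨h1, -⟩ <;> rw [hcard, h1] <;> norm_num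
  have := card_mod_five_of_inv F hx H h5 fun a ha => by
    have := Subgroup.smul_mem_pointwise_smul a (ConjAct.toConjAct x) H ha
    rwa [hfix, ConjAct.toConjAct_smul] at this
  rcases hfac with ⟨h1, -⟩ | ⟨h1, -⟩ <;> rw [hcard, h1] at this <;> norm_num at this

variable {A : Subgroup G}

namespace Seed

variable (S : Seed A)

theorem x_mem_K : S.x ∈ S.K := mem_K.2 ⟨S.hxN, S.x_b⟩

theorem card_normalizer_K (F : Facts G) (L : Local A) :
    Nat.card ((Subgroup.normalizer (Subgroup.zpowers S.x : Set G)).subgroupOf S.K) = 10 := by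
  set P := Subgroup.normalizer (Subgroup.zpowers S.x : Set G)
  have h1 := (five_conj F S.hx S.K S.x_mem_K).1
  have h2 := (P.subgroupOf S.K).card_mul_index
  rw [(S.card_K_and_orbit F L).1] at h2
  have h5 : 5 ∣ Nat.card (P.subgroupOf S.K) := by
    have hxP : (⟨S.x, S.x_mem_K⟩ : S.K) ∈ P.subgroupOf S.K :=
      Subgroup.le_normalizer (Subgroup.mem_zpowers S.x)
    have hd := (P.subgroupOf S.K).orderOf_dvd_natCard hxP
    rwa [Subgroup.orderOf_mk, S.hx] at hd
  have h20 : Nat.card (P.subgroupOf S.K) ∣ 20 := by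
    refine dvd_trans ?_ (card_normalizer_five_dvd F S.hx)
    rw [← Subgroup.inf_subgroupOf_right P S.K,
      Nat.card_congr (Subgroup.subgroupOfEquivOfLe inf_le_right).toEquiv]
    exact Subgroup.card_dvd_of_le inf_le_left
  have hmem : Nat.card (P.subgroupOf S.K) ∈ Nat.divisors 20 := Nat.mem_divisors.2 ⟨h20, by norm_num⟩
  have hdiv : Nat.divisors 20 = {1, 2, 4, 5, 10, 20} := by decide
  rw [hdiv] at hmem
  simp only [Finset.mem_insert, Finset.mem_singleton] at hmem
  have h1' : (P.subgroupOf S.K).index % 5 = 1 := h1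
  rcases hmem with h | h | h | h | h | h <;> rw [h] at h2 h5 <;> omega

theorem isSimple_K (F : Facts G) (L : Local A) : IsSimpleGroup S.K := by
  haveI : Nontrivial S.K := by
    rw [← Finite.one_lt_card_iff_nontrivial, (S.card_K_and_orbit F L).1]; norm_num
  haveI : Fact (Nat.Prime 5) := ⟨by norm_num⟩
  refine ⟨fun M hM => ?_⟩
  by_contra hne
  push Not at hne
  obtain ⟨hbot, htop⟩ := hne
  set M₀ := M.map S.K.subtype with hM₀
  have hc : Nat.card M₀ = Nat.card M :=
    (Nat.card_congr (M.equivMapOfInjective _ S.K.subtype_injective).toEquiv).symm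
  have hinv : ∀ k ∈ S.K, ∀ a ∈ M₀, k * a * k⁻¹ ∈ M₀ := by
    rintro k hk _ ⟨a, ha, rfl⟩
    exact ⟨_, hM.conj_mem a ha ⟨k, hk⟩, rfl⟩
  have hd : Nat.card M ∣ 360 := (S.card_K_and_orbit F L).1 ▸ Subgroup.card_subgroup_dvd_card M
  have h1 : Nat.card M ≠ 1 := fun h => hbot (Subgroup.card_eq_one.1 h)
  have h360 : Nat.card M ≠ 360 := fun h =>
    htop (Subgroup.eq_top_of_card_eq M (by rw [h, (S.card_K_and_orbit F L).1]))
  by_cases h5 : 5 ∣ Nat.card M
  · obtain ⟨y, hy⟩ := exists_prime_orderOf_dvd_card' 5 h5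
    have hyo : orderOf ((y : S.K) : G) = 5 := by rw [Subgroup.orderOf_coe, Subgroup.orderOf_coe, hy]
    obtain ⟨h, hh, hmem⟩ := (five_conj F S.hx S.K S.x_mem_K).2 _ (y : S.K).2 hyo
    have hc5 : orderOf (h⁻¹ * ((y : S.K) : G) * h) = 5 := by
      have := MulEquiv.orderOf_eq (MulAut.conj h⁻¹) ((y : S.K) : G)
      simp only [MulAut.conj_apply, inv_inv] at this
      rw [this, hyo]
    have hz : Subgroup.zpowers (h⁻¹ * ((y : S.K) : G) * h) = Subgroup.zpowers S.x := by
      refine Subgroup.eq_of_le_of_card_ge (Subgroup.zpowers_le.2 hmem) ?_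
      rw [Nat.card_zpowers, Nat.card_zpowers, hc5, S.hx]
    have hxM : S.x ∈ M₀ := by
      have h' : h⁻¹ * ((y : S.K) : G) * h ∈ M₀ := by
        simpa using hinv h⁻¹ (inv_mem hh) _ ⟨(y : S.K), y.2, rfl⟩
      exact Subgroup.zpowers_le.2 h' (hz ▸ Subgroup.mem_zpowers S.x)
    set P := Subgroup.normalizer (Subgroup.zpowers S.x : Set G)
    haveI := hM
    have hfrat : M ⊔ P.subgroupOf S.K = ⊤ := by
      rw [eq_top_iff]
      rintro k -
      have hkx : (k : G) * S.x * (k : G)⁻¹ ∈ M₀ := hinv k k.2 _ hxM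
      have hk5 : orderOf ((k : G) * S.x * (k : G)⁻¹) = 5 := by
        have := MulEquiv.orderOf_eq (MulAut.conj (k : G)) S.x
        simp only [MulAut.conj_apply] at this
        rw [this, S.hx]
      obtain ⟨n, hn, hnmem⟩ := (five_conj F S.hx M₀ hxM).2 _ hkx hk5
      have hnk : n⁻¹ * (k : G) ∈ P := by
        rw [Subgroup.mem_normalizer_iff]
        have hco : n⁻¹ * ((k : G) * S.x * (k : G)⁻¹) * n = (n⁻¹ * k) * S.x * (n⁻¹ * (k : G))⁻¹ := by
          group
        rw [hco] at hnmem
        have hz' : Subgroup.zpowers ((n⁻¹ * k) * S.x * (n⁻¹ * (k : G))⁻¹) = Subgroup.zpowers S.x := by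
          refine Subgroup.eq_of_le_of_card_ge (Subgroup.zpowers_le.2 hnmem) ?_
          rw [Nat.card_zpowers, Nat.card_zpowers]
          have := MulEquiv.orderOf_eq (MulAut.conj (n⁻¹ * (k : G))) S.x
          simp only [MulAut.conj_apply] at this
          rw [this]
        intro z
        constructor
        · intro hzm
          obtain ⟨i, rfl⟩ := Subgroup.mem_zpowers_iff.1 hzm
          rw [← hz', Subgroup.mem_zpowers_iff]
          exact ⟨i, conj_zpow⟩
        · intro hzm
          rw [← hz'] at hzm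
          obtain ⟨i, hi⟩ := Subgroup.mem_zpowers_iff.1 hzm
          rw [conj_zpow, mul_left_inj, mul_right_inj] at hi
          exact Subgroup.mem_zpowers_iff.2 ⟨i, hi⟩
      obtain ⟨m, hm, rfl⟩ := hn
      have : k = m * (m⁻¹ * k) := by group
      rw [this]
      exact mul_mem (Subgroup.mem_sup_left hm)
        (Subgroup.mem_sup_right (Subgroup.mem_subgroupOf.2 (by simpa using hnk)))
    have h10 := S.card_normalizer_K F L
    have hprod : Nat.card M * Nat.card (P.subgroupOf S.K) =
        Nat.card (M ⊓ P.subgroupOf S.K : Subgroup S.K) * Nat.card (⊤ : Subgroup S.K) := by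
      set g := (QuotientGroup.mk' M).comp (P.subgroupOf S.K).subtype
      have hsurj : Function.Surjective g := by
        rw [← MonoidHom.range_eq_top, MonoidHom.range_comp, Subgroup.range_subtype]
        calc (P.subgroupOf S.K).map (QuotientGroup.mk' M)
            = (M ⊔ P.subgroupOf S.K).map (QuotientGroup.mk' M) := by
              rw [Subgroup.map_sup, QuotientGroup.map_mk'_self, bot_sup_eq]
          _ = ⊤ := by
              rw [hfrat, Subgroup.map_top_of_surjective _ (QuotientGroup.mk'_surjective M)]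
      have hker : g.ker = (M ⊓ P.subgroupOf S.K).subgroupOf (P.subgroupOf S.K) := by
        rw [Subgroup.inf_subgroupOf_right, ← MonoidHom.comap_ker, QuotientGroup.ker_mk']
        rfl
      have h := g.ker.card_mul_index
      rw [Subgroup.index_ker, MonoidHom.range_eq_top.2 hsurj, Subgroup.card_top, hker,
        Nat.card_congr (Subgroup.subgroupOfEquivOfLe inf_le_right).toEquiv] at h
      rw [Subgroup.card_top, ← h, Subgroup.card_eq_card_quotient_mul_card_subgroup M]
      ring
    rw [h10, Subgroup.card_top, (S.card_K_and_orbit F L).1] at hprod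
    have hdj : Nat.card (M ⊓ P.subgroupOf S.K : Subgroup S.K) ∣ 10 :=
      h10 ▸ Subgroup.card_dvd_of_le inf_le_right
    have h5j : 5 ∣ Nat.card (M ⊓ P.subgroupOf S.K : Subgroup S.K) := by
      have hxM' : (⟨S.x, S.x_mem_K⟩ : S.K) ∈ M := by
        obtain ⟨m, hm, e⟩ := hxM
        rwa [show (⟨S.x, S.x_mem_K⟩ : S.K) = m from Subtype.ext e.symm]
      have hd' := (M ⊓ P.subgroupOf S.K).orderOf_dvd_natCard
        (Subgroup.mem_inf.2 ⟨hxM', Subgroup.le_normalizer (Subgroup.mem_zpowers S.x)⟩)
      rwa [Subgroup.orderOf_mk, S.hx] at hd'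
    obtain ⟨j, hj⟩ := h5j
    have hj2 : j = 1 ∨ j = 2 := by
      have := Nat.le_of_dvd (by norm_num) hdj
      have : 0 < Nat.card (M ⊓ P.subgroupOf S.K : Subgroup S.K) := Nat.card_pos
      omega
    rcases hj2 with rfl | rfl
    swap
    · rw [hj] at hprod; omega
    have h180 : Nat.card M = 180 := by rw [hj] at hprod; omega
    -- a normal complement of order thirty-six
    set Q₀ := (Subgroup.zpowers S.x).subgroupOf M₀
    have hQle : Subgroup.zpowers S.x ≤ M₀ := Subgroup.zpowers_le.2 hxM
    have hQcard : Nat.card Q₀ = 5 := by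
      rw [Nat.card_congr (Subgroup.subgroupOfEquivOfLe hQle).toEquiv, Nat.card_zpowers, S.hx]
    have hfac : (Nat.card M₀).factorization 5 = 1 := by
      rw [hc, h180, show (180 : ℕ) = 5 ^ 1 * 36 by norm_num, Nat.factorization_mul (by norm_num) (by norm_num),
        Nat.Prime.factorization_pow (by norm_num : Nat.Prime 5)]
      simp [Nat.factorization_eq_zero_of_not_dvd (show ¬ 5 ∣ 36 by norm_num)]
    let Q : Sylow 5 M₀ := Sylow.ofCard Q₀ (by rw [hQcard, hfac, pow_one])
    have hNC : Subgroup.normalizer ((Q : Subgroup M₀) : Set M₀) ≤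
        Subgroup.centralizer ((Q : Subgroup M₀) : Set M₀) := by
      intro n hn
      have hnP : (n : G) ∈ P := by
        rw [Subgroup.mem_normalizer_iff]
        intro z
        constructor
        · intro hz'
          have := (Subgroup.mem_normalizer_iff.1 hn ⟨z, hQle hz'⟩).1 hz'
          exact this
        · intro hz'
          have hzM : z ∈ M₀ := by
            have h' := hQle hz'
            have := mul_mem (mul_mem (inv_mem n.2) h') n.2
            simpa [mul_assoc] using this
          exact (Subgroup.mem_normalizer_iff.1 hn ⟨z, hzM⟩).2 hz'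
      have hle : (Subgroup.zpowers S.x) ≤ M₀ ⊓ P := le_inf hQle Subgroup.le_normalizer
      have hc5' : Nat.card (M₀ ⊓ P : Subgroup G) = 5 := by
        have e : (M ⊓ P.subgroupOf S.K).map S.K.subtype = M₀ ⊓ P := by
          rw [Subgroup.map_inf _ _ _ S.K.subtype_injective, Subgroup.subgroupOf_map_subtype,
            ← hM₀, ← inf_assoc]
          exact inf_eq_left.2 (inf_le_left.trans (Subgroup.map_subtype_le M))
        rw [← e, ← Nat.card_congr (Subgroup.equivMapOfInjective _ _ S.K.subtype_injective).toEquiv, hj]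
      have hmem' : (n : G) ∈ Subgroup.zpowers S.x :=
        (Subgroup.eq_of_le_of_card_ge hle (by rw [hc5', Nat.card_zpowers, S.hx])).symm ▸
          Subgroup.mem_inf.2 ⟨n.2, hnP⟩
      rw [Subgroup.mem_centralizer_iff]
      intro q hq
      have hq' : (q : G) ∈ Subgroup.zpowers S.x := hq
      obtain ⟨i, hi⟩ := Subgroup.mem_zpowers_iff.1 hq'
      obtain ⟨k, hk⟩ := Subgroup.mem_zpowers_iff.1 hmem'
      refine Subtype.ext ?_
      show (q : G) * n = n * q
      rw [← hi, ← hk, ← zpow_add, ← zpow_add, add_comm]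
    have hcompl := MonoidHom.ker_transferSylow_isComplement' Q hNC
    set N := (MonoidHom.transferSylow Q hNC).ker
    have hN : Nat.card N = 36 := by
      have := hcompl.card_mul
      have hQ5 : Nat.card (Q : Subgroup M₀) = 5 := hQcard
      rw [hQ5, hc, h180] at this
      omega
    refine not_six_or_thirtysix F S.hx (N.map M₀.subtype) (Or.inr ?_) ?_
    · rw [← Nat.card_congr (N.equivMapOfInjective _ M₀.subtype_injective).toEquiv, hN]
    · rintro _ ⟨a, ha, rfl⟩
      exact ⟨_, (MonoidHom.normal_ker _).conj_mem a ha ⟨S.x, hxM⟩, rfl⟩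
  · have hm := card_mod_five_of_inv F S.hx M₀ (hc ▸ h5) (hinv S.x S.x_mem_K)
    rw [hc] at hm
    have h72 : Nat.card M ∣ 72 :=
      (Nat.Coprime.dvd_of_dvd_mul_right ((Nat.prime_five.coprime_iff_not_dvd.2 h5).symm)
        (show Nat.card M ∣ 72 * 5 from hd))
    refine not_six_or_thirtysix F S.hx M₀ ?_ (hinv S.x S.x_mem_K)
    rw [hc]
    have key : ∀ m ∈ Nat.divisors 72, m ≠ 1 → m % 5 = 1 → m = 6 ∨ m = 36 := by decide
    exact key _ (Nat.mem_divisors.2 ⟨h72, by norm_num⟩) h1 hm

end Seed

/-- The quotient of the normaliser is the alternating group of degree six. -/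
theorem exists_pi (F : Facts G) (L : Local A) (S : Seed A) :
    ∃ π : nA A →* alternatingGroup (Fin 6), Function.Surjective π ∧
      ∀ n : nA A, π n = 1 ↔ (n : G) ∈ A := by
  let A' : Subgroup (nA A) := A.subgroupOf (nA A)
  haveI : A'.Normal := (Subgroup.normal_subgroupOf_iff_le_normalizer Subgroup.le_normalizer).2 le_rfl
  let f : S.K →* (nA A) ⧸ A' :=
    (QuotientGroup.mk' A').comp (Subgroup.inclusion inf_le_left)
  have hf : Function.Injective f := by
    rw [injective_iff_map_eq_one]
    intro k hk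
    have hk' : Subgroup.inclusion (inf_le_left : S.K ≤ nA A) k ∈ A' := (QuotientGroup.eq_one_iff _).1 hk
    exact Subtype.ext (S.regular F L hk' (mem_K.1 k.2).2)
  have hb : Function.Bijective f := by
    rw [Nat.bijective_iff_injective_and_card]
    refine ⟨hf, ?_⟩
    have h2 := A'.card_mul_index
    rw [show Nat.card A' = 16 from
      (Nat.card_congr (Subgroup.subgroupOfEquivOfLe Subgroup.le_normalizer).toEquiv).trans L.card,
      L.card_norm, Subgroup.index_eq_card] at h2
    rw [(S.card_K_and_orbit F L).1]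
    omega
  haveI := S.isSimple_K F L
  obtain ⟨e⟩ := Cfsg.Agent.S0497.result (S.card_K_and_orbit F L).1
  let e' : (nA A) ⧸ A' ≃* alternatingGroup (Fin 6) := (MulEquiv.ofBijective f hb).symm.trans e
  refine ⟨e'.toMonoidHom.comp (QuotientGroup.mk' A'),
    e'.surjective.comp (QuotientGroup.mk'_surjective A'), fun n => ?_⟩
  show e' (QuotientGroup.mk' A' n) = 1 ↔ _
  rw [map_eq_one_iff e' e'.injective]
  exact QuotientGroup.eq_one_iff n

theorem card_six : Nat.card (alternatingGroup (Fin 6)) = 360 := by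
  have h := two_mul_nat_card_alternatingGroup (α := Fin 6)
  rw [Nat.card_perm, Nat.card_fin, show Nat.factorial 6 = 720 from rfl] at h
  omega

/-- The alternating group of degree six has no proper subgroup of index at most five. -/
theorem six_index (W : Subgroup (alternatingGroup (Fin 6))) (h : W ≠ ⊤) : 5 < W.index := by
  by_contra hle
  haveI : IsSimpleGroup (alternatingGroup (Fin 6)) :=
    alternatingGroup.isSimpleGroup (α := Fin 6) (by simp)
  have hcore : W.normalCore = ⊥ :=
    (IsSimpleGroup.eq_bot_or_eq_top_of_normal _ W.normalCore_normal).resolve_right fun e =>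
      h (top_le_iff.1 (e ▸ W.normalCore_le))
  rw [Subgroup.normalCore_eq_ker] at hcore
  have hinj := (MonoidHom.ker_eq_bot_iff _).1 hcore
  have hc := Subgroup.card_dvd_of_injective _ hinj
  rw [card_six, Nat.card_perm, ← Subgroup.index_eq_card] at hc
  have : Nat.factorial W.index ≤ 120 :=
    (Nat.factorial_le (show W.index ≤ 5 by omega)).trans (by decide)
  have := Nat.le_of_dvd (Nat.factorial_pos _) hc
  omega

open scoped Pointwise in
/-- A subgroup of order eight of the alternating group of degree six has an element of order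
four. -/
theorem six_order_eight (W : Subgroup (alternatingGroup (Fin 6))) (h : Nat.card W = 8) :
    ∃ w ∈ W, w * w ≠ 1 := by
  haveI : Fact (Nat.Prime 2) := ⟨Nat.prime_two⟩
  let c : alternatingGroup (Fin 6) :=
    ⟨Equiv.swap 0 1 * Equiv.swap 1 2 * Equiv.swap 2 3 * Equiv.swap 4 5, by
      rw [Equiv.Perm.mem_alternatingGroup]; decide⟩
  have hc2 : c * c ≠ 1 := by decide
  have hc4 : c ^ 4 = 1 := by decide
  have hp : IsPGroup 2 (Subgroup.zpowers c) := by
    obtain ⟨i, -, hi⟩ := (Nat.dvd_prime_pow Nat.prime_two).1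
      (show orderOf c ∣ 2 ^ 2 from orderOf_dvd_of_pow_eq_one hc4)
    exact IsPGroup.of_card (n := i) (by rw [Nat.card_zpowers, hi])
  obtain ⟨P, hP⟩ := hp.exists_le_sylow
  let Q : Sylow 2 (alternatingGroup (Fin 6)) := Sylow.ofCard W (by
    rw [h, card_six, show (360 : ℕ) = 2 ^ 3 * 45 by norm_num,
      Nat.factorization_mul (by norm_num) (by norm_num), Nat.Prime.factorization_pow Nat.prime_two]
    simp [Nat.factorization_eq_zero_of_not_dvd (show ¬ 2 ∣ 45 by norm_num)])
  obtain ⟨g, hg⟩ := MulAction.exists_smul_eq (alternatingGroup (Fin 6)) P Q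
  refine ⟨g * c * g⁻¹, ?_, fun e => hc2 ?_⟩
  · have hm : MulAut.conj g • c ∈ MulAut.conj g • (P : Subgroup (alternatingGroup (Fin 6))) :=
      Subgroup.smul_mem_pointwise_smul c _ _ (hP (Subgroup.mem_zpowers c))
    rw [← Sylow.pointwise_smul_def, ← Sylow.smul_def, hg] at hm
    exact hm
  · have : g * (c * c) * g⁻¹ = 1 := by rw [← e]; group
    simpa using this

/-- The normaliser has no proper subgroup of index at most five. -/
theorem norm_index (F : Facts G) (L : Local A) (S : Seed A) (T : Subgroup (nA A)) (h : T ≠ ⊤) :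
    5 < T.index := by
  by_contra hle
  obtain ⟨π, hπ, hker⟩ := exists_pi F L S
  let A' : Subgroup (nA A) := A.subgroupOf (nA A)
  have hkerA : π.ker = A' := by
    ext n; rw [MonoidHom.mem_ker, hker, Subgroup.mem_subgroupOf]
  have hmap : T.map π = ⊤ := by
    by_contra hne
    have := six_index _ hne
    have h2 := Nat.le_of_dvd (Nat.pos_of_ne_zero Subgroup.index_ne_zero_of_finite)
      (Subgroup.index_map_dvd (H := T) hπ)
    omega
  have hsup : T ⊔ A' = ⊤ := by
    rw [← hkerA, ← Subgroup.comap_map_eq, hmap, Subgroup.comap_top]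
  have hA'le : A' ≤ Subgroup.normalizer ((T ⊓ A' : Subgroup (nA A)) : Set (nA A)) := by
    refine le_trans (fun a ha => ?_) (Subgroup.centralizer_le_normalizer _)
    rw [Subgroup.mem_centralizer_iff]
    intro q hq
    refine Subtype.ext ?_
    have hqA : (q : G) ∈ A := (Subgroup.mem_inf.1 hq).2
    have haA : (a : G) ∈ A := ha
    have e1 := L.sq _ hqA
    have e2 := L.sq _ haA
    have e3 := L.sq _ (mul_mem hqA haA)
    show (q : G) * a = a * q
    calc (q : G) * a = (q : G)⁻¹⁻¹ * (a : G)⁻¹⁻¹ := by simp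
      _ = ((a : G)⁻¹ * (q : G)⁻¹)⁻¹ := by group
      _ = _ := by rw [inv_eq_of_mul_eq_one_right e1, inv_eq_of_mul_eq_one_right e2]; exact
          inv_eq_of_mul_eq_one_right (by
            calc ((a : G) * q) * ((a : G) * q) = (q : G)⁻¹ * ((q : G) * a * (q * a)) * q := by group
              _ = 1 := by rw [e3]; group)
  haveI : A'.Normal := (Subgroup.normal_subgroupOf_iff_le_normalizer Subgroup.le_normalizer).2 le_rfl
  have hTle : T ≤ Subgroup.normalizer ((T ⊓ A' : Subgroup (nA A)) : Set (nA A)) := by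
    intro t ht
    rw [Subgroup.mem_normalizer_iff]
    intro z
    constructor
    · intro hz
      obtain ⟨h1, h2⟩ := Subgroup.mem_inf.1 hz
      exact Subgroup.mem_inf.2
        ⟨T.mul_mem (T.mul_mem ht h1) (T.inv_mem ht), (inferInstance : A'.Normal).conj_mem z h2 t⟩
    · intro hz
      obtain ⟨h1, h2⟩ := Subgroup.mem_inf.1 hz
      refine Subgroup.mem_inf.2 ⟨?_, ?_⟩
      · simpa [mul_assoc] using T.mul_mem (T.mul_mem (T.inv_mem ht) h1) ht
      · simpa [mul_assoc] using (inferInstance : A'.Normal).conj_mem _ h2 t⁻¹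
  have hnorm := top_le_iff.1 (hsup.ge.trans (sup_le hTle hA'le))
  have hmapA : A'.map (nA A).subtype = A :=
    Subgroup.map_subgroupOf_eq_of_le Subgroup.le_normalizer
  rcases inv_subgroup F L S.hx ((T ⊓ A').map (nA A).subtype)
      ((Subgroup.map_mono inf_le_right).trans hmapA.le) (by
      rintro _ ⟨q, hq, rfl⟩
      exact ⟨_, ((Subgroup.mem_normalizer_iff.1 (hnorm ▸ Subgroup.mem_top (⟨S.x, S.hxN⟩ : nA A) :
        (⟨S.x, S.hxN⟩ : nA A) ∈ Subgroup.normalizer ((T ⊓ A' : Subgroup (nA A)) : Set (nA A)))) q).1 hq,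
        rfl⟩) with e | e
  · have hinj : Function.Injective (π.comp T.subtype) := by
      rw [injective_iff_map_eq_one]
      intro t ht
      have : ((t : nA A) : G) ∈ (T ⊓ A').map (nA A).subtype :=
        ⟨(t : nA A), ⟨t.2, Subgroup.mem_subgroupOf.2 ((hker _).1 ht)⟩, rfl⟩
      rw [e, Subgroup.mem_bot] at this
      exact Subtype.ext (Subtype.ext this)
    have h360 := Subgroup.card_dvd_of_injective _ hinj
    rw [card_six] at h360
    have := Nat.le_of_dvd (by norm_num) h360
    have h2 := T.card_mul_index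
    rw [L.card_norm] at h2
    have := Nat.mul_le_mul this (show T.index ≤ 5 by omega)
    omega
  · refine h (top_le_iff.1 (hsup.ge.trans (sup_le le_rfl ?_)))
    rw [← Subgroup.map_le_map_iff_of_injective (nA A).subtype_injective, hmapA]
    exact e.ge.trans (Subgroup.map_mono inf_le_left)

end Cfsg.Agent.Lib.M22Nse57.Graph
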