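import Cfsg.Agent.Lib.M22Nse57.Facts
import Cfsg.Agent.Lib.OrderCount.Frobenius
import Cfsg.Agent.Lib.M11Order.Simple

/-!
A group of order 443520 whose numbers of elements of each order take exactly the nine values of the
Mathieu group of degree 22: the histogram is forced by the divisibility theorem of Frobenius on
solutions of `g ^ d = 1`, and simplicity follows by counting.
-/

set_option autoImplicit false
set_option linter.style.haveILetI false
set_option linter.unusedSectionVars false

namespace Cfsg.Agent.Lib.M22Nse57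

open Finset

universe u

namespace Hist

/-- The nine values. -/
def vals : Finset ℕ := {1, 1155, 12320, 41580, 88704, 36960, 126720, 55440, 80640}

/-- The possible further element orders. -/
def cands : List ℕ :=
  [4, 6, 8, 9, 12, 16, 18, 24, 32, 36, 48, 64, 72, 96, 128, 144, 192, 288, 384, 576, 1152]

/-- The solutions of `g ^ d = 1` for the three unknown orders `a`, `b`, `e`. -/
def solCount (a b e d : ℕ) : ℕ :=
  1 + (if d % 2 = 0 then 1155 else 0) + (if d % 3 = 0 then 12320 else 0) +
    (if d % a = 0 then 41580 else 0) + (if d % b = 0 then 36960 else 0) +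
    (if d % e = 0 then 55440 else 0)

/-- The conditions on the three unknown orders. -/
def admissible (a b e : ℕ) : Bool :=
  (a != b && a != e && b != e) && [8, 9, 18, 32, 192].all (fun d => solCount a b e d % d == 0) &&
    [a, b, e].all fun x => [4, 8].all fun y => x % y != 0 || [a, b, e].contains y

theorem admissible_check :
    (cands.all fun a => cands.all fun b => cands.all fun e =>
      !admissible a b e || (b == 6 && ((a == 4 && e == 8) || (a == 8 && e == 4)))) = true := by
  decide +kernel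

theorem eq_of_admissible {a b e : ℕ} (ha : a ∈ cands) (hb : b ∈ cands) (he : e ∈ cands)
    (h : admissible a b e = true) : b = 6 ∧ ((a = 4 ∧ e = 8) ∨ (a = 8 ∧ e = 4)) := by
  have h0 := admissible_check
  rw [List.all_eq_true] at h0
  have h1 := h0 a ha
  rw [List.all_eq_true] at h1
  have h2 := h1 b hb
  rw [List.all_eq_true] at h2
  have h3 := h2 e he
  rw [h] at h3
  simpa using h3

/-- No proper normal subgroup passes the count. -/
theorem index_check : ∀ i ∈ Nat.divisors 1152, ∀ j ∈ Nat.divisors 385, 1 < i * j → i * j < 443520 →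
    443520 / (i * j) < 1 + (if 5 ∣ i * j then 0 else 88704) + (if 7 ∣ i * j then 0 else 126720) +
        (if 11 ∣ i * j then 0 else 80640) ∨
      ¬ (443520 / (i * j) % 5 ≤ 1 ∧ 443520 / (i * j) % 7 ≤ 1 ∧ 443520 / (i * j) % 11 ≤ 1) := by
  decide +kernel

variable {G : Type u} [Group G] [Finite G]

/-- The number of elements of order `n`. -/
noncomputable def cnt (G : Type u) [Group G] (n : ℕ) : ℕ := Nat.card {g : G // orderOf g = n}

theorem cnt_eq_card [Fintype G] [DecidableEq G] (n : ℕ) :
    cnt G n = #{g : G | orderOf g = n} := by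
  rw [cnt, Nat.card_eq_fintype_card, Fintype.card_subtype]

theorem cnt_pos_of_orderOf (g : G) : 0 < cnt G (orderOf g) := by
  haveI : Nonempty {h : G // orderOf h = orderOf g} := ⟨⟨g, rfl⟩⟩
  exact Nat.card_pos

theorem exists_orderOf_of_cnt_pos {n : ℕ} (h : 0 < cnt G n) : ∃ g : G, orderOf g = n := by
  obtain ⟨⟨g, hg⟩⟩ := (Nat.card_pos_iff.mp h).1
  exact ⟨g, hg⟩

theorem cnt_one : cnt G 1 = 1 := by
  simp only [cnt, orderOf_eq_one_iff]
  exact Nat.card_eq_one_iff_unique.mpr ⟨⟨fun a b => Subtype.ext (a.2.trans b.2.symm)⟩, ⟨⟨1, rfl⟩⟩⟩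

/-- The solutions of `g ^ d = 1` by their orders. -/
theorem card_pow_eq_one {d : ℕ} (hd : d ≠ 0) :
    Nat.card {g : G // g ^ d = 1} = ∑ m ∈ Nat.divisors d, cnt G m := by
  classical
  cases nonempty_fintype G
  simp only [cnt, Nat.card_eq_fintype_card, Fintype.card_subtype]
  exact (sum_card_orderOf_eq_card_pow_eq_one (G := G) hd).symm

/-- Frobenius for a prime. -/
theorem prime_dvd_succ_cnt {p : ℕ} (hp : p.Prime) (hd : p ∣ Nat.card G) :
    p ∣ 1 + cnt G p := by
  have h := OrderCount.dvd_card_pow_eq_one hd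
  rwa [card_pow_eq_one hp.ne_zero, Nat.Prime.divisors hp, Finset.sum_pair hp.one_lt.ne, cnt_one] at h

/-- An element of order `p * q` gives at least as many of them as elements of order `p`, when the
subgroups of order `p` are conjugate. -/
theorem cnt_le_cnt_mul {p q : ℕ} [hp : Fact p.Prime] (P : Sylow p G)
    (hP : Nat.card (P : Subgroup G) = p) (hpq : p.Coprime q) {g : G}
    (hg : orderOf g = p * q) : cnt G p ≤ cnt G (p * q) := by
  classical
  have hq0 : q ≠ 0 := fun h => by
    subst h
    rw [mul_zero] at hg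
    exact orderOf_pos g |>.ne' hg
  have hy : orderOf (g ^ q) = p := by
    rw [orderOf_pow_of_dvd hq0 (hg ▸ dvd_mul_left q p), hg, Nat.mul_div_cancel _ (Nat.pos_of_ne_zero hq0)]
  have hi : orderOf (g ^ p) = q := by
    rw [orderOf_pow_of_dvd hp.out.ne_zero (hg ▸ dvd_mul_right p q), hg,
      Nat.mul_div_cancel_left _ hp.out.pos]
  -- every element of order `p` commutes with one of order `q`
  have hex : ∀ x : G, orderOf x = p → ∃ i : G, orderOf i = q ∧ Commute x i := by
    intro x hx
    obtain ⟨Q, hQ, -⟩ := SmallGroups.existsUnique_sylow_of_orderOf P hP hx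
    obtain ⟨R, hR, -⟩ := SmallGroups.existsUnique_sylow_of_orderOf P hP hy
    obtain ⟨c, hc⟩ := MulAction.exists_smul_eq G R Q
    have hmem : x ∈ Subgroup.zpowers (c * g ^ q * c⁻¹) := by
      have hle : Subgroup.zpowers (c * g ^ q * c⁻¹) ≤ (Q : Subgroup G) := by
        rw [Subgroup.zpowers_le, ← hc, Sylow.coe_subgroup_smul, hR]
        exact ⟨g ^ q, Subgroup.mem_zpowers _, rfl⟩
      rw [Subgroup.eq_of_le_of_card_ge hle (by
        rw [hQ, Nat.card_zpowers, Nat.card_zpowers, hx, ← MulAut.conj_apply, MulEquiv.orderOf_eq, hy]),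
        hQ]
      exact Subgroup.mem_zpowers x
    obtain ⟨k, hk⟩ := hmem
    refine ⟨c * g ^ p * c⁻¹, by rw [← MulAut.conj_apply, MulEquiv.orderOf_eq, hi], ?_⟩
    rw [← hk]
    have hcomm : Commute (g ^ q) (g ^ p) := (Commute.refl g).pow_pow q p
    have h2 : Commute (c * g ^ q * c⁻¹) (c * g ^ p * c⁻¹) := by
      simpa [MulAut.conj_apply] using hcomm.map (MulAut.conj c).toMonoidHom
    exact h2.zpow_left k
  choose i hi1 hi2 using fun x : {x : G // orderOf x = p} => hex x.1 x.2
  refine Nat.card_le_card_of_injective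
    (fun x => (⟨x.1 * i x, by
      rw [(hi2 x).orderOf_mul_eq_mul_orderOf_of_coprime (by rw [x.2, hi1]; exact hpq), x.2, hi1]⟩ :
        {g : G // orderOf g = p * q})) ?_
  intro x x' h
  have h' : x.1 * i x = x'.1 * i x' := congrArg Subtype.val h
  have hpow : ∀ z : {x : G // orderOf x = p}, (z.1 * i z) ^ q = z.1 ^ q := fun z => by
    rw [(hi2 z).mul_pow, show i z ^ q = 1 from hi1 z ▸ pow_orderOf_eq_one (i z), mul_one]
  have hq : x.1 ^ q = x'.1 ^ q := by rw [← hpow x, ← hpow x', h']
  obtain ⟨m, hm⟩ := exists_pow_eq_self_of_coprime (x := x.1) (n := q) (by rw [x.2]; exact hpq.symm)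
  obtain ⟨m', hm'⟩ := exists_pow_eq_self_of_coprime (x := x'.1) (n := q) (by rw [x'.2]; exact hpq.symm)
  apply Subtype.ext
  -- both roots are taken inside the cyclic group generated by the common power
  have h1 : x.1 ∈ Subgroup.zpowers (x'.1 ^ q) := hq ▸ ⟨(m : ℤ), by simpa using hm⟩
  obtain ⟨j, hj⟩ := h1
  have hxx : Commute x.1 x'.1 := by
    rw [← hj]
    exact ((Commute.refl x'.1).pow_left q).zpow_left j
  have he : (x.1 * x'.1⁻¹) ^ q = 1 := by rw [hxx.inv_right.mul_pow, inv_pow, hq, mul_inv_cancel]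
  have hep : (x.1 * x'.1⁻¹) ^ p = 1 := by
    have e1 : x.1 ^ p = 1 := orderOf_dvd_iff_pow_eq_one.mp (dvd_of_eq x.2)
    have e2 : x'.1 ^ p = 1 := orderOf_dvd_iff_pow_eq_one.mp (dvd_of_eq x'.2)
    rw [hxx.inv_right.mul_pow, inv_pow, e1, e2, inv_one, mul_one]
  have : orderOf (x.1 * x'.1⁻¹) = 1 := Nat.eq_one_of_dvd_coprimes hpq
    (orderOf_dvd_of_pow_eq_one hep) (orderOf_dvd_of_pow_eq_one he)
  exact mul_inv_eq_one.mp (orderOf_eq_one_iff.mp this)

/-- The elements with an order from a given set. -/
theorem card_orderOf_mem [Fintype G] [DecidableEq G] (s : Finset ℕ) :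
    #{g : G | orderOf g ∈ s} = ∑ n ∈ s, cnt G n := by
  have hmaps : Set.MapsTo (fun g : G => orderOf g) (({g : G | orderOf g ∈ s} : Finset G) : Set G) s :=
    fun g hg => (Finset.mem_filter.mp hg).2
  rw [Finset.card_eq_sum_card_fiberwise hmaps]
  refine Finset.sum_congr rfl fun n hn => ?_
  rw [cnt_eq_card, Finset.filter_filter]
  exact congrArg Finset.card (Finset.filter_congr fun g _ =>
    ⟨fun h => h.2, fun h => ⟨h.symm ▸ hn, h⟩⟩)

section

variable (hG : Nat.card G = 443520)
  (hmem : ∀ n, 0 < cnt G n → cnt G n ∈ vals)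
  (hex : ∀ v ∈ vals, ∃ n, cnt G n = v)

include hG hex in
/-- Every value is taken exactly once. -/
theorem cnt_inj {m n : ℕ} (hm : 0 < cnt G m) (h : cnt G m = cnt G n) (_hv : cnt G m ∈ vals) :
    m = n := by
  classical
  cases nonempty_fintype G
  choose! sec hsec using hex
  have hinj : Set.InjOn sec vals := fun v hv' w hw e => by rw [← hsec v hv', ← hsec w hw, e]
  have hpos : ∀ v ∈ vals, 0 < v := by decide
  set Ord : Finset ℕ := Finset.univ.image fun g : G => orderOf g with hOrd
  have hsub : vals.image sec ⊆ Ord := by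
    intro k hk
    obtain ⟨v, hv', rfl⟩ := Finset.mem_image.mp hk
    obtain ⟨g, hg⟩ := exists_orderOf_of_cnt_pos (G := G) (n := sec v) (by
      rw [hsec v hv']; exact hpos v hv')
    exact Finset.mem_image.mpr ⟨g, Finset.mem_univ g, hg⟩
  have hsum : ∑ k ∈ Ord, cnt G k = ∑ k ∈ vals.image sec, cnt G k := by
    rw [Finset.sum_image hinj, Finset.sum_congr rfl hsec, show ∑ v ∈ vals, v = 443520 by decide,
      ← hG, Nat.card_eq_fintype_card, ← Finset.card_univ,
      Finset.card_eq_sum_card_image (fun g : G => orderOf g) Finset.univ]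
    exact Finset.sum_congr rfl fun k _ => cnt_eq_card k
  have heq : ∀ k : ℕ, 0 < cnt G k → k = sec (cnt G k) := by
    intro k hk
    obtain ⟨g, hg⟩ := exists_orderOf_of_cnt_pos hk
    have hkO : k ∈ Ord := Finset.mem_image.mpr ⟨g, Finset.mem_univ g, hg⟩
    by_cases hkim : k ∈ vals.image sec
    · obtain ⟨v, hv', rfl⟩ := Finset.mem_image.mp hkim
      rw [hsec v hv']
    · exfalso
      have h2 := Finset.sum_sdiff (f := fun k => cnt G k) hsub
      have h3 : cnt G k ≤ ∑ j ∈ Ord \ vals.image sec, cnt G j :=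
        Finset.single_le_sum (f := fun j => cnt G j) (fun j _ => Nat.zero_le _)
          (Finset.mem_sdiff.mpr ⟨hkO, hkim⟩)
      omega
  rw [heq m hm, h, ← heq n (h ▸ hm)]

include hG hmem hex

theorem cnt_five : cnt G 5 = 88704 := by
  haveI : Fact (Nat.Prime 5) := ⟨by norm_num⟩
  obtain ⟨x, hx⟩ := exists_prime_orderOf_dvd_card' (G := G) 5 (by rw [hG]; norm_num)
  have h1 := hmem 5 (hx ▸ cnt_pos_of_orderOf x)
  have h2 := prime_dvd_succ_cnt (G := G) (p := 5) (by norm_num) (by rw [hG]; norm_num)
  simp only [vals, Finset.mem_insert, Finset.mem_singleton] at h1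
  omega

theorem cnt_seven : cnt G 7 = 126720 := by
  haveI : Fact (Nat.Prime 7) := ⟨by norm_num⟩
  obtain ⟨x, hx⟩ := exists_prime_orderOf_dvd_card' (G := G) 7 (by rw [hG]; norm_num)
  have h1 := hmem 7 (hx ▸ cnt_pos_of_orderOf x)
  have h2 := prime_dvd_succ_cnt (G := G) (p := 7) (by norm_num) (by rw [hG]; norm_num)
  simp only [vals, Finset.mem_insert, Finset.mem_singleton] at h1
  omega

theorem cnt_eleven : cnt G 11 = 80640 := by
  haveI : Fact (Nat.Prime 11) := ⟨by norm_num⟩
  obtain ⟨x, hx⟩ := exists_prime_orderOf_dvd_card' (G := G) 11 (by rw [hG]; norm_num)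
  have h1 := hmem 11 (hx ▸ cnt_pos_of_orderOf x)
  have h2 := prime_dvd_succ_cnt (G := G) (p := 11) (by norm_num) (by rw [hG]; norm_num)
  simp only [vals, Finset.mem_insert, Finset.mem_singleton] at h1
  omega

theorem cnt_three : cnt G 3 = 12320 := by
  haveI : Fact (Nat.Prime 3) := ⟨by norm_num⟩
  obtain ⟨x, hx⟩ := exists_prime_orderOf_dvd_card' (G := G) 3 (by rw [hG]; norm_num)
  have h1 := hmem 3 (hx ▸ cnt_pos_of_orderOf x)
  have h2 := prime_dvd_succ_cnt (G := G) (p := 3) (by norm_num) (by rw [hG]; norm_num)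
  simp only [vals, Finset.mem_insert, Finset.mem_singleton] at h1
  omega

theorem cnt_two : cnt G 2 = 1155 := by
  haveI : Fact (Nat.Prime 2) := ⟨by norm_num⟩
  obtain ⟨x, hx⟩ := exists_prime_orderOf_dvd_card' (G := G) 2 (by rw [hG]; norm_num)
  have h1 := hmem 2 (hx ▸ cnt_pos_of_orderOf x)
  have h2 := prime_dvd_succ_cnt (G := G) (p := 2) (by norm_num) (by rw [hG]; norm_num)
  have h3 : cnt G 2 ≠ 1 := fun h => by
    have := cnt_inj hG hex (m := 2) (n := 1) (by omega) (by rw [h, cnt_one]) (hmem 2 (by omega))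
    omega
  simp only [vals, Finset.mem_insert, Finset.mem_singleton] at h1
  omega

/-- A further element order has one of the three remaining values. -/
theorem cnt_other {n : ℕ} (hn : 0 < cnt G n)
    (h : n ∉ ({1, 2, 3, 5, 7, 11} : Finset ℕ)) :
    cnt G n = 41580 ∨ cnt G n = 36960 ∨ cnt G n = 55440 := by
  have h1 := hmem n hn
  have key : ∀ m ∈ ({1, 2, 3, 5, 7, 11} : Finset ℕ), cnt G n ≠ cnt G m := fun m hm e =>
    h (cnt_inj hG hex hn e (hmem n hn) ▸ hm)
  have e1 := key 1 (by decide)
  have e2 := key 2 (by decide)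
  have e3 := key 3 (by decide)
  have e5 := key 5 (by decide)
  have e7 := key 7 (by decide)
  have e11 := key 11 (by decide)
  rw [cnt_one] at e1
  rw [cnt_two hG hmem hex] at e2
  rw [cnt_three hG hmem hex] at e3
  rw [cnt_five hG hmem hex] at e5
  rw [cnt_seven hG hmem hex] at e7
  rw [cnt_eleven hG hmem hex] at e11
  simp only [vals, Finset.mem_insert, Finset.mem_singleton] at h1
  omega

/-- An element of order divisible by 5, 7 or 11 has that order. -/
theorem orderOf_eq_prime {p : ℕ} (hp : p = 5 ∨ p = 7 ∨ p = 11) {g : G}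
    (hdvd : p ∣ orderOf g) : orderOf g = p := by
  haveI hf : Fact p.Prime := ⟨by rcases hp with rfl | rfl | rfl <;> norm_num⟩
  by_contra hne
  obtain ⟨m, hm⟩ := hdvd
  have hG' : orderOf g ∣ 443520 := hG ▸ orderOf_dvd_natCard g
  have hm1 : m ≠ 1 := fun h => hne (by rw [hm, h, mul_one])
  obtain ⟨q, hq, hqm⟩ := Nat.exists_prime_and_dvd hm1
  obtain ⟨r, hr⟩ := hqm
  have hr0 : r ≠ 0 := fun h => by
    rw [hr, h, mul_zero, mul_zero] at hm
    exact (orderOf_pos g).ne' hm
  have hpq : p.Coprime q := by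
    refine (Nat.coprime_primes hf.out hq).2 fun e => ?_
    have h2 : p * p ∣ 443520 := (Dvd.intro r (by rw [hm, hr, ← e, mul_assoc])).trans hG'
    rcases hp with rfl | rfl | rfl <;> norm_num at h2
  have hg' : orderOf (g ^ r) = p * q := by
    rw [orderOf_pow_of_dvd hr0 (Dvd.intro_left (p * q) (by rw [hm, hr, mul_assoc])), hm, hr,
      ← mul_assoc, Nat.mul_div_cancel _ (Nat.pos_of_ne_zero hr0)]
  obtain ⟨P⟩ : Nonempty (Sylow p G) := inferInstance
  have hP : Nat.card (P : Subgroup G) = p := by
    rw [SmallGroups.card_sylow_eq P (k := 1) (m := 443520 / p)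
      (by rw [hG]; rcases hp with rfl | rfl | rfl <;> norm_num)
      (by rcases hp with rfl | rfl | rfl <;> norm_num), pow_one]
  have hle := cnt_le_cnt_mul P hP hpq hg'
  have hpos : 0 < cnt G (p * q) := hg' ▸ cnt_pos_of_orderOf (g ^ r)
  have hq2 := hq.two_le
  have h3 := cnt_other hG hmem hex hpos (by
    simp only [Finset.mem_insert, Finset.mem_singleton, not_or]
    refine ⟨?_, ?_, ?_, ?_, ?_, ?_⟩ <;> intro e <;>
      rcases hp with rfl | rfl | rfl <;> omega)
  have h5 := cnt_five hG hmem hex
  have h7 := cnt_seven hG hmem hex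
  have h11 := cnt_eleven hG hmem hex
  rcases hp with rfl | rfl | rfl <;> omega

/-- A further element order is a candidate. -/
theorem mem_cands {n : ℕ} (hn : 0 < cnt G n)
    (h : n ∉ ({1, 2, 3, 5, 7, 11} : Finset ℕ)) : n ∈ cands := by
  obtain ⟨g, rfl⟩ := exists_orderOf_of_cnt_pos hn
  have hG' : orderOf g ∣ 1152 * 385 := by
    rw [show 1152 * 385 = 443520 by norm_num, ← hG]; exact orderOf_dvd_natCard g
  have hcop : Nat.Coprime (orderOf g) 385 := by
    have key : ∀ p : ℕ, p = 5 ∨ p = 7 ∨ p = 11 → p.Prime → Nat.Coprime (orderOf g) p :=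
      fun p hp hpp => Nat.Coprime.symm <| hpp.coprime_iff_not_dvd.2 fun hd => h <| by
        rw [orderOf_eq_prime hG hmem hex hp hd]
        rcases hp with rfl | rfl | rfl <;> decide
    rw [show 385 = 5 * 7 * 11 by norm_num]
    exact ((key 5 (by omega) (by norm_num)).mul_right (key 7 (by omega) (by norm_num))).mul_right
      (key 11 (by omega) (by norm_num))
  have hdiv : orderOf g ∈ Nat.divisors 1152 :=
    Nat.mem_divisors.mpr ⟨hcop.dvd_of_dvd_mul_right hG', by norm_num⟩
  exact (show ∀ k ∈ Nat.divisors 1152, k ∉ ({1, 2, 3, 5, 7, 11} : Finset ℕ) → k ∈ cands by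
    decide +kernel) _ hdiv h

/-- The elements of order four, six and eight. -/
theorem exists_rest :
    cnt G 6 = 36960 ∧
      ((cnt G 4 = 41580 ∧ cnt G 8 = 55440) ∨ (cnt G 8 = 41580 ∧ cnt G 4 = 55440)) := by
  classical
  cases nonempty_fintype G
  have c1 : cnt G 1 = 1 := cnt_one
  have c2 := cnt_two hG hmem hex
  have c3 := cnt_three hG hmem hex
  have c5 := cnt_five hG hmem hex
  have c7 := cnt_seven hG hmem hex
  have c11 := cnt_eleven hG hmem hex
  obtain ⟨a, ha⟩ := hex 41580 (by decide)
  obtain ⟨b, hb⟩ := hex 36960 (by decide)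
  obtain ⟨e, he⟩ := hex 55440 (by decide)
  have out : ∀ n v : ℕ, cnt G n = v → (v = 41580 ∨ v = 36960 ∨ v = 55440) →
      n ∉ ({1, 2, 3, 5, 7, 11} : Finset ℕ) := by
    intro n v hv hv' hn
    simp only [Finset.mem_insert, Finset.mem_singleton] at hn
    rcases hn with rfl | rfl | rfl | rfl | rfl | rfl <;> omega
  have hac := mem_cands hG hmem hex (n := a) (by omega) (out a _ ha (Or.inl rfl))
  have hbc := mem_cands hG hmem hex (n := b) (by omega) (out b _ hb (Or.inr (Or.inl rfl)))
  have hec := mem_cands hG hmem hex (n := e) (by omega) (out e _ he (Or.inr (Or.inr rfl)))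
  -- the other element orders
  have hfit : ∀ n : ℕ, 0 < cnt G n → n ∉ ({1, 2, 3, 5, 7, 11} : Finset ℕ) →
      n = a ∨ n = b ∨ n = e := by
    intro n hn h
    rcases cnt_other hG hmem hex hn h with h' | h' | h'
    · exact Or.inl (cnt_inj hG hex hn (h'.trans ha.symm) (hmem n hn))
    · exact Or.inr (Or.inl (cnt_inj hG hex hn (h'.trans hb.symm) (hmem n hn)))
    · exact Or.inr (Or.inr (cnt_inj hG hex hn (h'.trans he.symm) (hmem n hn)))
  have hdist : a ∉ ({1, 2, 3, b, e} : Finset ℕ) ∧ b ∉ ({1, 2, 3, e} : Finset ℕ) ∧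
      e ∉ ({1, 2, 3} : Finset ℕ) := by
    refine ⟨fun h => ?_, fun h => ?_, fun h => ?_⟩ <;>
      simp only [Finset.mem_insert, Finset.mem_singleton] at h
    · rcases h with rfl | rfl | rfl | rfl | rfl <;> omega
    · rcases h with rfl | rfl | rfl | rfl <;> omega
    · rcases h with rfl | rfl | rfl <;> omega
  -- solutions of `g ^ d = 1`
  have hsol : ∀ d ∈ [8, 9, 18, 32, 192], solCount a b e d % d = 0 := by
    intro d hd
    have hd0 : d ≠ 0 := by rintro rfl; simp at hd
    have hdN : d ∣ Nat.card G := by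
      rw [hG]
      exact (show ∀ d ∈ [8, 9, 18, 32, 192], d ∣ 443520 by decide) d hd
    have hd1 : (d % 5 ≠ 0 ∧ d % 7 ≠ 0 ∧ d % 11 ≠ 0) :=
      (show ∀ d ∈ [8, 9, 18, 32, 192], d % 5 ≠ 0 ∧ d % 7 ≠ 0 ∧ d % 11 ≠ 0 by decide) d hd
    have h := OrderCount.dvd_card_pow_eq_one hdN
    rw [card_pow_eq_one hd0] at h
    rw [← Nat.dvd_iff_mod_eq_zero]
    refine h.trans (dvd_of_eq ?_)
    have hsupp : ∀ m ∈ Nat.divisors d, m ∉ ({1, 2, 3, a, b, e} : Finset ℕ) → cnt G m = 0 := by
      intro m hm hm'
      by_contra hc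
      have h6 := hfit m (Nat.pos_of_ne_zero hc) (by
        intro h6
        have hmd := Nat.dvd_of_mem_divisors hm
        simp only [Finset.mem_insert, Finset.mem_singleton] at h6 hm'
        rcases h6 with rfl | rfl | rfl | rfl | rfl | rfl <;>
          first
            | exact hm' (by tauto)
            | (have := Nat.mod_eq_zero_of_dvd hmd; omega))
      simp only [Finset.mem_insert, Finset.mem_singleton] at hm'
      tauto
    calc ∑ m ∈ Nat.divisors d, cnt G m
        = ∑ m ∈ Nat.divisors d, if m ∈ ({1, 2, 3, a, b, e} : Finset ℕ) then cnt G m else 0 :=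
          Finset.sum_congr rfl fun m hm => by
            split
            · rfl
            · exact hsupp m hm ‹_›
      _ = ∑ m ∈ ({1, 2, 3, a, b, e} : Finset ℕ), if m ∈ Nat.divisors d then cnt G m else 0 := by
          rw [← Finset.sum_filter, ← Finset.sum_filter, Finset.filter_mem_eq_inter,
            Finset.filter_mem_eq_inter, Finset.inter_comm]
      _ = solCount a b e d := by
          rw [Finset.sum_insert (by simp only [Finset.mem_insert, Finset.mem_singleton, not_or] at hdist ⊢
                                    omega),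
            Finset.sum_insert (by simp only [Finset.mem_insert, Finset.mem_singleton, not_or] at hdist ⊢
                                  omega),
            Finset.sum_insert (by simp only [Finset.mem_insert, Finset.mem_singleton, not_or] at hdist ⊢
                                  omega),
            Finset.sum_insert (by simp only [Finset.mem_insert, Finset.mem_singleton, not_or] at hdist ⊢
                                  omega),
            Finset.sum_insert (by simp only [Finset.mem_insert, Finset.mem_singleton, not_or] at hdist ⊢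
                                  omega),
            Finset.sum_singleton, c1, c2, c3, ha, hb, he]
          simp only [Nat.mem_divisors, ne_eq, hd0, not_false_iff, and_true, Nat.dvd_iff_mod_eq_zero,
            solCount, Nat.mod_one, if_pos]
          ring
  have hclos : ∀ x ∈ [a, b, e], ∀ y ∈ [4, 8], x % y = 0 → y ∈ [a, b, e] := by
    intro x hx y hy hxy
    have hpos : 0 < cnt G x := by
      simp only [List.mem_cons, List.not_mem_nil, or_false] at hx
      rcases hx with rfl | rfl | rfl <;> omega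
    obtain ⟨g, hg⟩ := exists_orderOf_of_cnt_pos hpos
    have hx0 : x ≠ 0 := hg ▸ (orderOf_pos g).ne'
    have hyd : y ∣ x := Nat.dvd_of_mod_eq_zero hxy
    obtain ⟨w, hw⟩ := hyd
    have hw0 : w ≠ 0 := fun h => hx0 (by rw [hw, h, mul_zero])
    have hgy : orderOf (g ^ w) = y := by
      rw [orderOf_pow_of_dvd hw0 (hg ▸ hw ▸ dvd_mul_left w y), hg, hw,
        Nat.mul_div_cancel _ (Nat.pos_of_ne_zero hw0)]
    have hy' := hfit y (hgy ▸ cnt_pos_of_orderOf (g ^ w)) (by
      simp only [List.mem_cons, List.not_mem_nil, or_false] at hy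
      rcases hy with rfl | rfl <;> decide)
    simpa [List.mem_cons] using hy'
  have hadm : admissible a b e = true := by
    simp only [admissible, Bool.and_eq_true, List.all_eq_true, beq_iff_eq, Bool.or_eq_true,
      bne_iff_ne, List.contains_iff_mem]
    refine ⟨⟨?_, hsol⟩, fun x hx y hy => ?_⟩
    · simp only [Finset.mem_insert, Finset.mem_singleton, not_or] at hdist
      omega
    by_cases hxy : x % y = 0
    · exact Or.inr (hclos x hx y hy hxy)
    · exact Or.inl hxy
  obtain ⟨h6, h⟩ := eq_of_admissible hac hbc hec hadm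
  subst h6
  refine ⟨hb, ?_⟩
  rcases h with ⟨rfl, rfl⟩ | ⟨rfl, rfl⟩
  · exact Or.inl ⟨ha, he⟩
  · exact Or.inr ⟨ha, he⟩

theorem ord_mem (g : G) : orderOf g ∈ ({1, 2, 3, 4, 5, 6, 7, 8, 11} : Finset ℕ) := by
  by_contra h
  simp only [Finset.mem_insert, Finset.mem_singleton, not_or] at h
  have hn := cnt_pos_of_orderOf g
  have h' : orderOf g ∉ ({1, 2, 3, 5, 7, 11} : Finset ℕ) := by
    simp only [Finset.mem_insert, Finset.mem_singleton, not_or]
    omega
  have hv := cnt_other hG hmem hex hn h'
  obtain ⟨h6, h48⟩ := exists_rest hG hmem hex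
  have key : ∀ m : ℕ, orderOf g ≠ m → cnt G (orderOf g) ≠ cnt G m := fun m hm e =>
    hm (cnt_inj hG hex hn e (hmem _ hn))
  have k4 := key 4 (by omega)
  have k6 := key 6 (by omega)
  have k8 := key 8 (by omega)
  omega

theorem isSimpleGroup : IsSimpleGroup G := by
  classical
  cases nonempty_fintype G
  haveI : Nontrivial G := Finite.one_lt_card_iff_nontrivial.mp (by rw [hG]; norm_num)
  refine ⟨fun N hN => ?_⟩
  haveI := hN
  by_contra hne
  rw [not_or] at hne
  have hmul : Nat.card N * N.index = 443520 := hG ▸ N.card_mul_index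
  have hidx : 1 < N.index := by
    rcases Nat.lt_or_ge 1 N.index with h | h
    · exact h
    · exfalso
      have h1 : N.index = 1 := le_antisymm h (Nat.one_le_iff_ne_zero.mpr N.index_ne_zero_of_finite)
      exact hne.2 (Subgroup.index_eq_one.mp h1)
  have hN1 : Nat.card N ≠ 1 := fun h => hne.1 (Subgroup.card_eq_one.mp h)
  -- the elements of order prime to the index
  set s : Finset ℕ := ({1, 5, 7, 11} : Finset ℕ).filter fun n => Nat.Coprime n N.index with hs
  have hlo : ∑ n ∈ s, cnt G n ≤ Nat.card N := by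
    rw [← card_orderOf_mem, Nat.card_eq_fintype_card, Fintype.card_subtype]
    exact Finset.card_le_card fun g hg => Finset.mem_filter.mpr ⟨Finset.mem_univ g,
      M11Order.mem_of_coprime_index (Finset.mem_filter.mp (Finset.mem_filter.mp hg).2).2⟩
  rw [hs, Finset.sum_filter, Finset.sum_insert (by decide), Finset.sum_insert (by decide),
    Finset.sum_insert (by decide), Finset.sum_singleton, if_pos (Nat.coprime_one_left _), cnt_one,
    cnt_five hG hmem hex, cnt_seven hG hmem hex, cnt_eleven hG hmem hex] at hlo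
  -- free action of the elements of order 5, 7 and 11
  have hfree : ∀ p : ℕ, p = 5 ∨ p = 7 ∨ p = 11 → Nat.card N % p ≤ 1 := by
    intro p hp
    haveI hf : Fact p.Prime := ⟨by rcases hp with rfl | rfl | rfl <;> norm_num⟩
    by_cases hd : p ∣ Nat.card N
    · rw [Nat.mod_eq_zero_of_dvd hd]
      exact Nat.zero_le 1
    obtain ⟨y, hy⟩ := exists_prime_orderOf_dvd_card' (G := G) p (by
      rw [hG]; rcases hp with rfl | rfl | rfl <;> norm_num)
    refine le_of_eq (M11Order.free_card N hy (fun a => ⟨fun ha => hN.conj_mem a ha y, fun ha => by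
      simpa [mul_assoc] using hN.conj_mem _ ha y⁻¹⟩) fun k hk hc => ?_)
    have hok : orderOf k ∣ Nat.card N := by simpa using orderOf_dvd_natCard (⟨k, hk⟩ : N)
    have hcop : (orderOf y).Coprime (orderOf k) := by
      rw [hy]
      exact hf.out.coprime_iff_not_dvd.2 fun h => hd (h.trans hok)
    have h1 := orderOf_eq_prime hG hmem hex hp (g := y * k) (by
      rw [(show Commute y k from hc).orderOf_mul_eq_mul_orderOf_of_coprime hcop, hy]
      exact dvd_mul_right p _)
    rw [(show Commute y k from hc).orderOf_mul_eq_mul_orderOf_of_coprime hcop, hy] at h1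
    exact orderOf_eq_one_iff.mp (Nat.eq_of_mul_eq_mul_left hf.out.pos (h1.trans (mul_one p).symm))
  have hdvd : N.index ∣ 1152 * 385 := Dvd.intro_left (Nat.card N) (hmul.trans (by norm_num))
  obtain ⟨i, j, hi, hj, hij⟩ := Nat.dvd_mul.mp hdvd
  have hcard : Nat.card N = 443520 / N.index := by
    rw [← hmul, Nat.mul_div_cancel _ (by omega : 0 < N.index)]
  have hchk := index_check i (Nat.mem_divisors.mpr ⟨hi, by norm_num⟩) j
    (Nat.mem_divisors.mpr ⟨hj, by norm_num⟩) (by rw [hij]; exact hidx) (by
      rw [hij, ← hmul]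
      exact lt_mul_left (by omega) (by have := Nat.card_pos (α := N); omega))
  rw [hij, ← hcard] at hchk
  simp only [(show Nat.Prime 5 by norm_num).coprime_iff_not_dvd,
    (show Nat.Prime 7 by norm_num).coprime_iff_not_dvd,
    (show Nat.Prime 11 by norm_num).coprime_iff_not_dvd, ite_not] at hlo
  have f5 := hfree 5 (Or.inl rfl)
  have f7 := hfree 7 (Or.inr (Or.inl rfl))
  have f11 := hfree 11 (Or.inr (Or.inr rfl))
  rcases hchk with h | h
  · omega
  · exact h ⟨f5, f7, f11⟩

end

end Hist

/-- The order and the set of the numbers of elements of each order determine the counts. -/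
theorem facts_of_counts {G : Type u} [Group G] [Finite G] (hG : Nat.card G = 443520)
    (hmem : ∀ n, 0 < Nat.card {g : G // orderOf g = n} → Nat.card {g : G // orderOf g = n} ∈
      [1, 1155, 12320, 41580, 88704, 36960, 126720, 55440, 80640])
    (hex : ∀ c ∈ [1, 1155, 12320, 41580, 88704, 36960, 126720, 55440, 80640],
      ∃ n, c = Nat.card {g : G // orderOf g = n}) : Facts G := by
  have hmem' : ∀ n, 0 < Hist.cnt G n → Hist.cnt G n ∈ Hist.vals := fun n hn => by
    simpa [Hist.vals, Hist.cnt] using hmem n hn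
  have hex' : ∀ v ∈ Hist.vals, ∃ n, Hist.cnt G n = v := fun v hv => by
    obtain ⟨n, hn⟩ := hex v (by simpa [Hist.vals] using hv)
    exact ⟨n, hn.symm⟩
  exact
    { card := hG
      simple := Hist.isSimpleGroup hG hmem' hex'
      ord_mem := Hist.ord_mem hG hmem' hex'
      c2 := Hist.cnt_two hG hmem' hex'
      c3 := Hist.cnt_three hG hmem' hex'
      c5 := Hist.cnt_five hG hmem' hex'
      c6 := (Hist.exists_rest hG hmem' hex').1
      c7 := Hist.cnt_seven hG hmem' hex'
      c11 := Hist.cnt_eleven hG hmem' hex' }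

end Cfsg.Agent.Lib.M22Nse57
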