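import Cfsg.Agent.Lib.M22Nse57.IdentifyAct
import Cfsg.Agent.Lib.Design.WittAutThree
import Cfsg.Agent.Lib.Leech.SimplePairs
import Cfsg.Prelude.Def_Spor_Mathieu

/-!
A group with the element counts of the Mathieu group of degree 22 and a subgroup of index 22 is
that group: the fixed sets of the subgroups of order sixteen form an S(3, 6, 22).
-/

set_option autoImplicit false

open Finset
open scoped Classical Pointwise

namespace Cfsg.Agent.Lib.M22Nse57

universe u v

variable {G : Type u} [Group G] {X : Type v} [MulAction G X]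

/-- The subgroup of order sixteen fixing three points. -/
noncomputable def hexSub (e : Fin 3 ↪ X) : Subgroup G :=
  Subgroup.closure {g | g • e = e ∧ orderOf g ≠ 3}

/-- The block through three points. -/
noncomputable def hexad (G : Type u) [Group G] [MulAction G X] [Fintype X] (e : Fin 3 ↪ X) :
    Finset X :=
  univ.filter fun x => ∀ q ∈ hexSub (G := G) e, q • x = x

theorem mem_hexad [Fintype X] {e : Fin 3 ↪ X} {x : X} :
    x ∈ hexad G e ↔ ∀ q ∈ hexSub (G := G) e, q • x = x := by simp [hexad]

namespace Setting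

variable [Fintype G] [Fintype X] (D : Setting G X)
include D

theorem cardX : Fintype.card X = 22 := by rw [← Nat.card_eq_fintype_card, D.card]

theorem card_emb : Fintype.card (Fin 3 ↪ X) = 9240 := by
  rw [Fintype.card_embedding_eq, Fintype.card_fin, D.cardX]; rfl

theorem card_stab3 (e : Fin 3 ↪ X) : Nat.card (MulAction.stabilizer G e) = 48 := by
  haveI : MulAction.IsPretransitive G (Fin 3 ↪ X) := D.three_trans
  have h := (MulAction.stabilizer G e).card_mul_index
  rw [MulAction.index_stabilizer_of_transitive, Nat.card_eq_fintype_card (α := Fin 3 ↪ X),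
    D.card_emb, D.facts.card] at h
  omega

theorem card_stab3_three (e : Fin 3 ↪ X) :
    ((ordSet G 3).filter fun g => g • e = e).card = 32 := by
  haveI : MulAction.IsPretransitive G (Fin 3 ↪ X) := D.three_trans
  have h1 : ∑ g ∈ ordSet G 3, (univ.filter fun e' : Fin 3 ↪ X => g • e' = e').card = 295680 := by
    rw [sum_congr rfl fun g hg => ?_, sum_const, card_ordSet, D.facts.c3]
    · exact (rfl : 12320 • 24 = _)
    · rw [← Fintype.card_subtype]
      exact ((Fintype.card_congr (Equiv.refl _)).trans (card_fix_emb (X := X) g 3)).trans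
        (by rw [D.fix_three (mem_ordSet.1 hg)]; rfl)
  simp only [card_filter] at h1
  rw [sum_comm] at h1
  simp only [← card_filter] at h1
  have h2 : ∀ e' : Fin 3 ↪ X, ((ordSet G 3).filter fun g => g • e' = e').card =
      ((ordSet G 3).filter fun g => g • e = e).card := fun e' => by
    obtain ⟨h, rfl⟩ := MulAction.exists_smul_eq G e e'
    refine (card_equiv (MulAut.conj h).toEquiv fun g => ?_).symm
    show g ∈ _ ↔ h * g * h⁻¹ ∈ _
    simp only [mem_filter, mem_ordSet, orderOf_conj', mul_smul, inv_smul_smul, smul_left_cancel_iff]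
  rw [sum_congr rfl fun e' _ => h2 e', sum_const, Finset.card_univ, D.card_emb, smul_eq_mul] at h1
  omega

theorem hex_props (e : Fin 3 ↪ X) :
    Nat.card (hexSub (G := G) e) = 16 ∧
      ∀ g : G, g ∈ hexSub (G := G) e ↔ g • e = e ∧ orderOf g ≠ 3 := by
  haveI : Fact (Nat.Prime 2) := ⟨Nat.prime_two⟩
  obtain ⟨S, hS⟩ := Sylow.exists_subgroup_card_pow_prime (n := 4) 2
    (G := MulAction.stabilizer G e) (by rw [D.card_stab3]; norm_num)
  set P : Subgroup G := S.map (MulAction.stabilizer G e).subtype
  have hP : Nat.card P = 16 :=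
    (Nat.card_congr (S.equivMapOfInjective _ Subtype.val_injective).toEquiv).symm.trans hS
  have hsub : (univ.filter fun g => g ∈ P) ⊆
      univ.filter fun g : G => g • e = e ∧ orderOf g ≠ 3 := fun g hg => by
    have hgP := (mem_filter.1 hg).2
    refine mem_filter.2 ⟨mem_univ _, Subgroup.map_subtype_le S hgP, fun h3 => ?_⟩
    have := Subgroup.orderOf_dvd_natCard P hgP
    rw [h3, hP] at this
    norm_num at this
  have hs : (univ.filter fun g : G => g • e = e ∧ orderOf g ≠ 3).card = 16 := by
    have h := card_filter_add_card_filter_not (s := univ.filter fun g : G => g • e = e)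
      (fun g => orderOf g = 3)
    rw [filter_filter, filter_filter] at h
    have h3 : (univ.filter fun g : G => g • e = e ∧ orderOf g = 3).card = 32 := by
      rw [← D.card_stab3_three e, ordSet, filter_filter]
      exact congrArg Finset.card (filter_congr fun g _ => and_comm)
    have h48 : (univ.filter fun g : G => g • e = e).card = 48 := by
      rw [← D.card_stab3 e, Nat.card_eq_fintype_card, ← Fintype.card_subtype]
      exact Fintype.card_congr (Equiv.refl _)
    simp only [ne_eq] at h ⊢
    omega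
  have he := eq_of_subset_of_card_le hsub (by
    rw [hs, ← Fintype.card_subtype, ← Nat.card_eq_fintype_card]; exact le_of_eq hP.symm)
  have hset : {g : G | g • e = e ∧ orderOf g ≠ 3} = (P : Set G) := by
    ext g
    have := Finset.ext_iff.1 he g
    simpa using this.symm
  have hq : hexSub (G := G) e = P := by rw [hexSub, hset, Subgroup.closure_eq]
  exact ⟨by rw [hq, hP], fun g => by rw [hq, ← SetLike.mem_coe, ← hset]; rfl⟩

theorem mem_hex {e : Fin 3 ↪ X} {g : G} :
    g ∈ hexSub (G := G) e ↔ g • e = e ∧ orderOf g ≠ 3 := (D.hex_props e).2 g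

theorem conj_hex {e : Fin 3 ↪ X} (h g : G) :
    h * g * h⁻¹ ∈ hexSub (G := G) (h • e) ↔ g ∈ hexSub (G := G) e := by
  rw [D.mem_hex, D.mem_hex, orderOf_conj', mul_smul, mul_smul, inv_smul_smul,
    smul_left_cancel_iff]

theorem fix_hex {e : Fin 3 ↪ X} {q : G} (hq : q ∈ hexSub (G := G) e) (i : Fin 3) :
    q • e i = e i :=
  DFunLike.congr_fun (D.mem_hex.1 hq).1 i

theorem orbits_le (e : Fin 3 ↪ X) :
    Fintype.card (MulAction.orbitRel.Quotient (hexSub (G := G) e) X) ≤ 7 := by
  have hb := MulAction.sum_card_fixedBy_eq_card_orbits_mul_card_group (hexSub (G := G) e) X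
  rw [← Nat.card_eq_fintype_card (α := hexSub (G := G) e), (D.hex_props e).1] at hb
  have hp : ∀ q : hexSub (G := G) e,
      Fintype.card (MulAction.fixedBy X q) = (fix (X := X) (q : G)).card := fun q => by
    rw [← Fintype.card_coe, ← Nat.card_eq_fintype_card, ← Nat.card_eq_fintype_card]
    exact Nat.card_congr (Equiv.subtypeEquivRight fun x => mem_fix.symm)
  rw [sum_congr rfl (fun q _ => hp q), Fintype.sum_eq_add_sum_compl (1 : hexSub (G := G) e),
    OneMemClass.coe_one, D.fix_one] at hb
  have hle : ∀ q ∈ ({(1 : hexSub (G := G) e)} : Finset _)ᶜ,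
      (fix (X := X) (q : G)).card ≤ 6 := fun q hq => by
    refine D.fix_le_six (mem_filter.2 ⟨mem_univ _, ?_⟩)
    have hd := Subgroup.orderOf_dvd_natCard _ q.2
    rw [(D.hex_props e).1] at hd
    have h1 : orderOf (q : G) ≠ 1 := fun e' => by
      simp at hq; exact hq (Subtype.ext (orderOf_eq_one_iff.1 e'))
    rcases mem_cases (D.facts.ord_mem (q : G)) with e' | e' | e' | e' | e' | e' | e' | e' | e' <;>
      rw [e'] at hd h1 ⊢ <;> simp_all <;> norm_num at hd
  have h := sum_le_sum hle
  rw [sum_const, card_compl, card_singleton, ← Nat.card_eq_fintype_card, (D.hex_props e).1,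
    smul_eq_mul] at h
  change _ = Fintype.card (MulAction.orbitRel.Quotient (hexSub (G := G) e) X) * 16 at hb
  omega

theorem fixes_six (e : Fin 3 ↪ X) : (hexad G e).card = 6 := by
  set Q := hexSub (G := G) e
  let Ω := MulAction.orbitRel.Quotient Q X
  let π : X → Ω := Quotient.mk''
  let N : Ω → ℕ := fun ω => (univ.filter fun z => π z = ω).card
  have hrel : ∀ y z : X, π y = π z ↔ ∃ q : Q, (q : G) • z = y := fun y z =>
    (Quotient.eq'').trans Iff.rfl
  have hdvd : ∀ y, N (π y) ∣ 16 := fun y => by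
    have hN : N (π y) = (MulAction.stabilizer Q y).index := by
      show (univ.filter fun z => π z = π y).card = _
      rw [MulAction.index_stabilizer, ← Set.ncard_coe_finset]
      congr 1
      ext z
      simpa [MulAction.mem_orbit_iff, Subgroup.smul_def] using hrel z y
    rw [hN, ← (D.hex_props e).1]
    exact Subgroup.index_dvd_card _
  have hsingle : ∀ y, N (π y) = 1 ↔ y ∈ hexad G e := fun y => by
    rw [mem_hexad]
    constructor
    · intro h q hq
      exact Finset.card_le_one.1 (le_of_eq h) _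
        (mem_filter.2 ⟨mem_univ _, (hrel _ _).2 ⟨⟨q, hq⟩, rfl⟩⟩) _
        (mem_filter.2 ⟨mem_univ _, rfl⟩)
    · intro h
      refine card_eq_one.2 ⟨y, eq_singleton_iff_unique_mem.2 ⟨mem_filter.2 ⟨mem_univ _, rfl⟩,
        fun z hz => ?_⟩⟩
      obtain ⟨q, hq⟩ := (hrel z y).1 (mem_filter.1 hz).2
      exact hq.symm.trans (h q q.2)
  have hei : ∀ i, N (π (e i)) = 1 := fun i => (hsingle _).2 <|
    mem_hexad.2 fun q hq => D.fix_hex hq i
  have heq : ∀ i z, π z = π (e i) → z = e i := fun i z h => by
    obtain ⟨q, hq⟩ := (hrel _ _).1 h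
    exact hq.symm.trans (D.fix_hex q.2 i)
  -- an element of order three fixing the three points
  obtain ⟨x, hx⟩ := card_pos.1 (show 0 < ((ordSet G 3).filter fun g => g • e = e).card by
    rw [D.card_stab3_three e]; norm_num)
  obtain ⟨hx3, hxe⟩ := mem_filter.1 hx
  rw [mem_ordSet] at hx3
  have hxei : ∀ i, x • e i = e i := fun i => DFunLike.congr_fun hxe i
  have hT : (univ.map e) ⊆ fix (X := X) x := fun z hz => by
    obtain ⟨i, -, rfl⟩ := mem_map.1 hz
    exact mem_fix.2 (hxei i)
  obtain ⟨d, hd⟩ := card_eq_one.1 (show (fix (X := X) x \ univ.map e).card = 1 by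
    rw [card_sdiff_of_subset hT, D.fix_three hx3]; rfl)
  have hdmem : d ∈ fix (X := X) x \ univ.map e := hd ▸ mem_singleton_self d
  have hfixx : ∀ z, x • z = z → (∃ i, z = e i) ∨ z = d := fun z hz => by
    by_cases h : z ∈ univ.map e
    · obtain ⟨i, -, rfl⟩ := mem_map.1 h; exact Or.inl ⟨i, rfl⟩
    · exact Or.inr (mem_singleton.1 (hd ▸ mem_sdiff.2 ⟨mem_fix.2 hz, h⟩))
  have hmove : ∀ {y z}, π y = π z → π (x • y) = π (x • z) := fun {y z} h => by
    obtain ⟨q, hq⟩ := (hrel _ _).1 h
    refine (hrel _ _).2 ⟨⟨x * q * x⁻¹, ?_⟩, ?_⟩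
    · have := (D.conj_hex (e := e) x q).2 q.2
      rwa [hxe] at this
    · simp [mul_smul, hq]
  have hx3' : ∀ z : X, x • x • x • z = z := fun z => by
    rw [← mul_smul, ← mul_smul, show x * x * x = x ^ 3 by rw [pow_succ, pow_two], ← hx3,
      pow_orderOf_eq_one, one_smul]
  have hinv : ∀ y, π (x • y) = π y → (∃ i, π y = π (e i)) ∨ π y = π d := fun y h => by
    have hm := fix_modEq Nat.prime_three 1 x (univ.filter fun z => π z = π y)
      (fun z hz => mem_filter.2 ⟨mem_univ _, (hmove (mem_filter.1 hz).2).trans h⟩)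
      (fun z _ => by rw [pow_one, ← hx3, pow_orderOf_eq_one, one_smul])
    have hne : ((univ.filter fun z => π z = π y).filter fun z => x • z = z).Nonempty := by
      rw [← card_pos]
      obtain ⟨k, hk, hk'⟩ := (Nat.dvd_prime_pow Nat.prime_two).1
        (show N (π y) ∣ 2 ^ 4 from hdvd y)
      change (univ.filter fun z => π z = π y).card = 2 ^ k at hk'
      rw [hk'] at hm
      unfold Nat.ModEq at hm
      interval_cases k <;> omega
    obtain ⟨z, hz⟩ := hne
    obtain ⟨h1, h2⟩ := mem_filter.1 hz
    rcases hfixx z h2 with ⟨i, rfl⟩ | rfl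
    · exact Or.inl ⟨i, (mem_filter.1 h1).2.symm⟩
    · exact Or.inr (mem_filter.1 h1).2.symm
  have hdx : x • d = d := mem_fix.1 (mem_sdiff.1 hdmem).1
  obtain ⟨y, hy⟩ : ∃ y, ¬ ((∃ i, π y = π (e i)) ∨ π y = π d) := by
    by_contra hcon
    push_neg at hcon
    have hsub : (univ : Finset X) ⊆ univ.map e ∪ univ.filter fun z => π z = π d := fun z _ => by
      by_cases hz : π z = π d
      · exact mem_union_right _ (mem_filter.2 ⟨mem_univ _, hz⟩)
      · by_cases h' : ∃ i, π z = π (e i)
        · obtain ⟨i, hi⟩ := h'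
          exact mem_union_left _ (mem_map.2 ⟨i, mem_univ _, (heq i z hi).symm⟩)
        · exact absurd ((hcon z).resolve_left h') hz
    have := (card_le_card hsub).trans (card_union_le _ _)
    rw [D.card_univ22, card_map, Finset.card_univ, Fintype.card_fin] at this
    have h16 := Nat.le_of_dvd (by norm_num) (hdvd d)
    change (univ.filter fun z => π z = π d).card ≤ 16 at h16
    omega
  have hy1 : π (x • y) ≠ π y := fun h => hy (hinv y h)
  have hstep : ∀ z, (∃ i, π (x • z) = π (e i)) ∨ π (x • z) = π d →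
      (∃ i, π z = π (e i)) ∨ π z = π d := fun z h => by
    rcases h with ⟨i, h⟩ | h
    · refine Or.inl ⟨i, ?_⟩
      have := hmove (hmove h)
      rwa [hx3', hxei, hxei] at this
    · refine Or.inr ?_
      have := hmove (hmove h)
      rwa [hx3', hdx, hdx] at this
  have hy2 : ¬ ((∃ i, π (x • y) = π (e i)) ∨ π (x • y) = π d) := fun h => hy (hstep y h)
  have hy3 : ¬ ((∃ i, π (x • x • y) = π (e i)) ∨ π (x • x • y) = π d) :=
    fun h => hy2 (hstep _ h)
  have h23 : π (x • x • y) ≠ π (x • y) := fun h => hy2 (hinv _ h)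
  have h13 : π (x • x • y) ≠ π y := fun h => by
    have := hmove h
    rw [hx3'] at this
    exact hy1 this.symm
  set A : Finset Ω := univ.image fun i => π (e i)
  have hA : A.card = 3 :=
    (card_image_of_injective _ fun i j h => e.injective (heq j _ h)).trans (by simp)
  have hAmem : ∀ {w}, w ∈ A ↔ ∃ i, w = π (e i) := fun {w} => by simp [A, eq_comm]
  have hdA : π d ∉ A := fun h => by
    obtain ⟨i, hi⟩ := hAmem.1 h
    exact (mem_sdiff.1 hdmem).2 (mem_map.2 ⟨i, mem_univ _, (heq i d hi).symm⟩)
  simp only [not_or] at hy hy2 hy3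
  have n4 : π d ∉ A := hdA
  have n5 : π y ∉ insert (π d) A := by simp only [mem_insert, hAmem, not_or]; exact ⟨hy.2, hy.1⟩
  have n6 : π (x • y) ∉ insert (π y) (insert (π d) A) := by
    simp only [mem_insert, hAmem, not_or]; exact ⟨hy1, hy2.2, hy2.1⟩
  have n7 : π (x • x • y) ∉ insert (π (x • y)) (insert (π y) (insert (π d) A)) := by
    simp only [mem_insert, hAmem, not_or]; exact ⟨h23, h13, hy3.2, hy3.1⟩
  have hall : insert (π (x • x • y)) (insert (π (x • y)) (insert (π y) (insert (π d) A))) =
      (univ : Finset Ω) := eq_of_subset_of_card_le (subset_univ _) (by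
    rw [card_insert_of_notMem n7, card_insert_of_notMem n6, card_insert_of_notMem n5,
      card_insert_of_notMem n4, hA, Finset.card_univ]
    exact D.orbits_le e)
  have htot : 22 = ∑ ω : Ω, N ω := by
    rw [← D.card_univ22]
    exact card_eq_sum_card_fiberwise fun z _ => mem_univ (π z)
  have hNA : ∑ ω ∈ A, N ω = 3 := by
    rw [sum_image fun i _ j _ h => e.injective (heq j _ h), sum_congr rfl fun i _ => hei i]
    simp
  rw [← hall, sum_insert n7, sum_insert n6, sum_insert n5, sum_insert n4, hNA] at htot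
  have hNle : ∀ z, N (π z) ≤ N (π (x • z)) := fun z => by
    refine card_le_card_of_injOn (fun w => x • w) (fun w hw => ?_)
      fun a _ b _ h => smul_left_cancel x h
    exact mem_filter.2 ⟨mem_univ _, hmove (mem_filter.1 hw).2⟩
  have e1 := hNle y
  have e2 := hNle (x • y)
  have e3 := hNle (x • x • y)
  rw [hx3'] at e3
  have hD : N (π d) = 16 ∧ N (π y) = 1 := by
    have a := hdvd d
    have b := hdvd y
    have hy22 : N (π y) ≤ 16 := Nat.le_of_dvd (by norm_num) b
    have hd22 : N (π d) ≤ 16 := Nat.le_of_dvd (by norm_num) a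
    have hN : N (π y) = 1 ∨ N (π y) = 2 ∨ N (π y) = 4 ∨ N (π y) = 8 ∨ N (π y) = 16 := by
      obtain ⟨k, hk, hk'⟩ := (Nat.dvd_prime_pow Nat.prime_two).1 (show N (π y) ∣ 2 ^ 4 from b)
      interval_cases k <;> omega
    obtain ⟨k, hk, hk'⟩ := (Nat.dvd_prime_pow Nat.prime_two).1 (show N (π d) ∣ 2 ^ 4 from a)
    interval_cases k <;> omega
  obtain ⟨hD16, hY1⟩ := hD
  have hone : ∀ ω : Ω, ω ≠ π d → N ω = 1 := fun ω hω => by
    have hm := hall.symm ▸ mem_univ ω
    simp only [mem_insert, hAmem] at hm
    rcases hm with rfl | rfl | rfl | rfl | ⟨i, rfl⟩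
    · omega
    · omega
    · exact hY1
    · exact absurd rfl hω
    · exact hei i
  have himg : (hexad G e).image π = univ.erase (π d) := by
    ext ω
    rw [mem_image, mem_erase]
    constructor
    · rintro ⟨z, hz, rfl⟩
      refine ⟨fun h => ?_, mem_univ _⟩
      have := (hsingle z).2 hz
      rw [h, hD16] at this
      norm_num at this
    · rintro ⟨hω, -⟩
      induction ω using Quotient.inductionOn' with
      | h z => exact ⟨z, (hsingle z).1 (hone _ hω), rfl⟩
  have hinj : Set.InjOn π (hexad G e : Set X) := fun a ha b _ h =>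
    Finset.card_le_one.1 (le_of_eq ((hsingle a).2 ha)) _ (mem_filter.2 ⟨mem_univ _, rfl⟩) _
      (mem_filter.2 ⟨mem_univ _, h.symm⟩)
  rw [← card_image_of_injOn hinj, himg, card_erase_of_mem (mem_univ _), ← hall,
    card_insert_of_notMem n7, card_insert_of_notMem n6, card_insert_of_notMem n5,
    card_insert_of_notMem n4, hA]

theorem self_mem_hexad (e : Fin 3 ↪ X) (i : Fin 3) : e i ∈ hexad G e :=
  mem_hexad.2 fun _ hq => D.fix_hex hq i

theorem hexad_eq {e e' : Fin 3 ↪ X} (h : ∀ i, e i ∈ hexad G e') :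
    hexad G e' = hexad G e := by
  have hle : hexSub (G := G) e' ≤ hexSub (G := G) e := fun q hq =>
    D.mem_hex.2 ⟨DFunLike.ext _ _ fun i => mem_hexad.1 (h i) q hq, (D.mem_hex.1 hq).2⟩
  have heq : hexSub (G := G) e' = hexSub (G := G) e :=
    Subgroup.eq_of_le_of_card_ge hle (by rw [(D.hex_props e).1, (D.hex_props e').1])
  rw [hexad, hexad, heq]

theorem steiner : Cfsg.IsSteinerSystem 3 6 (Set.range (hexad (X := X) G)) := by
  refine ⟨fun b hb => ?_, fun s hs => ?_⟩
  · obtain ⟨e, rfl⟩ := hb
    exact D.fixes_six e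
  let f : Fin 3 ≃ s := (Fintype.equivFinOfCardEq (by simpa using hs)).symm
  let e : Fin 3 ↪ X := f.toEmbedding.trans (Function.Embedding.subtype _)
  refine ⟨hexad G e, ⟨⟨e, rfl⟩, fun z hz => ?_⟩, ?_⟩
  · have : e (f.symm ⟨z, hz⟩) = z := by simp [e]
    exact this ▸ D.self_mem_hexad e _
  · rintro b ⟨⟨e', rfl⟩, hb⟩
    exact D.hexad_eq fun i => hb (f i).2

theorem image_hexad (g : G) (e : Fin 3 ↪ X) :
    (hexad G e).image (fun x => g • x) = hexad G (g • e) := by
  ext z
  rw [mem_image]
  constructor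
  · rintro ⟨x, hx, rfl⟩
    refine mem_hexad.2 fun q hq => ?_
    have hq' : g⁻¹ * q * g ∈ hexSub (G := G) e :=
      (D.conj_hex g _).1 (by simpa [mul_assoc] using hq)
    have h2 := mem_hexad.1 hx _ hq'
    rw [mul_smul, mul_smul, inv_smul_eq_iff] at h2
    exact h2
  · intro hz
    refine ⟨g⁻¹ • z, mem_hexad.2 fun q hq => ?_, smul_inv_smul g z⟩
    have h2 := mem_hexad.1 hz _ ((D.conj_hex (e := e) g q).2 hq)
    rw [mul_smul, mul_smul] at h2
    exact smul_left_cancel g (h2.trans (smul_inv_smul g z).symm)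

theorem range_le_aut :
    (MulAction.toPermHom G X).range ≤ Cfsg.setSystemAut (Set.range (hexad (X := X) G)) := by
  rintro σ ⟨g, rfl⟩
  rw [WittAut.mem_aut_iff]
  rintro s ⟨e, rfl⟩
  exact ⟨g • e, ((D.image_hexad g e).symm)⟩

theorem nonempty_mulEquiv : Nonempty (G ≃* Cfsg.Spor.M22) := by
  haveI := D.facts.simple
  obtain ⟨e, hA, hB, he⟩ := WittAut.exists_place22 D.cardX D.steiner
  let j : G →* ↥WittAut.duadStab :=
    (WittAut.aut22 hA hB he).symm.toMonoidHom.comp
      ((MulAction.toPermHom G X).codRestrict _ fun g => D.range_le_aut ⟨g, rfl⟩)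
  have hj : Function.Injective j := (injective_iff_map_eq_one _).2 fun g hg => by
    refine D.faithful g fun x => ?_
    have h1 := (WittAut.aut22 hA hB he).symm.injective (hg.trans (map_one _).symm)
    exact Equiv.congr_fun (congrArg Subtype.val h1) x
  let K : Subgroup ↥M24 :=
    MulAction.stabilizer ↥M24 WittAut.ptA ⊓ MulAction.stabilizer ↥M24 WittAut.ptB
  have hle : K ≤ WittAut.duadStab := fun g hg => by
    rw [MulAction.mem_stabilizer_iff, WittAut.duad, smul_finset_insert, smul_finset_singleton]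
    exact congrArg₂ (fun a b => ({a, b} : Finset GolayPt)) hg.1 hg.2
  obtain ⟨i⟩ := Golay.stab2_iso WittAut.ptA WittAut.ptB WittAut.ptA_ne_ptB
  have hK : Nat.card (K.subgroupOf WittAut.duadStab) = 443520 := by
    rw [Nat.card_congr (Subgroup.subgroupOfEquivOfLe hle).toEquiv, ← Nat.card_congr i.toEquiv,
      Golay.card_fix2]
  have hidx : (K.subgroupOf WittAut.duadStab).index = 2 := by
    have h := (K.subgroupOf WittAut.duadStab).card_mul_index
    rw [hK, WittAut.card_duadStab] at h
    omega
  haveI := Subgroup.normal_of_index_eq_two hidx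
  have htop : (K.subgroupOf WittAut.duadStab).comap j = ⊤ := by
    refine (IsSimpleGroup.eq_bot_or_eq_top_of_normal _ inferInstance).resolve_left fun hbot => ?_
    have h1 := Subgroup.index_comap (K.subgroupOf WittAut.duadStab) j
    rw [hbot, Subgroup.index_bot, D.facts.card] at h1
    have h2 := Subgroup.relIndex_dvd_index_of_normal (K.subgroupOf WittAut.duadStab) j.range
    rw [← h1, hidx] at h2
    norm_num at h2
  have hrange : j.range = K.subgroupOf WittAut.duadStab := by
    refine Subgroup.eq_of_le_of_card_ge ?_ ?_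
    · rintro _ ⟨g, rfl⟩
      exact (htop.symm ▸ Subgroup.mem_top g : g ∈ (K.subgroupOf WittAut.duadStab).comap j)
    · rw [hK, Nat.card_congr (MonoidHom.ofInjective hj).toEquiv.symm, D.facts.card]
  obtain ⟨i'⟩ := Golay.stab2_iso (none : GolayPt) (some 0) (by decide)
  exact ⟨(MonoidHom.ofInjective hj).trans <| (MulEquiv.subgroupCongr hrange).trans <|
    (Subgroup.subgroupOfEquivOfLe hle).trans <| i.symm.trans <| i'.trans <|
      Golay.stabEquiv2 (none : GolayPt) (some 0 : GolayPt)⟩

end Setting

/-- A group with these orders and a subgroup of index twenty-two is the Mathieu group. -/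
theorem nonempty_mulEquiv_of_index {G : Type u} [Group G] [Finite G] (F : Facts G) (H : Subgroup G)
    (hH : H.index = 22) : Nonempty (G ≃* Cfsg.Spor.M22) := by
  haveI := F.simple
  haveI := Fintype.ofFinite G
  haveI := Fintype.ofFinite (G ⧸ H)
  have hcard : Nat.card (G ⧸ H) = 22 := hH
  refine Setting.nonempty_mulEquiv (X := G ⧸ H)
    ⟨F, hcard, inferInstance, fun g hg => ?_⟩
  have hker : g ∈ (MulAction.toPermHom G (G ⧸ H)).ker :=
    (MonoidHom.mem_ker (f := MulAction.toPermHom G (G ⧸ H))).2 (Equiv.ext fun x => hg x)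
  rcases IsSimpleGroup.eq_bot_or_eq_top_of_normal _
      (MulAction.toPermHom G (G ⧸ H)).normal_ker with h | h
  · rwa [h, Subgroup.mem_bot] at hker
  · exfalso
    haveI : Subsingleton (G ⧸ H) := ⟨fun a b => by
      obtain ⟨k, hk⟩ := MulAction.exists_smul_eq G a b
      have := Equiv.congr_fun
        ((MonoidHom.mem_ker (f := MulAction.toPermHom G (G ⧸ H))).1 (h ▸ Subgroup.mem_top k)) a
      exact this.symm.trans hk⟩
    rw [Nat.card_of_subsingleton (QuotientGroup.mk 1)] at hcard
    omega

end Cfsg.Agent.Lib.M22Nse57
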