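import Cfsg.Agent.Lib.M22Nse57.Facts

/-!
The action on twenty-two points of a group with the numbers of elements of each order of the
Mathieu group of that degree: fixed points and triple transitivity.
-/

set_option autoImplicit false

open Finset
open scoped Classical

namespace Cfsg.Agent.Lib.M22Nse57

universe u v

variable {G : Type u} [Group G] {X : Type v} [MulAction G X]

/-- A faithful transitive action on twenty-two points. -/
structure Setting (G : Type u) [Group G] (X : Type v) [MulAction G X] : Prop where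
  facts : Facts G
  card : Nat.card X = 22
  trans : MulAction.IsPretransitive G X
  faithful : ∀ g : G, (∀ x : X, g • x = x) → g = 1

theorem mem_cases {n : ℕ} (h : n ∈ ({1, 2, 3, 4, 5, 6, 7, 8, 11} : Finset ℕ)) :
    n = 1 ∨ n = 2 ∨ n = 3 ∨ n = 4 ∨ n = 5 ∨ n = 6 ∨ n = 7 ∨ n = 8 ∨ n = 11 := by
  simpa using h

namespace Facts

variable (F : Facts G)
include F

theorem ord_ne (g : G) {n : ℕ} (h : n ∉ ({1, 2, 3, 4, 5, 6, 7, 8, 11} : Finset ℕ)) :
    orderOf g ≠ n := fun e => h (e ▸ F.ord_mem g)

theorem finite : Finite G :=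
  Nat.finite_of_card_ne_zero (by rw [F.card]; norm_num)

theorem not_dvd_cent {x : G} {p q : ℕ} (hx : orderOf x = p) (hq : q.Prime) (hpq : Nat.Coprime p q)
    (hbad : p * q ∉ ({1, 2, 3, 4, 5, 6, 7, 8, 11} : Finset ℕ)) :
    ¬ q ∣ Nat.card (Subgroup.centralizer ({x} : Set G)) := by
  intro hd
  haveI := F.finite
  haveI := Fact.mk hq
  obtain ⟨y, hy⟩ := exists_prime_orderOf_dvd_card' q hd
  have hyx : Commute x (y : G) :=
    (Subgroup.mem_centralizer_singleton_iff.1 y.2).symm
  have ho : orderOf (y : G) = q := by rw [Subgroup.orderOf_coe]; exact hy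
  have h := hyx.orderOf_mul_eq_mul_orderOf_of_coprime (by rw [hx, ho]; exact hpq)
  rw [hx, ho] at h
  exact F.ord_ne _ hbad h

theorem cent_dvd (x : G) : Nat.card (Subgroup.centralizer ({x} : Set G)) ∣ 443520 :=
  F.card ▸ Subgroup.card_subgroup_dvd_card _

theorem cent_five {x : G} (hx : orderOf x = 5) :
    Nat.card (Subgroup.centralizer ({x} : Set G)) ≤ 5 := by
  have hd := F.cent_dvd x
  have h2 := F.not_dvd_cent hx Nat.prime_two (by norm_num) (by decide)
  have h3 := F.not_dvd_cent hx Nat.prime_three (by norm_num) (by decide)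
  have h7 := F.not_dvd_cent hx (q := 7) (by norm_num) (by norm_num) (by decide)
  have h11 := F.not_dvd_cent hx (q := 11) (by norm_num) (by norm_num) (by decide)
  set n := Nat.card (Subgroup.centralizer ({x} : Set G))
  have hc : Nat.Coprime n (2 ^ 7 * 3 ^ 2 * 7 * 11) :=
    ((((Nat.prime_two.coprime_iff_not_dvd.2 h2).symm.pow_right 7).mul_right
      ((Nat.prime_three.coprime_iff_not_dvd.2 h3).symm.pow_right 2)).mul_right
      (((show Nat.Prime 7 by norm_num).coprime_iff_not_dvd.2 h7).symm)).mul_right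
      (((show Nat.Prime 11 by norm_num).coprime_iff_not_dvd.2 h11).symm)
  exact Nat.le_of_dvd (by norm_num) (hc.dvd_of_dvd_mul_right (show n ∣ 5 * (2 ^ 7 * 3 ^ 2 * 7 * 11) by norm_num; exact hd))

theorem cent_seven {x : G} (hx : orderOf x = 7) :
    Nat.card (Subgroup.centralizer ({x} : Set G)) ≤ 7 := by
  have hd := F.cent_dvd x
  have h2 := F.not_dvd_cent hx Nat.prime_two (by norm_num) (by decide)
  have h3 := F.not_dvd_cent hx Nat.prime_three (by norm_num) (by decide)
  have h5 := F.not_dvd_cent hx (q := 5) (by norm_num) (by norm_num) (by decide)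
  have h11 := F.not_dvd_cent hx (q := 11) (by norm_num) (by norm_num) (by decide)
  set n := Nat.card (Subgroup.centralizer ({x} : Set G))
  have hc : Nat.Coprime n (2 ^ 7 * 3 ^ 2 * 5 * 11) :=
    ((((Nat.prime_two.coprime_iff_not_dvd.2 h2).symm.pow_right 7).mul_right
      ((Nat.prime_three.coprime_iff_not_dvd.2 h3).symm.pow_right 2)).mul_right
      (((show Nat.Prime 5 by norm_num).coprime_iff_not_dvd.2 h5).symm)).mul_right
      (((show Nat.Prime 11 by norm_num).coprime_iff_not_dvd.2 h11).symm)
  exact Nat.le_of_dvd (by norm_num) (hc.dvd_of_dvd_mul_right (show n ∣ 7 * (2 ^ 7 * 3 ^ 2 * 5 * 11) by norm_num; exact hd))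

theorem cent_dvd_1152 {x : G} {p : ℕ} (hx : orderOf x = p) (hp : p = 2 ∨ p = 3) :
    Nat.card (Subgroup.centralizer ({x} : Set G)) ∣ 1152 := by
  have hd := F.cent_dvd x
  have h5 := F.not_dvd_cent hx (q := 5) (by norm_num)
    (by rcases hp with rfl | rfl <;> norm_num) (by rcases hp with rfl | rfl <;> decide)
  have h7 := F.not_dvd_cent hx (q := 7) (by norm_num)
    (by rcases hp with rfl | rfl <;> norm_num) (by rcases hp with rfl | rfl <;> decide)
  have h11 := F.not_dvd_cent hx (q := 11) (by norm_num)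
    (by rcases hp with rfl | rfl <;> norm_num) (by rcases hp with rfl | rfl <;> decide)
  set n := Nat.card (Subgroup.centralizer ({x} : Set G))
  have hc : Nat.Coprime n (5 * 7 * 11) :=
    ((((show Nat.Prime 5 by norm_num).coprime_iff_not_dvd.2 h5).symm).mul_right
      (((show Nat.Prime 7 by norm_num).coprime_iff_not_dvd.2 h7).symm)).mul_right
      (((show Nat.Prime 11 by norm_num).coprime_iff_not_dvd.2 h11).symm)
  exact hc.dvd_of_dvd_mul_right (show n ∣ 1152 * (5 * 7 * 11) by norm_num; exact hd)

theorem orderOf_two {y : G} {n : ℕ} (hn : n ∣ 8) (h : y ≠ 1) (hd : orderOf y ∣ n) {x : G}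
    (hx : orderOf x = 3) (hc : Commute x y) : orderOf y = 2 := by
  have h8 : orderOf y ∈ Nat.divisors 8 := Nat.mem_divisors.2 ⟨hd.trans hn, by norm_num⟩
  have h1 : orderOf y ≠ 1 := fun e => h (orderOf_eq_one_iff.1 e)
  have hs : orderOf y = 1 ∨ orderOf y = 2 ∨ orderOf y = 4 ∨ orderOf y = 8 := by
    have : Nat.divisors 8 = {1, 2, 4, 8} := by decide
    rw [this] at h8
    simpa using h8
  rcases hs with e | e | e | e
  · exact absurd e h1
  · exact e
  · have hm := hc.orderOf_mul_eq_mul_orderOf_of_coprime (by rw [hx, e]; norm_num)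
    rw [hx, e] at hm
    exact absurd hm (F.ord_ne _ (by decide))
  · have hm := hc.orderOf_mul_eq_mul_orderOf_of_coprime (by rw [hx, e]; norm_num)
    rw [hx, e] at hm
    exact absurd hm (F.ord_ne _ (by decide))

/-- A group of order nine in a group with these orders has exponent three. -/
theorem exists_nine_cent {x : G} (hx : orderOf x = 3) :
    ∃ P : Subgroup G, Nat.card P = 9 ∧ P ≤ Subgroup.centralizer ({x} : Set G) ∧
      ∀ y ∈ P, y ≠ 1 → orderOf y = 3 := by
  haveI := F.finite
  haveI : Fact (Nat.Prime 3) := ⟨Nat.prime_three⟩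
  have hz : IsPGroup 3 (Subgroup.zpowers x) :=
    IsPGroup.of_card (n := 1) (by rw [Nat.card_zpowers, hx]; norm_num)
  obtain ⟨P, hP⟩ := hz.exists_le_sylow
  have hf : (443520 : ℕ).factorization 3 = 2 := by
    rw [show (443520 : ℕ) = 3 ^ 2 * 49280 by norm_num,
      Nat.factorization_mul (by norm_num) (by norm_num), Nat.Prime.factorization_pow Nat.prime_three]
    simp [Nat.factorization_eq_zero_of_not_dvd (show ¬ 3 ∣ 49280 by norm_num)]
  have hc : Nat.card P = 3 ^ 2 := by rw [P.card_eq_multiplicity, F.card, hf]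
  have hcomm := (IsPGroup.isMulCommutative_of_card_eq_prime_sq hc).is_comm.comm
  refine ⟨P, hc, fun y hy => Subgroup.mem_centralizer_singleton_iff.2 ?_, fun y hy hy1 => ?_⟩
  · exact congrArg Subtype.val
      (hcomm ⟨y, hy⟩ ⟨x, hP (Subgroup.mem_zpowers x)⟩)
  · have hd : orderOf y ∣ 3 ^ 2 := hc ▸ Subgroup.orderOf_dvd_natCard (P : Subgroup G) hy
    obtain ⟨i, hi, e⟩ := (Nat.dvd_prime_pow Nat.prime_three).1 hd
    interval_cases i
    · exact absurd (orderOf_eq_one_iff.1 e) hy1
    · simpa using e
    · exact absurd e (F.ord_ne _ (by decide))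

end Facts

section Count

variable [Fintype G]

theorem fibre_le (x y : G) :
    (univ.filter fun h => h * x * h⁻¹ = y).card ≤
      Nat.card (Subgroup.centralizer ({x} : Set G)) := by
  rcases (univ.filter fun h => h * x * h⁻¹ = y).eq_empty_or_nonempty with he | ⟨k, hk⟩
  · rw [he, card_empty]; exact Nat.zero_le _
  rw [← Fintype.card_coe, ← Nat.card_eq_fintype_card]
  refine Nat.card_le_card_of_injective (fun h => ⟨k⁻¹ * h.1, ?_⟩) fun a b e => ?_
  · have h1 := (mem_filter.1 h.2).2
    have h2 := (mem_filter.1 hk).2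
    rw [Subgroup.mem_centralizer_singleton_iff]
    have h3 : h.1 * x * h.1⁻¹ = k * x * k⁻¹ := h1.trans h2.symm
    calc k⁻¹ * h.1 * x = k⁻¹ * (h.1 * x * h.1⁻¹) * h.1 := by group
      _ = k⁻¹ * (k * x * k⁻¹) * h.1 := by rw [h3]
      _ = x * (k⁻¹ * h.1) := by group
  · exact Subtype.ext (mul_left_cancel (congrArg Subtype.val e))

/-- Sum of a class function over a class. -/
theorem class_sum_le (x : G) (S : Finset G) (hS : ∀ h : G, h * x * h⁻¹ ∈ S) (φ : G → ℕ)
    (hφ : ∀ h : G, φ (h * x * h⁻¹) = φ x) :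
    Fintype.card G * φ x ≤
      Nat.card (Subgroup.centralizer ({x} : Set G)) * ∑ y ∈ S, φ y := by
  calc Fintype.card G * φ x = ∑ h : G, φ (h * x * h⁻¹) := by simp [hφ, card_univ]
    _ = ∑ y ∈ S, ∑ h ∈ univ.filter (fun h => h * x * h⁻¹ = y), φ (h * x * h⁻¹) :=
      (sum_fiberwise_of_maps_to (fun h _ => hS h) _).symm
    _ = ∑ y ∈ S, (univ.filter fun h => h * x * h⁻¹ = y).card * φ y :=
      sum_congr rfl fun y _ => by
        rw [sum_congr rfl fun h hh => congrArg φ (mem_filter.1 hh).2, sum_const, smul_eq_mul]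
    _ ≤ ∑ y ∈ S, Nat.card (Subgroup.centralizer ({x} : Set G)) * φ y :=
      sum_le_sum fun y _ => Nat.mul_le_mul_right _ (fibre_le x y)
    _ = _ := (mul_sum _ _ _).symm

theorem class_le (x : G) (S : Finset G) (hS : ∀ h : G, h * x * h⁻¹ ∈ S) :
    Fintype.card G ≤ Nat.card (Subgroup.centralizer ({x} : Set G)) * S.card := by
  simpa using class_sum_le x S hS (fun _ => 1) fun _ => rfl

theorem orderOf_conj' (h x : G) : orderOf (h * x * h⁻¹) = orderOf x :=
  orderOf_injective (MulAut.conj h).toMonoidHom (MulAut.conj h).injective x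

/-- The elements of a given order. -/
noncomputable def ordSet (G : Type u) [Group G] [Fintype G] (n : ℕ) : Finset G :=
  univ.filter fun g => orderOf g = n

theorem mem_ordSet {n : ℕ} {g : G} : g ∈ ordSet G n ↔ orderOf g = n := by simp [ordSet]

theorem card_ordSet (n : ℕ) : (ordSet G n).card = Nat.card {g : G // orderOf g = n} := by
  rw [Nat.card_eq_fintype_card, Fintype.card_subtype, ordSet]

theorem ordSet_conj {n : ℕ} {x : G} (hx : orderOf x = n) (h : G) : h * x * h⁻¹ ∈ ordSet G n :=
  mem_ordSet.2 ((orderOf_conj' h x).trans hx)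

namespace Facts

variable (F : Facts G)
include F

theorem four_dvd_cent {x : G} (hx : orderOf x = 3) :
    4 ∣ Nat.card (Subgroup.centralizer ({x} : Set G)) := by
  have hd := F.cent_dvd_1152 hx (Or.inr rfl)
  obtain ⟨P, hP, hPC, -⟩ := F.exists_nine_cent hx
  have h9 : 9 ∣ Nat.card (Subgroup.centralizer ({x} : Set G)) :=
    hP ▸ Subgroup.card_dvd_of_le hPC
  have hl := class_le x _ (ordSet_conj hx)
  rw [card_ordSet, F.c3, ← Nat.card_eq_fintype_card, F.card] at hl
  generalize Nat.card (Subgroup.centralizer ({x} : Set G)) = n at hd h9 hl ⊢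
  obtain ⟨m, rfl⟩ := h9
  have hm : m ∣ 128 := Nat.dvd_of_mul_dvd_mul_left (show 0 < 9 by norm_num) (by norm_num; exact hd)
  obtain ⟨i, hi, rfl⟩ := (Nat.dvd_prime_pow Nat.prime_two).1 (show m ∣ 2 ^ 7 by norm_num; exact hm)
  interval_cases i <;> omega

/-- The involutions centralising an element. -/
theorem inv_ge {x : G} (hx : orderOf x = 3) {k : ℕ} (hk : k ≤ 3)
    (hd : 2 ^ k ∣ Nat.card (Subgroup.centralizer ({x} : Set G))) :
    2 ^ k - 1 ≤ ((ordSet G 2).filter fun u => Commute x u).card := by
  haveI : Fact (Nat.Prime 2) := ⟨Nat.prime_two⟩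
  obtain ⟨S, hS⟩ := Sylow.exists_subgroup_card_pow_prime 2 hd
  set T : Subgroup G := S.map (Subgroup.centralizer ({x} : Set G)).subtype
  have hT : Nat.card T = 2 ^ k :=
    (Nat.card_congr (S.equivMapOfInjective _ Subtype.val_injective).toEquiv).symm.trans hS
  have hs : (univ.filter fun y => y ∈ T).erase 1 ⊆ (ordSet G 2).filter fun u => Commute x u := by
    intro y hy
    obtain ⟨hy1, hy2⟩ := mem_erase.1 hy
    have hyT := (mem_filter.1 hy2).2
    have hc : Commute x y :=
      (Subgroup.mem_centralizer_singleton_iff.1 (Subgroup.map_subtype_le S hyT)).symm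
    exact mem_filter.2 ⟨mem_ordSet.2 (F.orderOf_two (pow_dvd_pow 2 hk) hy1
      (hT ▸ Subgroup.orderOf_dvd_natCard T hyT) hx hc), hc⟩
  refine le_trans (le_of_eq ?_) (card_le_card hs)
  rw [card_erase_of_mem (mem_filter.2 ⟨mem_univ _, one_mem T⟩),
    ← Fintype.card_subtype, ← Nat.card_eq_fintype_card]
  exact congrArg (· - 1) hT.symm

theorem sum_inv_le :
    ∑ x ∈ ordSet G 3, ((ordSet G 2).filter fun u => Commute x u).card ≤ 36960 := by
  rw [← card_sigma, ← F.c6, ← card_ordSet]
  have key : ∀ p ∈ (ordSet G 3).sigma fun x => (ordSet G 2).filter fun u => Commute x u,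
      orderOf p.1 = 3 ∧ orderOf p.2 = 2 ∧ Commute p.1 p.2 := by
    intro p hp
    obtain ⟨h1, h2⟩ := mem_sigma.1 hp
    exact ⟨mem_ordSet.1 h1, mem_ordSet.1 (mem_filter.1 h2).1, (mem_filter.1 h2).2⟩
  refine card_le_card_of_injOn (fun p => p.1 * p.2) (fun p hp => ?_) fun p hp q hq e => ?_
  · obtain ⟨h1, h2, h3⟩ := key p hp
    refine mem_ordSet.2 ?_
    rw [h3.orderOf_mul_eq_mul_orderOf_of_coprime (by rw [h1, h2]; norm_num), h1, h2]
  · have red : ∀ r ∈ (ordSet G 3).sigma fun x => (ordSet G 2).filter fun u => Commute x u,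
        (r.1 * r.2) ^ 3 = r.2 := by
      intro r hr
      obtain ⟨h1, h2, h3⟩ := key r hr
      rw [h3.mul_pow, ← h1, pow_orderOf_eq_one, one_mul, h1, pow_succ,
        ← h2, pow_orderOf_eq_one, one_mul]
    have e2 : p.2 = q.2 := by
      have := congrArg (· ^ 3) (show p.1 * p.2 = q.1 * q.2 from e)
      simpa only [red p hp, red q hq] using this
    have e1 : p.1 = q.1 := mul_right_cancel (show p.1 * q.2 = q.1 * q.2 by rw [← e2]; simpa [e2] using e)
    exact Sigma.ext e1 (heq_of_eq e2)

theorem cent_three {x : G} (hx : orderOf x = 3) :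
    Nat.card (Subgroup.centralizer ({x} : Set G)) = 36 := by
  have h8 : ¬ 2 ^ 3 ∣ Nat.card (Subgroup.centralizer ({x} : Set G)) := by
    intro h8
    have hbig := F.inv_ge hx le_rfl h8
    have h := F.sum_inv_le
    rw [← add_sum_erase _ _ (mem_ordSet.2 hx)] at h
    have hlow := card_nsmul_le_sum ((ordSet G 3).erase x)
      (fun y => ((ordSet G 2).filter fun u => Commute y u).card) 3 fun y hy => by
        have h1 := mem_ordSet.1 (mem_erase.1 hy).2
        simpa using F.inv_ge h1 (k := 2) (by norm_num) (by simpa using F.four_dvd_cent h1)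
    rw [card_erase_of_mem (mem_ordSet.2 hx), card_ordSet, F.c3, smul_eq_mul] at hlow
    norm_num at hbig hlow
    omega
  have hd := F.cent_dvd_1152 hx (Or.inr rfl)
  obtain ⟨P, hP, hPC, -⟩ := F.exists_nine_cent hx
  have h9 : 9 ∣ Nat.card (Subgroup.centralizer ({x} : Set G)) :=
    hP ▸ Subgroup.card_dvd_of_le hPC
  have h4 := F.four_dvd_cent hx
  generalize Nat.card (Subgroup.centralizer ({x} : Set G)) = n at hd h9 h4 h8 ⊢
  obtain ⟨m, rfl⟩ := h9
  have hm : m ∣ 2 ^ 7 :=
    Nat.dvd_of_mul_dvd_mul_left (show 0 < 9 by norm_num) (by norm_num; exact hd)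
  obtain ⟨i, hi, rfl⟩ := (Nat.dvd_prime_pow Nat.prime_two).1 hm
  interval_cases i <;> omega

theorem conj_three {x y : G} (hx : orderOf x = 3) (hy : orderOf y = 3) :
    ∃ h : G, h * x * h⁻¹ = y := by
  have hsub : univ.image (fun h : G => h * x * h⁻¹) ⊆ ordSet G 3 := fun z hz => by
    obtain ⟨h, -, rfl⟩ := mem_image.1 hz
    exact ordSet_conj hx h
  have hc := card_le_mul_card_image (f := fun h : G => h * x * h⁻¹) univ
    (Nat.card (Subgroup.centralizer ({x} : Set G))) fun b _ => fibre_le x b
  rw [card_univ, ← Nat.card_eq_fintype_card, F.card, F.cent_three hx] at hc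
  have he := eq_of_subset_of_card_le hsub (by rw [card_ordSet, F.c3]; omega)
  obtain ⟨h, -, e⟩ := mem_image.1 (he.symm ▸ mem_ordSet.2 hy :
    y ∈ univ.image fun h : G => h * x * h⁻¹)
  exact ⟨h, e⟩

/-- A split of sums by orders. -/
theorem sum_split (φ : G → ℕ) {a b c d : ℕ} (ha : ∀ g, orderOf g = 3 → φ g = a)
    (hb : ∀ g, orderOf g = 5 → φ g = b) (hc : ∀ g, orderOf g = 7 → φ g = c)
    (hd : ∀ g, orderOf g = 11 → φ g = d) :
    ∑ g, φ g = φ 1 + 12320 * a + 88704 * b + 126720 * c + 80640 * d +
      ∑ g ∈ univ.filter (fun g => orderOf g ∈ ({2, 4, 6, 8} : Finset ℕ)), φ g := by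
  have hk : ∀ n m, (∀ g, orderOf g = n → φ g = m) →
      ∑ g ∈ ordSet G n, φ g = Nat.card {g : G // orderOf g = n} * m := fun n m h => by
    rw [sum_congr rfl (fun g hg => h g (mem_ordSet.1 hg)), sum_const, smul_eq_mul, card_ordSet]
  have h1 : ordSet G 1 = {1} := by
    ext g; simp [mem_ordSet, orderOf_eq_one_iff]
  rw [← sum_fiberwise_of_maps_to (g := orderOf) (fun g _ => F.ord_mem g) φ,
    ← sum_fiberwise_of_maps_to (g := orderOf) (t := ({2, 4, 6, 8} : Finset ℕ))
      (fun g hg => (mem_filter.1 hg).2) φ]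
  have hf : ∀ n ∈ ({2, 4, 6, 8} : Finset ℕ),
      ∑ g ∈ (univ.filter fun g => orderOf g ∈ ({2, 4, 6, 8} : Finset ℕ)).filter
        (fun g => orderOf g = n), φ g = ∑ g ∈ ordSet G n, φ g := fun n hn =>
    sum_congr (by ext g; simp only [mem_filter, mem_univ, true_and, mem_ordSet]; exact
      ⟨fun h => h.2, fun h => ⟨h ▸ hn, h⟩⟩) fun _ _ => rfl
  rw [sum_congr rfl hf]
  simp only [← ordSet.eq_1]
  have e3 := hk 3 a ha
  have e5 := hk 5 b hb
  have e7 := hk 7 c hc
  have e11 := hk 11 d hd
  rw [F.c3] at e3; rw [F.c5] at e5; rw [F.c7] at e7; rw [F.c11] at e11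
  simp only [mem_insert, mem_singleton, sum_insert, sum_singleton, not_or, not_false_eq_true,
    Nat.reduceEqDiff, and_self, and_true, h1, e3, e5, e7, e11, sum_singleton]
  ring

end Facts

end Count

section Fix

variable [Fintype X]

/-- The fixed points of an element. -/
noncomputable def fix (g : G) : Finset X := univ.filter fun x => g • x = x

theorem mem_fix {g : G} {x : X} : x ∈ fix g ↔ g • x = x := by simp [fix]

theorem fix_conj (h g : G) : (fix (X := X) (h * g * h⁻¹)).card = (fix (X := X) g).card := by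
  refine card_equiv (MulAction.toPerm h⁻¹) fun x => ?_
  simp only [mem_fix, MulAction.toPerm_apply, mul_smul]
  rw [smul_eq_iff_eq_inv_smul h]

theorem smul_iter {g : G} {S : Finset X} (f : Function.End {x // x ∈ S})
    (hf : ∀ x, (f x).1 = g • x.1) (k : ℕ) (x : {x // x ∈ S}) : ((f ^ k) x).1 = g ^ k • x.1 := by
  induction k generalizing x with
  | zero => simp; rfl
  | succ k ih =>
    rw [pow_succ f, pow_succ g, mul_smul, ← hf x]
    exact ih (f x)

theorem fix_modEq {p : ℕ} (hp : p.Prime) (n : ℕ) (g : G) (S : Finset X)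
    (hS : ∀ x ∈ S, g • x ∈ S) (hg : ∀ x ∈ S, g ^ p ^ n • x = x) :
    S.card ≡ (S.filter fun x => g • x = x).card [MOD p] := by
  haveI := Fact.mk hp
  let f : Function.End {x // x ∈ S} := fun x => ⟨g • x.1, hS _ x.2⟩
  have hf : f ^ p ^ n = 1 := funext fun x => Subtype.ext <| by
    rw [smul_iter f (fun _ => rfl)]
    exact hg _ x.2
  have h := Equiv.Perm.card_fixedPoints_modEq hf
  rw [Fintype.card_coe] at h
  refine h.trans (congrArg (· % p) ?_)
  rw [← Nat.card_eq_fintype_card, ← Fintype.card_coe, ← Nat.card_eq_fintype_card]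
  exact Nat.card_congr
    { toFun := fun x => ⟨x.1.1, mem_filter.2 ⟨x.1.2, congrArg Subtype.val x.2⟩⟩
      invFun := fun x => ⟨⟨x.1, (mem_filter.1 x.2).1⟩, Subtype.ext (mem_filter.1 x.2).2⟩
      left_inv := fun _ => rfl
      right_inv := fun _ => rfl }

theorem card_fix_emb (g : G) (k : ℕ) :
    Fintype.card (MulAction.fixedBy (Fin k ↪ X) g) = (fix (X := X) g).card.descFactorial k := by
  have h : Fintype.card (Fin k ↪ {x // x ∈ fix (X := X) g}) =
      (fix (X := X) g).card.descFactorial k := by
    rw [Fintype.card_embedding_eq, Fintype.card_coe, Fintype.card_fin]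
  rw [← h, ← Nat.card_eq_fintype_card, ← Nat.card_eq_fintype_card]
  refine Nat.card_congr
    { toFun := fun e => ⟨fun i => ⟨e.1 i, mem_fix.2 ?_⟩,
        fun i j hij => e.1.injective (congrArg Subtype.val hij)⟩
      invFun := fun e => ⟨⟨fun i => (e i).1, fun i j hij => e.injective (Subtype.ext hij)⟩, ?_⟩
      left_inv := fun _ => rfl
      right_inv := fun _ => rfl }
  · exact DFunLike.congr_fun (show g • e.1 = e.1 from e.2) i
  · exact DFunLike.ext _ _ fun i => mem_fix.1 (e i).2

theorem sum_desc [Fintype G] {k : ℕ} (ht : MulAction.IsMultiplyPretransitive G X k)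
    (hk : k ≤ Fintype.card X) :
    ∑ g : G, (fix (X := X) g).card.descFactorial k = Fintype.card G := by
  simp only [← card_fix_emb]
  rw [MulAction.sum_card_fixedBy_eq_card_orbits_mul_card_group]
  haveI : Nonempty (Fin k ↪ X) :=
    Function.Embedding.nonempty_of_card_le (by simpa using hk)
  haveI := (MulAction.pretransitive_iff_subsingleton_quotient _ _).1 ht
  haveI : Nonempty (MulAction.orbitRel.Quotient G (Fin k ↪ X)) :=
    ⟨Quotient.mk _ (Classical.arbitrary _)⟩
  rw [Fintype.card_eq_one_iff.2 ⟨Classical.arbitrary _, fun y => Subsingleton.elim _ _⟩, one_mul]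

theorem trans_of_sum_le [Fintype G] {k : ℕ}
    (h : ∑ g : G, (fix (X := X) g).card.descFactorial k ≤ Fintype.card G) :
    MulAction.IsMultiplyPretransitive G X k := by
  simp only [← card_fix_emb] at h
  rw [MulAction.sum_card_fixedBy_eq_card_orbits_mul_card_group] at h
  exact (MulAction.pretransitive_iff_subsingleton_quotient _ _).2 (Fintype.card_le_one_iff_subsingleton.1
    (Nat.le_of_mul_le_mul_right (by simpa using h) Fintype.card_pos))

end Fix

namespace Setting

variable [Fintype G] [Fintype X] (D : Setting G X)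
include D

theorem card_univ22 : (univ : Finset X).card = 22 := by
  rw [Finset.card_univ, ← Nat.card_eq_fintype_card, D.card]

theorem cardG : Fintype.card G = 443520 := by rw [← Nat.card_eq_fintype_card, D.facts.card]

theorem card_stab (a : X) : Nat.card (MulAction.stabilizer G a) = 20160 := by
  haveI := D.trans
  have h := (MulAction.stabilizer G a).card_mul_index
  rw [MulAction.index_stabilizer_of_transitive, D.card, D.facts.card] at h
  omega

theorem fix_mod {g : G} {p n : ℕ} (hp : p.Prime) (hg : orderOf g = p ^ n) :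
    22 ≡ (fix (X := X) g).card [MOD p] := by
  have h := fix_modEq hp n g (univ : Finset X) (fun _ _ => mem_univ _)
    (fun x _ => by rw [← hg, pow_orderOf_eq_one, one_smul])
  rwa [D.card_univ22] at h

theorem fix_one : (fix (X := X) (1 : G)).card = 22 := by
  rw [fix, filter_true_of_mem fun x _ => one_smul G x, D.card_univ22]

theorem fix_ne22 {g : G} (hg : g ≠ 1) : (fix (X := X) g).card ≠ 22 := fun h => hg <|
  D.faithful g fun x => mem_fix.1 ((eq_univ_of_card _ (by
    rw [h, ← Nat.card_eq_fintype_card, D.card]) : fix (X := X) g = univ) ▸ mem_univ x)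

theorem fix_le22 (g : G) : (fix (X := X) g).card ≤ 22 := D.card_univ22 ▸ card_le_univ _

theorem sum_one : ∑ g : G, (fix (X := X) g).card = 443520 := by
  have h := sum_desc (G := G) (X := X) (k := 1)
    (MulAction.is_one_pretransitive_iff.2 D.trans)
    (by rw [← Finset.card_univ, D.card_univ22]; norm_num)
  simpa [D.cardG] using h

theorem fix_five {g : G} (hg : orderOf g = 5) : (fix (X := X) g).card = 2 := by
  have hm := D.fix_mod (n := 1) (by norm_num : Nat.Prime 5) (by simpa using hg)
  have hl := class_sum_le g univ (fun _ => mem_univ _) (fun y => (fix (X := X) y).card)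
    fun h => fix_conj h g
  rw [D.cardG, D.sum_one] at hl
  have h5 := D.facts.cent_five hg
  have hmul := Nat.mul_le_mul_right 443520 h5
  unfold Nat.ModEq at hm
  omega

theorem fix_seven {g : G} (hg : orderOf g = 7) : (fix (X := X) g).card = 1 := by
  have hm := D.fix_mod (n := 1) (by norm_num : Nat.Prime 7) (by simpa using hg)
  have hl := class_sum_le g univ (fun _ => mem_univ _) (fun y => (fix (X := X) y).card)
    fun h => fix_conj h g
  rw [D.cardG, D.sum_one] at hl
  have h7 := D.facts.cent_seven hg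
  have hmul := Nat.mul_le_mul_right 443520 h7
  unfold Nat.ModEq at hm
  omega

theorem fix_eleven {g : G} (hg : orderOf g = 11) : (fix (X := X) g).card = 0 := by
  refine card_eq_zero.2 (eq_empty_of_forall_notMem fun x hx => ?_)
  have h := Subgroup.orderOf_dvd_natCard (MulAction.stabilizer G x)
    (show g ∈ MulAction.stabilizer G x from mem_fix.1 hx)
  rw [hg, D.card_stab] at h
  norm_num at h

theorem fix_three {g : G} (hg : orderOf g = 3) : (fix (X := X) g).card = 4 := by
  have hall : ∀ y : G, orderOf y = 3 → (fix (X := X) y).card = (fix (X := X) g).card := fun y hy => by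
    obtain ⟨h, rfl⟩ := D.facts.conj_three hg hy
    exact fix_conj h g
  have hs := D.facts.sum_split (fun y => (fix (X := X) y).card) hall
    (fun y => D.fix_five) (fun y => D.fix_seven) (fun y => D.fix_eleven)
  rw [D.sum_one, D.fix_one] at hs
  obtain ⟨P, hP, -, hP3⟩ := D.facts.exists_nine_cent hg
  have hb := MulAction.sum_card_fixedBy_eq_card_orbits_mul_card_group P X
  rw [← Nat.card_eq_fintype_card (α := P), hP] at hb
  have hp : ∀ q : P, Fintype.card (MulAction.fixedBy X q) = (fix (X := X) (q : G)).card := fun q => by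
    rw [← Fintype.card_coe, ← Nat.card_eq_fintype_card, ← Nat.card_eq_fintype_card]
    exact Nat.card_congr (Equiv.subtypeEquivRight fun x => mem_fix.symm)
  rw [Fintype.sum_eq_add_sum_compl (1 : P), hp,
    sum_congr rfl (fun q hq => (hp q).trans (hall _ (hP3 _ q.2 fun e => by
      simp at hq; exact hq (Subtype.ext e)))),
    sum_const, card_compl, card_singleton, ← Nat.card_eq_fintype_card (α := P), hP,
    OneMemClass.coe_one, D.fix_one, smul_eq_mul] at hb
  omega

theorem two_trans : MulAction.IsMultiplyPretransitive G X 2 := by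
  haveI := D.trans
  rw [MulAction.is_two_pretransitive_iff]
  have key : ∀ a b c : X, a ≠ b → a ≠ c → ∃ g : G, g • a = a ∧ g • b = c := by
    intro a b c hab hac
    haveI : Fact (Nat.Prime 5) := ⟨by norm_num⟩
    haveI : Fact (Nat.Prime 7) := ⟨by norm_num⟩
    obtain ⟨y, hy⟩ := exists_prime_orderOf_dvd_card' (G := MulAction.stabilizer G a) 5
      (by rw [D.card_stab]; norm_num)
    obtain ⟨z, hz⟩ := exists_prime_orderOf_dvd_card' (G := MulAction.stabilizer G a) 7
      (by rw [D.card_stab]; norm_num)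
    let O : Finset X := univ.filter fun x => ∃ g : G, g • a = a ∧ g • b = x
    have hO : ∀ w : MulAction.stabilizer G a, ∀ x ∈ O, (w : G) • x ∈ O := fun w x hx => by
      obtain ⟨g, h1, h2⟩ := (mem_filter.1 hx).2
      exact mem_filter.2 ⟨mem_univ _, w.1 * g, by rw [mul_smul, h1]; exact w.2,
        by rw [mul_smul, h2]⟩
    have hna : a ∉ O := fun h => by
      obtain ⟨g, h1, h2⟩ := (mem_filter.1 h).2
      exact hab (smul_left_cancel g (h1.trans h2.symm))
    have hfix : ∀ w : MulAction.stabilizer G a,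
        (O.filter fun x => (w : G) • x = x).card + 1 ≤ (fix (X := X) (w : G)).card := fun w => by
      rw [← card_insert_of_notMem (a := a) fun h => hna (mem_filter.1 h).1]
      refine card_le_card fun x hx => mem_fix.2 ?_
      rcases mem_insert.1 hx with rfl | h
      · exact w.2
      · exact (mem_filter.1 h).2
    have hy' : orderOf (y : G) = 5 := by rw [Subgroup.orderOf_coe]; exact hy
    have hz' : orderOf (z : G) = 7 := by rw [Subgroup.orderOf_coe]; exact hz
    have m5 := fix_modEq (n := 1) (by norm_num : Nat.Prime 5) (y : G) O (hO y)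
      fun x _ => by rw [pow_one, ← hy', pow_orderOf_eq_one, one_smul]
    have m7 := fix_modEq (n := 1) (by norm_num : Nat.Prime 7) (z : G) O (hO z)
      fun x _ => by rw [pow_one, ← hz', pow_orderOf_eq_one, one_smul]
    have f5 := hfix y
    have f7 := hfix z
    rw [D.fix_five hy'] at f5
    rw [D.fix_seven hz'] at f7
    have hb : 0 < O.card :=
      card_pos.2 ⟨b, mem_filter.2 ⟨mem_univ _, 1, one_smul G a, one_smul G b⟩⟩
    have hle : O ⊆ univ.erase a := fun x hx => mem_erase.2 ⟨fun e => hna (e ▸ hx), mem_univ _⟩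
    have h21 := card_le_card hle
    rw [card_erase_of_mem (mem_univ a), D.card_univ22] at h21
    unfold Nat.ModEq at m5 m7
    have hcases : O.card = 7 ∨ O.card = 14 ∨ O.card = 21 := by omega
    have : O = univ.erase a := eq_of_subset_of_card_le hle (by
      rw [card_erase_of_mem (mem_univ a), D.card_univ22]; rcases hcases with e | e | e <;> omega)
    exact (mem_filter.1 (this ▸ mem_erase.2 ⟨hac.symm, mem_univ c⟩ : c ∈ O)).2
  intro a b c d hab hcd
  obtain ⟨g, hg⟩ := MulAction.exists_smul_eq G a c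
  obtain ⟨h, h1, h2⟩ := key c (g • b) d (fun e => hab (smul_left_cancel g (hg.trans e))) hcd
  exact ⟨h * g, by rw [mul_smul, hg, h1], by rw [mul_smul, h2]⟩

theorem sum_two : ∑ g : G, (fix (X := X) g).card.descFactorial 2 = 443520 := by
  rw [sum_desc D.two_trans (by rw [← Finset.card_univ, D.card_univ22]; norm_num), D.cardG]

theorem fix_mod_four {g : G} (hg : orderOf g = 2) : (fix (X := X) g).card % 4 = 2 := by
  have hne : ∃ a b : G, a * b ≠ b * a := by
    by_contra hcon
    push_neg at hcon
    haveI := D.facts.simple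
    letI : CommGroup G := { (inferInstance : Group G) with mul_comm := hcon }
    have hp : (Nat.card G).Prime := IsSimpleGroup.prime_card
    rw [D.facts.card] at hp
    norm_num at hp
  have hsign : Equiv.Perm.sign (MulAction.toPermHom G X g) = 1 := by
    haveI := D.facts.simple
    set φ := (Equiv.Perm.sign : Equiv.Perm X →* ℤˣ).comp (MulAction.toPermHom G X)
    rcases IsSimpleGroup.eq_bot_or_eq_top_of_normal φ.ker φ.normal_ker with h | h
    · obtain ⟨a, b, hab⟩ := hne
      exact absurd ((MonoidHom.ker_eq_bot_iff φ).1 h (by rw [map_mul, map_mul, mul_comm])) hab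
    · exact (MonoidHom.mem_ker (f := φ)).1 (h ▸ Subgroup.mem_top g)
  set σ := MulAction.toPermHom G X g
  have hinj : Function.Injective (MulAction.toPermHom G X) :=
    (injective_iff_map_eq_one _).2 fun k hk => D.faithful k fun x => Equiv.congr_fun hk x
  have hord : orderOf σ = 2 := (orderOf_injective _ hinj g).trans hg
  obtain ⟨n, hn⟩ := Equiv.Perm.cycleType_prime_order (σ := σ) (by rw [hord]; norm_num)
  rw [hord] at hn
  have hs := Equiv.Perm.sum_cycleType σ
  rw [hn, Multiset.sum_replicate, smul_eq_mul] at hs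
  rw [Equiv.Perm.sign_of_cycleType, hn, Multiset.sum_replicate, Multiset.card_replicate,
    smul_eq_mul] at hsign
  have hev : Even ((n + 1) * 2 + (n + 1)) := by
    rcases Nat.even_or_odd ((n + 1) * 2 + (n + 1)) with h | h
    · exact h
    · rw [h.neg_one_pow] at hsign; exact absurd hsign (by decide)
  have hsupp : σ.support.card + (fix (X := X) g).card = 22 := by
    have hc : fix (X := X) g = σ.supportᶜ := by
      ext x; simp [mem_fix, σ]
    rw [hc, card_add_card_compl, ← Nat.card_eq_fintype_card, D.card]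
  obtain ⟨j, hj⟩ := hev
  omega

theorem mem_R {g : G}
    (hg : g ∈ univ.filter (fun g : G => orderOf g ∈ ({2, 4, 6, 8} : Finset ℕ))) :
    orderOf g = 2 ∨ orderOf g = 4 ∨ orderOf g = 6 ∨ orderOf g = 8 := by
  simpa using hg

theorem fix_sq_six {g : G} (hg : orderOf g = 6) :
    (fix (X := X) g).card % 2 = 0 := by
  have h2 : orderOf (g ^ 2) = 3 := by rw [orderOf_pow, hg]; rfl
  have hsub : fix (X := X) g ⊆ fix (g ^ 2) := fun x hx => mem_fix.2 (by
    rw [pow_two, mul_smul, mem_fix.1 hx, mem_fix.1 hx])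
  have h := fix_modEq Nat.prime_two 1 g (fix (X := X) (g ^ 2))
    (fun x hx => mem_fix.2 (by rw [← mul_smul, pow_mul_comm', mul_smul, mem_fix.1 hx]))
    (fun x hx => by simpa using mem_fix.1 hx)
  have he : (fix (X := X) (g ^ 2)).filter (fun x => g • x = x) = fix g := by
    ext x; simp only [mem_filter, mem_fix]
    exact ⟨fun h => h.2, fun h => ⟨mem_fix.1 (hsub (mem_fix.2 h)), h⟩⟩
  rw [he, D.fix_three h2] at h
  unfold Nat.ModEq at h
  omega

theorem fix_even {g : G}
    (hg : g ∈ univ.filter (fun g : G => orderOf g ∈ ({2, 4, 6, 8} : Finset ℕ))) :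
    (fix (X := X) g).card % 2 = 0 := by
  rcases D.mem_R hg with e | e | e | e
  · have := D.fix_mod (n := 1) Nat.prime_two (by simpa using e)
    unfold Nat.ModEq at this; omega
  · have := D.fix_mod (n := 2) Nat.prime_two (by simpa using e)
    unfold Nat.ModEq at this; omega
  · exact D.fix_sq_six e
  · have := D.fix_mod (n := 3) Nat.prime_two (by simpa using e)
    unfold Nat.ModEq at this; omega

theorem sum_rest :
    ∑ g ∈ univ.filter (fun g : G => orderOf g ∈ ({2, 4, 6, 8} : Finset ℕ)),
      (fix (X := X) g).card * ((fix (X := X) g).card - 2) = 27720 := by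
  have h1 := D.facts.sum_split (fun g => (fix (X := X) g).card) (fun g => D.fix_three)
    (fun g => D.fix_five) (fun g => D.fix_seven) (fun g => D.fix_eleven)
  have h2 := D.facts.sum_split (fun g => (fix (X := X) g).card.descFactorial 2) (a := 12) (b := 2)
    (c := 0) (d := 0) (fun g h => by simp [D.fix_three h]) (fun g h => by simp [D.fix_five h])
    (fun g h => by simp [D.fix_seven h]) (fun g h => by simp [D.fix_eleven h])
  rw [D.sum_one, D.fix_one] at h1
  rw [D.sum_two, D.fix_one] at h2
  have hpt : ∀ g ∈ univ.filter (fun g : G => orderOf g ∈ ({2, 4, 6, 8} : Finset ℕ)),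
      (fix (X := X) g).card.descFactorial 2 =
        (fix (X := X) g).card * ((fix (X := X) g).card - 2) + (fix (X := X) g).card := by
    intro g hg
    have he := D.fix_even hg
    generalize (fix (X := X) g).card = f at he ⊢
    rcases f with _ | _ | k
    · rfl
    · omega
    · simp [Nat.descFactorial_succ]; ring
  rw [sum_congr rfl hpt, sum_add_distrib] at h2
  rw [show (22 : ℕ).descFactorial 2 = 462 by decide] at h2
  omega

theorem fix_two {g : G} (hg : orderOf g = 2) :
    (fix (X := X) g).card = 2 ∨ (fix (X := X) g).card = 6 := by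
  have h4 := D.fix_mod_four hg
  have hl := class_sum_le g (univ.filter fun g : G => orderOf g ∈ ({2, 4, 6, 8} : Finset ℕ))
    (fun h => mem_filter.2 ⟨mem_univ _, by rw [orderOf_conj', hg]; decide⟩)
    (fun y => (fix (X := X) y).card * ((fix (X := X) y).card - 2))
    fun h => by simp only [fix_conj]
  rw [D.sum_rest, D.cardG] at hl
  have hC := Nat.mul_le_mul_right 27720
    (Nat.le_of_dvd (by norm_num) (D.facts.cent_dvd_1152 hg (Or.inl rfl)))
  by_contra hne
  have h10 : 10 ≤ (fix (X := X) g).card := by omega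
  have := Nat.mul_le_mul h10 (show 8 ≤ (fix (X := X) g).card - 2 by omega)
  omega

theorem fix_le_six {g : G}
    (hg : g ∈ univ.filter (fun g : G => orderOf g ∈ ({2, 4, 6, 8} : Finset ℕ))) :
    (fix (X := X) g).card ≤ 6 := by
  have hpow : ∀ n, orderOf (g ^ n) = 2 → (fix (X := X) g).card ≤ 6 := fun n hn => by
    have hsub : fix (X := X) g ⊆ fix (g ^ n) := fun x hx => mem_fix.2 (by
      have hmem : g ∈ MulAction.stabilizer G x := mem_fix.1 hx
      exact pow_mem hmem n)
    refine le_trans (card_le_card hsub) ?_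
    rcases D.fix_two hn with e | e <;> omega
  rcases D.mem_R hg with e | e | e | e
  · exact hpow 1 (by simpa using e)
  · exact hpow 2 (by rw [orderOf_pow, e]; rfl)
  · exact hpow 3 (by rw [orderOf_pow, e]; rfl)
  · exact hpow 4 (by rw [orderOf_pow, e]; rfl)

theorem three_trans : MulAction.IsMultiplyPretransitive G X 3 := by
  apply trans_of_sum_le
  rw [D.facts.sum_split (fun g => (fix (X := X) g).card.descFactorial 3) (a := 24) (b := 0)
    (c := 0) (d := 0) (fun g h => by simp [D.fix_three h, Nat.descFactorial])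
    (fun g h => by simp [D.fix_five h]) (fun g h => by simp [D.fix_seven h])
    (fun g h => by simp [D.fix_eleven h]), D.fix_one, D.cardG]
  have hb : ∀ g ∈ univ.filter (fun g : G => orderOf g ∈ ({2, 4, 6, 8} : Finset ℕ)),
      (fix (X := X) g).card.descFactorial 3 ≤
        5 * ((fix (X := X) g).card * ((fix (X := X) g).card - 2)) := by
    intro g hg
    have h6 := D.fix_le_six hg
    generalize (fix (X := X) g).card = f at h6 ⊢
    interval_cases f <;> decide
  have h := sum_le_sum hb
  rw [← mul_sum, D.sum_rest] at h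
  rw [show (22 : ℕ).descFactorial 3 = 9240 by decide]
  omega

end Setting

end Cfsg.Agent.Lib.M22Nse57
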