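import Cfsg.Agent.Lib.M22Nse57.LocalSixtyFour

/-!
The local structure in a group with the counts of the Mathieu group of degree 22: a subgroup of
order sixteen with the properties of `Local`.
-/

set_option autoImplicit false
set_option linter.style.haveILetI false
set_option linter.unusedSectionVars false

namespace Cfsg.Agent.Lib.M22Nse57

open Subgroup

universe u

variable {G : Type u} [Group G] [Finite G]

namespace Two

variable {x t z w : G} {P A : Subgroup G} (T : Two x t z w P A) (F : Facts G)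
include T F

theorem A_eq : A = rCore x t := by
  refine Subgroup.eq_of_le_of_card_ge T.hAx ?_
  rcases F.card_rCore T.hx T.ht T.hc with h | h
  · rw [h, T.hA]
  · exact (T.not_sixtyFour F h).elim

theorem comm_A {a b : G} (ha : a ∈ A) (hb : b ∈ A) : a * b = b * a := by
  have ea : a⁻¹ = a := inv_eq_of_mul_eq_one_right (T.sq a ha)
  have eb : b⁻¹ = b := inv_eq_of_mul_eq_one_right (T.sq b hb)
  calc a * b = (a * b)⁻¹ := (inv_eq_of_mul_eq_one_right (T.sq _ (mul_mem ha hb))).symm
    _ = b * a := by rw [mul_inv_rev, ea, eb]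

theorem cent_le_A : centralizer (A : Set G) ≤ A := by
  set C := centralizer (A : Set G) with hC
  have hCt : C ≤ centralizer ({t} : Set G) := fun a ha =>
    mem_centralizer_singleton_iff.mpr (mem_centralizer_iff.mp ha t (T.hxA (T.mem_t F))).symm
  have h384 : Nat.card C ∣ 128 * 3 := by
    rw [show 128 * 3 = Nat.card (centralizer ({t} : Set G)) by rw [F.card_centralizer_two T.ht]]
    exact Subgroup.card_dvd_of_le hCt
  have h3 : ¬ 3 ∣ Nat.card C := by
    intro h
    haveI : Fact (Nat.Prime 3) := ⟨by norm_num⟩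
    obtain ⟨⟨u, hu⟩, huo⟩ := exists_prime_orderOf_dvd_card' 3 h
    rw [← Subgroup.orderOf_coe] at huo
    have hle : A ≤ inv4 u := fun a ha =>
      (F.mem_inv4 huo).mpr ⟨mem_centralizer_iff.mp hu a ha, T.sq a ha⟩
    have := Subgroup.card_le_of_le hle
    rw [T.hA, F.card_inv4 huo] at this
    omega
  have h128 : Nat.card C ∣ 128 :=
    ((Nat.prime_three.coprime_iff_not_dvd.mpr h3).symm).dvd_of_dvd_mul_right h384
  have hxC : ∀ a ∈ C, x * a * x⁻¹ ∈ C := fun a ha => mem_centralizer_iff.mpr fun b hb => by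
    have hb' : x⁻¹ * b * x ∈ A := by
      have := T.hPA x⁻¹ (inv_mem T.hxP) b hb
      rwa [inv_inv] at this
    have h := mem_centralizer_iff.mp ha _ hb'
    calc b * (x * a * x⁻¹) = x * (x⁻¹ * b * x * a) * x⁻¹ := by group
      _ = x * (a * (x⁻¹ * b * x)) * x⁻¹ := by rw [h]
      _ = x * a * x⁻¹ * b := by group
  exact (le_inf (F.le_core2 T.hx T.ht T.hc (isPGroup_of_card_dvd (n := 7) (by simpa using h128))
    hCt hxC) (centralizer_le T.hxA)).trans (T.A_eq F).ge

theorem centralizer_t_le : centralizer ({t} : Set G) ≤ normalizer (A : Set G) := by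
  set E := core2 t with hE
  set N := normalizer (A : Set G) with hN
  have hE64 : Nat.card E = 64 := F.card_core2 T.hx T.ht T.hc
  have hEN : E ≤ N := F.le_normalizer_sixteen T.hx hE64
    (fun _ ha => F.normalizes_core2 T.hc.symm.eq ha) T.hA (T.hPA x T.hxP)
    (T.hAx.trans inf_le_left) T.hxA
  have hxN : x ∈ N := mem_normalizer_of_conj_le (T.hPA x T.hxP)
  obtain ⟨S, hS, hS128, hES⟩ := F.exists_above T.ht
    (isPGroup_of_card_dvd (n := 6) (H := E) (by rw [hE64]; norm_num)) (F.core2_le T.ht)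
  obtain ⟨s, hs, hsx⟩ := F.exists_inverter T.hx T.ht T.hc hS hS128
  have hst : s * t * s⁻¹ = t := by
    rw [mem_centralizer_singleton_iff.mp (hS hs)]; group
  have hinv : inv4 x⁻¹ = inv4 x := by
    have hx' : orderOf x⁻¹ = 3 := by rw [orderOf_inv, T.hx]
    ext a
    rw [F.mem_inv4 T.hx, F.mem_inv4 hx']
    exact ⟨fun h => ⟨by simpa using (show Commute a x⁻¹ from h.1).inv_right.eq, h.2⟩,
      fun h => ⟨(show Commute a x from h.1).inv_right.eq, h.2⟩⟩
  have hsN : s ∈ N := mem_normalizer_of_conj_le fun a ha => by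
    rw [T.A_eq F] at ha ⊢
    have h := F.conj_rCore T.hx s ha
    rw [hsx, hst] at h
    unfold rCore at h ⊢
    rwa [hinv] at h
  have hsE : s ∉ E := by
    intro hsE
    have hm : x * s⁻¹ * x⁻¹ ∈ E := F.normalizes_core2 T.hc.symm.eq (inv_mem hsE)
    have h := mul_mem hsE hm
    rw [show s * (x * s⁻¹ * x⁻¹) = s * x * s⁻¹ * x⁻¹ by group, hsx] at h
    have e : x⁻¹ * x⁻¹ = x := by
      have := pow_orderOf_eq_one x
      rw [T.hx] at this
      calc x⁻¹ * x⁻¹ = x⁻¹ * x⁻¹ * x ^ 3 := by rw [this, mul_one]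
        _ = x := by simp [pow_succ, mul_assoc]
    rw [e] at h
    have := Subgroup.orderOf_dvd_natCard _ h
    rw [T.hx, hE64] at this
    norm_num at this
  set D := N ⊓ centralizer ({t} : Set G) with hD
  have hSD : S ≤ D := by
    have h1 : Nat.card (D ⊓ S : Subgroup G) ∣ 128 := hS128 ▸ Subgroup.card_dvd_of_le inf_le_right
    have hEDS : E ≤ D ⊓ S := le_inf (le_inf hEN (F.core2_le T.ht)) hES
    have hne : Nat.card (D ⊓ S : Subgroup G) ≠ 64 := fun h => hsE (by
      rw [Subgroup.eq_of_le_of_card_ge hEDS (by rw [h, hE64])]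
      exact mem_inf.mpr ⟨mem_inf.mpr ⟨hsN, hS hs⟩, hs⟩)
    have h64 : 64 ≤ Nat.card (D ⊓ S : Subgroup G) := hE64 ▸ Subgroup.card_le_of_le hEDS
    have h2 : Nat.card (D ⊓ S : Subgroup G) = 128 :=
      (show ∀ d ∈ Nat.divisors 128, 64 ≤ d → d ≠ 64 → d = 128 by decide +kernel) _
        (Nat.mem_divisors.mpr ⟨h1, by norm_num⟩) h64 hne
    have e : D ⊓ S = S := Subgroup.eq_of_le_of_card_ge inf_le_right (by rw [h2, hS128])
    exact e.ge.trans inf_le_left
  have h3 : 3 ∣ Nat.card D := by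
    rw [← T.hx]
    exact Subgroup.orderOf_dvd_natCard D
      (mem_inf.mpr ⟨hxN, mem_centralizer_singleton_iff.mpr T.hc.symm.eq⟩)
  have h128 : 128 ∣ Nat.card D := hS128 ▸ Subgroup.card_dvd_of_le hSD
  have h384 : 384 ∣ Nat.card D := (show Nat.Coprime 3 128 by norm_num).mul_dvd_of_dvd_of_dvd h3 h128
  have e : D = centralizer ({t} : Set G) := Subgroup.eq_of_le_of_card_ge inf_le_right
    (by rw [F.card_centralizer_two T.ht]; exact Nat.le_of_dvd Nat.card_pos h384)
  exact e.ge.trans inf_le_left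

theorem orb_eq : orb (normalizer (A : Set G)) t = (A : Set G) \ {1} ∧
    Nat.card (normalizer (A : Set G)) = 5760 := by
  classical
  cases nonempty_fintype G
  set N := normalizer (A : Set G) with hN
  have hCN := T.centralizer_t_le F
  have hsub : orb N t ⊆ (A : Set G) \ {1} := by
    rintro _ ⟨n, hn, rfl⟩
    exact ⟨(mem_normalizer_iff.mp hn t).mp (T.hxA (T.mem_t F)),
      fun h => T.ne_one_t F (conj_eq_one_iff.mp h)⟩
  have hVorb : (inv4 x : Set G) \ {1} ⊆ orb N t := fun v hv => by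
    obtain ⟨p, hp, e⟩ := T.inv4_subset_orb F hv
    exact ⟨p, T.P_le F hp, e⟩
  have hWorb : (inv4 z : Set G) \ {1} ⊆ orb N t := by
    rintro u ⟨hu, hu1⟩
    have hu2 := F.orderOf_inv4 T.hz hu hu1
    have hcu : Commute u z := ((F.mem_inv4 T.hz).mp hu).1
    obtain ⟨g, hgx, hgt⟩ := F.pair_conj T.hx T.hz T.ht hu2 T.hc hcu
    have he : A = rCore z u := by
      rw [← F.rCore_indep T.hz T.hw hu2 T.hcw hcu]
      refine Subgroup.eq_of_le_of_card_ge T.hAz ?_
      rw [F.card_rCore_eq T.hz T.hx T.hw T.ht T.hcw T.hc, ← T.A_eq F]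
    refine ⟨g, mem_normalizer_of_conj_le fun a ha => ?_, hgt⟩
    have h := F.conj_rCore T.hx g (show a ∈ rCore x t from T.A_eq F ▸ ha)
    rw [hgx, hgt, ← he] at h
    exact h
  have hk := ncard_orb_mul N t
  rw [inf_eq_right.mpr hCN, F.card_centralizer_two T.ht] at hk
  have h6 : 6 ≤ (orb N t).ncard := by
    have hcard : ∀ y : G, orderOf y = 3 → ((inv4 y : Set G) \ {1}).ncard = 3 := fun y hy => by
      rw [Set.ncard_sdiff_singleton_of_mem (inv4 y).one_mem, ← Nat.card_coe_set_eq,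
        show Nat.card (inv4 y : Set G) = 4 from F.card_inv4 hy]
    have h := Set.ncard_le_ncard (Set.union_subset hVorb hWorb)
    rw [Set.ncard_union_eq (Set.disjoint_left.mpr fun a ha hb => ha.2 (T.disj a hb.1 ha.1)),
      hcard x T.hx, hcard z T.hz] at h
    exact h
  have h15' : ((A : Set G) \ {1}).ncard = 15 := by
    rw [Set.ncard_sdiff_singleton_of_mem A.one_mem, ← Nat.card_coe_set_eq,
      show Nat.card (A : Set G) = 16 from T.hA]
  have h15 : (orb N t).ncard ≤ 15 := h15' ▸ Set.ncard_le_ncard hsub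
  have hdvd : (orb N t).ncard ∣ 1155 := Nat.dvd_of_mul_dvd_mul_right (k := 384) (by norm_num)
    ((hk.dvd.trans (F.mul_card N)).trans (by norm_num))
  have h9 : 9 ∣ (orb N t).ncard * 384 := by
    rw [hk, ← T.hP]; exact Subgroup.card_dvd_of_le (T.P_le F)
  have he : (orb N t).ncard = 15 :=
    (show ∀ d ∈ Nat.divisors 1155, 6 ≤ d → d ≤ 15 → 9 ∣ d * 384 → d = 15 by decide +kernel) _
      (Nat.mem_divisors.mpr ⟨hdvd, by norm_num⟩) h6 h15 h9
  exact ⟨Set.eq_of_subset_of_ncard_le hsub (by rw [he, h15']), by rw [← hk, he]⟩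

theorem local_A : Local A := by
  obtain ⟨horb, hcardN⟩ := T.orb_eq F
  set N := normalizer (A : Set G) with hN
  have hCN := T.centralizer_t_le F
  have hget : ∀ a ∈ A, a ≠ 1 → ∃ n ∈ N, n * t * n⁻¹ = a := fun a ha ha1 => by
    have h : a ∈ orb N t := by rw [horb]; exact ⟨ha, ha1⟩
    exact h
  refine ⟨T.hA, T.sq, T.cent_le_A F, hcardN, ?_, ?_, ?_, ?_⟩
  · intro a ha ha1 g hg
    obtain ⟨n, hn, hnt⟩ := hget a ha ha1
    have hga : g * a = a * g := mem_centralizer_singleton_iff.mp hg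
    have hm : n⁻¹ * g * n ∈ centralizer ({t} : Set G) := by
      refine mem_centralizer_singleton_iff.mpr ?_
      calc n⁻¹ * g * n * t = n⁻¹ * (g * (n * t * n⁻¹)) * n := by group
        _ = n⁻¹ * (n * t * n⁻¹ * g) * n := by rw [hnt, hga]
        _ = t * (n⁻¹ * g * n) := by group
    rw [show g = n * (n⁻¹ * g * n) * n⁻¹ by group]
    exact mul_mem (mul_mem hn (hCN hm)) (inv_mem hn)
  · intro a ha b hb ha1 hb1
    obtain ⟨n, hn, hnt⟩ := hget a ha ha1
    obtain ⟨m, hm, hmt⟩ := hget b hb hb1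
    refine ⟨m * n⁻¹, mul_mem hm (inv_mem hn), ?_⟩
    rw [← hnt, ← hmt]
    group
  · intro g a ha hga ha1
    obtain ⟨n, hn, hnt⟩ := hget a ha ha1
    obtain ⟨m, hm, hmt⟩ := hget _ hga (fun h => ha1 (conj_eq_one_iff.mp h))
    have hmem : m⁻¹ * g * n ∈ centralizer ({t} : Set G) := by
      refine mem_centralizer_singleton_iff.mpr ?_
      calc m⁻¹ * g * n * t = m⁻¹ * (g * (n * t * n⁻¹) * g⁻¹) * (g * n) := by group
        _ = m⁻¹ * (m * t * m⁻¹) * (g * n) := by rw [hnt, hmt]
        _ = t * (m⁻¹ * g * n) := by group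
    rw [show g = m * (m⁻¹ * g * n) * n⁻¹ by group]
    exact mul_mem (mul_mem hm (hCN hmem)) (inv_mem hn)
  · intro y hy
    obtain ⟨g, hg⟩ := isConj_iff.mp (F.isConj_two hy T.ht)
    exact ⟨g, hg ▸ T.hxA (T.mem_t F)⟩

end Two

/-- A group with the counts of the Mathieu group of degree 22 has a subgroup as in `Local`. -/
theorem exists_local {G : Type u} [Group G] [Finite G] (F : Facts G) :
    ∃ A : Subgroup G, Local A := by
  obtain ⟨x, t, z, w, P, A, T⟩ := F.exists_two
  exact ⟨A, T.local_A F⟩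

end Cfsg.Agent.Lib.M22Nse57
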