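import Cfsg.Agent.Lib.M22Nse57.Facts
import Cfsg.Agent.Lib.SmallGroups.Basic
import Cfsg.Agent.Lib.SmallGroups.Conj

/-!
Centralisers of the elements of order three and two in a group with the counts of the Mathieu group
of degree 22: orders 36 and 384, one class each.
-/

set_option autoImplicit false
set_option linter.style.haveILetI false
set_option linter.unusedSectionVars false

namespace Cfsg.Agent.Lib.M22Nse57

open Subgroup

universe u

variable {G : Type u} [Group G]

/-- A subgroup acting freely by conjugation on an invariant set has order dividing its size. -/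
theorem dvd_ncard_of_free [Finite G] (P : Subgroup G) (S : Set G)
    (hinv : ∀ z ∈ P, ∀ s ∈ S, z * s * z⁻¹ ∈ S)
    (hfree : ∀ z ∈ P, z ≠ 1 → ∀ s ∈ S, z * s ≠ s * z) : Nat.card P ∣ S.ncard := by
  classical
  let act : MulAction P S :=
    { smul := fun z s => ⟨(z : G) * s.1 * (z : G)⁻¹, hinv _ z.2 _ s.2⟩
      one_smul := fun s => Subtype.ext (show (1 : G) * s.1 * (1 : G)⁻¹ = s.1 by group)
      mul_smul := fun a b s => Subtype.ext (show (a * b : G) * s.1 * ((a : G) * b)⁻¹ =
        (a : G) * ((b : G) * s.1 * (b : G)⁻¹) * (a : G)⁻¹ by group) }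
  letI := act
  have hst : ∀ s : S, MulAction.stabilizer P s = ⊥ := fun s => by
    refine (Subgroup.eq_bot_iff_forall _).mpr fun z hz => Subtype.ext ?_
    by_contra hne
    exact hfree _ z.2 hne _ s.2 (mul_inv_eq_iff_eq_mul.mp (congrArg Subtype.val hz))
  have e := Nat.card_congr (MulAction.selfEquivOrbitsQuotientProd hst)
  rw [Nat.card_prod, Nat.card_coe_set_eq] at e
  exact Dvd.intro_left _ e.symm

variable [Finite G]

/-- The subgroup generated by the involutions centralising an element. -/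
def inv4 (x : G) : Subgroup G := Subgroup.closure {g : G | g * x = x * g ∧ g * g = 1}

namespace Facts

variable (F : Facts G)
include F

theorem mul_card (H : Subgroup G) : Nat.card H ∣ 443520 := F.card ▸ Subgroup.card_subgroup_dvd_card H

/-- An element of order three. -/
theorem exists_three : ∃ x : G, orderOf x = 3 := by
  have h : 0 < Nat.card {g : G // orderOf g = 3} := by rw [F.c3]; norm_num
  obtain ⟨⟨x, hx⟩⟩ := (Nat.card_pos_iff.mp h).1
  exact ⟨x, hx⟩

/-- The order of an element of order prime to three that centralises an element of order three. -/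
theorem coprime_three {x y : G} (hx : orderOf x = 3) (h : Commute x y) (hy : ¬ 3 ∣ orderOf y) :
    orderOf y = 1 ∨ orderOf y = 2 := by
  have hc : (orderOf x).Coprime (orderOf y) := by
    rw [hx]; exact Nat.prime_three.coprime_iff_not_dvd.mpr hy
  have ho := F.ord_mem (x * y)
  rw [h.orderOf_mul_eq_mul_orderOf_of_coprime hc, hx] at ho
  simp only [Finset.mem_insert, Finset.mem_singleton] at ho
  omega

theorem sq_of_two_group {x : G} (hx : orderOf x = 3) {T : Subgroup G} (hT : IsPGroup 2 T)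
    (hc : ∀ a ∈ T, a * x = x * a) {a : G} (ha : a ∈ T) : a * a = 1 := by
  obtain ⟨k, hk⟩ := hT ⟨a, ha⟩
  have hk' : a ^ (2 ^ k) = 1 := by simpa using congrArg Subtype.val hk
  have h3 : ¬ 3 ∣ orderOf a := fun h => by
    have := Nat.prime_three.dvd_of_dvd_pow (h.trans (orderOf_dvd_of_pow_eq_one hk'))
    norm_num at this
  rw [← pow_two, ← orderOf_dvd_iff_pow_eq_one]
  rcases F.coprime_three hx (hc a ha).symm h3 with h | h <;> simp [h]

/-- The centraliser of an element of order three has order 9 times a power of two. -/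
theorem card_centralizer_three_dvd {x : G} (hx : orderOf x = 3) :
    Nat.card (centralizer ({x} : Set G)) ∣ 1152 := by
  have h1 : Nat.card (centralizer ({x} : Set G)) ∣ 1152 * 385 := (F.mul_card _).trans (by norm_num)
  refine Nat.Coprime.dvd_of_dvd_mul_right ?_ h1
  have key : ∀ p : ℕ, p = 5 ∨ p = 7 ∨ p = 11 →
      Nat.Coprime (Nat.card (centralizer ({x} : Set G))) p := by
    intro p hp
    haveI hf : Fact p.Prime := ⟨by rcases hp with rfl | rfl | rfl <;> norm_num⟩
    refine Nat.Coprime.symm (hf.out.coprime_iff_not_dvd.mpr fun hd => ?_)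
    obtain ⟨⟨y, hy⟩, hyo⟩ := exists_prime_orderOf_dvd_card' p hd
    rw [← Subgroup.orderOf_coe] at hyo
    have := F.coprime_three hx (mem_centralizer_singleton_iff.mp hy).symm
      (by rw [hyo]; rcases hp with rfl | rfl | rfl <;> norm_num)
    rw [hyo] at this
    rcases hp with rfl | rfl | rfl <;> omega
  rw [show 385 = 5 * 7 * 11 by norm_num]
  exact ((key 5 (by omega)).mul_right (key 7 (by omega))).mul_right (key 11 (by omega))

/-- A Sylow 3-subgroup through a given element of order three. -/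
theorem exists_nine {x : G} (hx : orderOf x = 3) :
    ∃ P : Subgroup G, Nat.card P = 9 ∧ x ∈ P ∧ (∀ a ∈ P, ∀ b ∈ P, a * b = b * a) ∧
      ∀ a ∈ P, a ≠ 1 → orderOf a = 3 := by
  haveI : Fact (Nat.Prime 3) := ⟨by norm_num⟩
  have hp : IsPGroup 3 (zpowers x) := IsPGroup.of_card (n := 1) (by rw [Nat.card_zpowers, hx, pow_one])
  obtain ⟨S, hS⟩ := hp.exists_le_sylow
  have hc : Nat.card (S : Subgroup G) = 3 ^ 2 :=
    SmallGroups.card_sylow_eq S (m := 49280) (by rw [F.card]; norm_num) (by norm_num)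
  refine ⟨S, by rw [hc]; norm_num, hS (mem_zpowers x), fun a ha b hb => ?_, fun a ha hne => ?_⟩
  · haveI := IsPGroup.isMulCommutative_of_card_eq_prime_sq hc
    exact congrArg Subtype.val (mul_comm' (⟨a, ha⟩ : (S : Subgroup G)) ⟨b, hb⟩)
  · have hd : orderOf a ∣ 3 ^ 2 := by
      rw [← hc]; exact Subgroup.orderOf_dvd_natCard _ ha
    obtain ⟨k, hk, hka⟩ := (Nat.dvd_prime_pow Nat.prime_three).mp hd
    have h1 : orderOf a ≠ 1 := fun h => hne (orderOf_eq_one_iff.mp h)
    have hm := F.ord_mem a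
    interval_cases k <;> simp_all

/-- The involutions centralising an element of order three. -/
abbrev InvOf (x : G) := {t : G // orderOf t = 2 ∧ t * x = x * t}

theorem three_le_inv {x : G} (hx : orderOf x = 3) :
    36 ≤ Nat.card (centralizer ({x} : Set G)) ∧
      ∃ T : Subgroup G, (∀ a ∈ T, a * x = x * a ∧ a * a = 1) ∧
        Nat.card (centralizer ({x} : Set G)) = 9 * Nat.card T := by
  haveI : Fact (Nat.Prime 2) := ⟨by norm_num⟩
  have hdvd := F.card_centralizer_three_dvd hx
  have hmul := SmallGroups.card_isConj_mul_card_centralizer x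
  have hle : Nat.card {g : G // IsConj x g} ≤ 12320 := by
    rw [← F.c3]
    exact Nat.card_le_card_of_injective (fun g => ⟨g.1, by
      obtain ⟨c, hc⟩ := isConj_iff.mp g.2
      rw [← hc, ← MulAut.conj_apply, MulEquiv.orderOf_eq, hx]⟩)
      (fun a b h => Subtype.ext (by simpa using h))
  have h36 : 36 ≤ Nat.card (centralizer ({x} : Set G)) := by
    rw [F.card] at hmul
    by_contra hlt
    have := Nat.mul_le_mul hle (Nat.le_of_lt_succ (not_le.mp hlt) : _ ≤ 35)
    omega
  refine ⟨h36, ?_⟩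
  obtain ⟨P, hP, hxP, hPc, -⟩ := F.exists_nine hx
  have h9 : 9 ∣ Nat.card (centralizer ({x} : Set G)) := hP ▸ Subgroup.card_dvd_of_le fun a ha =>
    mem_centralizer_singleton_iff.mpr (hPc a ha x hxP)
  obtain ⟨m, hm⟩ := h9
  have hm128 : m ∣ 2 ^ 7 := Nat.dvd_of_mul_dvd_mul_left (k := 9) (by norm_num) (hm ▸ hdvd)
  obtain ⟨T, -⟩ : ∃ T : Sylow 2 (centralizer ({x} : Set G)), True := ⟨default, trivial⟩
  obtain ⟨j, hj, hjm⟩ := (Nat.dvd_prime_pow Nat.prime_two).mp hm128
  have hT : Nat.card (T : Subgroup (centralizer ({x} : Set G))) = 2 ^ j :=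
    SmallGroups.card_sylow_eq T (m := 9) (by rw [hm, hjm]; ring) (by norm_num)
  refine ⟨(T : Subgroup (centralizer ({x} : Set G))).map (centralizer ({x} : Set G)).subtype,
    ?_, ?_⟩
  · intro a ha
    have hc : ∀ b ∈ (T : Subgroup _).map (centralizer ({x} : Set G)).subtype, b * x = x * b := by
      rintro b ⟨b', -, rfl⟩
      exact mem_centralizer_singleton_iff.mp b'.2
    exact ⟨hc a ha, F.sq_of_two_group hx (T.isPGroup'.map _) hc ha⟩
  · rw [Subgroup.card_map_of_injective (Subgroup.subtype_injective _), hT, hm, hjm]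

theorem inv_le_count {x : G} (T : Subgroup G) (hT : ∀ a ∈ T, a * x = x * a ∧ a * a = 1) :
    Nat.card T ≤ Nat.card (InvOf x) + 1 := by
  classical
  cases nonempty_fintype G
  have h : Nat.card {a : T // a ≠ 1} ≤ Nat.card (InvOf x) :=
    Nat.card_le_card_of_injective
      (fun a => ⟨(a.1 : G), orderOf_eq_prime (by rw [pow_two]; exact (hT _ a.1.2).2)
        (fun e => a.2 (Subtype.ext e)), (hT _ a.1.2).1⟩)
      (fun a b h => Subtype.ext (Subtype.ext (Subtype.mk.inj h)))
  have h2 : Nat.card T = Nat.card {a : T // a ≠ 1} + 1 := by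
    simp only [Nat.card_eq_fintype_card, Fintype.card_subtype_compl, Fintype.card_subtype_eq]
    have : 0 < Fintype.card T := Fintype.card_pos
    omega
  omega

/-- The elements of order six are the pairs of an element of order three and a commuting
involution. -/
theorem card_pairs : Nat.card (Σ x : {x : G // orderOf x = 3}, InvOf x.1) = 36960 := by
  rw [← F.c6]
  refine Nat.card_congr
    { toFun := fun p => ⟨p.1.1 * p.2.1, by
        rw [(show Commute p.1.1 p.2.1 from p.2.2.2.symm).orderOf_mul_eq_mul_orderOf_of_coprime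
          (by rw [p.1.2, p.2.2.1]; norm_num), p.1.2, p.2.2.1]⟩
      invFun := fun g => ⟨⟨g.1 ^ 4, by rw [orderOf_pow, g.2]; norm_num⟩, ⟨g.1 ^ 3, by
        rw [orderOf_pow, g.2]; norm_num, ((Commute.refl g.1).pow_pow 3 4).eq⟩⟩
      left_inv := ?_
      right_inv := ?_ }
  · rintro ⟨⟨x, hx⟩, ⟨t, ht, hc⟩⟩
    have hcm : Commute x t := hc.symm
    have h2 : t ^ 2 = 1 := orderOf_dvd_iff_pow_eq_one.mp (dvd_of_eq ht)
    have h3 : x ^ 3 = 1 := orderOf_dvd_iff_pow_eq_one.mp (dvd_of_eq hx)
    have e4 : (x * t) ^ 4 = x := by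
      rw [hcm.mul_pow, show 4 = 3 + 1 by rfl, pow_succ x, h3, one_mul,
        show 3 + 1 = 2 * 2 by rfl, pow_mul t, h2, one_pow, mul_one]
    have e3 : (x * t) ^ 3 = t := by
      rw [hcm.mul_pow, h3, one_mul, show 3 = 2 + 1 by rfl, pow_succ, h2, one_mul]
    simp only [Sigma.mk.injEq, Subtype.mk.injEq]
    refine ⟨e4, ?_⟩
    exact (Subtype.heq_iff_coe_eq fun s => by simp only [e4]).mpr e3
  · intro g
    apply Subtype.ext
    show g.1 ^ 4 * g.1 ^ 3 = g.1
    rw [← pow_add, show 4 + 3 = 1 + 6 by rfl, pow_add,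
      orderOf_dvd_iff_pow_eq_one.mp (dvd_of_eq g.2), pow_one, mul_one]

theorem card_invOf {x : G} (hx : orderOf x = 3) : Nat.card (InvOf x) = 3 := by
  classical
  cases nonempty_fintype G
  have h := F.card_pairs
  rw [Nat.card_sigma] at h
  have hge : ∀ y ∈ (Finset.univ : Finset {x : G // orderOf x = 3}),
      3 ≤ Nat.card (InvOf y.1) := by
    intro y _
    obtain ⟨h36, T, hT, hc⟩ := F.three_le_inv y.2
    have := inv_le_count F T hT
    omega
  have hs : ∑ _y : {x : G // orderOf x = 3}, 3 = 36960 := by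
    rw [Finset.sum_const, Finset.card_univ, smul_eq_mul, ← Nat.card_eq_fintype_card, F.c3]
  exact ((Finset.sum_eq_sum_iff_of_le hge).mp (hs.trans h.symm) ⟨x, hx⟩ (Finset.mem_univ _)).symm

theorem card_centralizer_three {x : G} (hx : orderOf x = 3) :
    Nat.card (centralizer ({x} : Set G)) = 36 := by
  obtain ⟨h36, T, hT, hc⟩ := F.three_le_inv hx
  have := inv_le_count F T hT
  have := F.card_invOf hx
  omega

/-- One class of elements of order three. -/
theorem isConj_three {x y : G} (hx : orderOf x = 3) (hy : orderOf y = 3) : IsConj x y := by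
  have hmul := SmallGroups.card_isConj_mul_card_centralizer x
  rw [F.card, F.card_centralizer_three hx] at hmul
  have hcard : Nat.card {g : G // orderOf g = 3} ≤ Nat.card {g : G // IsConj x g} := by
    rw [F.c3]; omega
  have hbij := Function.Injective.bijective_of_nat_card_le
    (f := fun g : {g : G // IsConj x g} => (⟨g.1, by
      obtain ⟨c, hc⟩ := isConj_iff.mp g.2
      rw [← hc, ← MulAut.conj_apply, MulEquiv.orderOf_eq, hx]⟩ : {g : G // orderOf g = 3}))
    (fun a b h => Subtype.ext (by simpa using h)) hcard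
  obtain ⟨g, hg⟩ := hbij.surjective ⟨y, hy⟩
  have e : g.1 = y := congrArg Subtype.val hg
  exact e ▸ g.2

theorem inv4_aux {x : G} (hx : orderOf x = 3) :
    ∃ T : Subgroup G, Nat.card T = 4 ∧ ∀ a : G, a ∈ T ↔ a * x = x * a ∧ a * a = 1 := by
  classical
  cases nonempty_fintype G
  obtain ⟨-, T, hT, hc⟩ := F.three_le_inv hx
  have h4 : Nat.card T = 4 := by
    have := F.card_centralizer_three hx
    omega
  refine ⟨T, h4, fun a => ⟨hT a, fun ha => ?_⟩⟩
  by_contra hne
  have hne1 : a ≠ 1 := fun h => hne (h ▸ T.one_mem)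
  have hsub : insert a ((T : Set G) \ {1}) ⊆ {t : G | orderOf t = 2 ∧ t * x = x * t} := by
    rintro b (rfl | ⟨hb, hb1⟩)
    · exact ⟨orderOf_eq_prime (by rw [pow_two]; exact ha.2) hne1, ha.1⟩
    · exact ⟨orderOf_eq_prime (by rw [pow_two]; exact (hT b hb).2) hb1, (hT b hb).1⟩
  have h1 := Set.ncard_le_ncard hsub
  have hinv : ({t : G | orderOf t = 2 ∧ t * x = x * t}).ncard = 3 := by
    rw [← Nat.card_coe_set_eq]; exact F.card_invOf hx
  rw [Set.ncard_insert_of_notMem (fun h => hne h.1),
    Set.ncard_sdiff_singleton_of_mem T.one_mem, hinv] at h1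
  have : (T : Set G).ncard = 4 := by rw [← Nat.card_coe_set_eq]; exact h4
  omega

theorem mem_inv4 {x : G} (hx : orderOf x = 3) {a : G} :
    a ∈ inv4 x ↔ a * x = x * a ∧ a * a = 1 := by
  obtain ⟨T, -, hT⟩ := F.inv4_aux hx
  have : inv4 x = T := by
    rw [inv4, show {g : G | g * x = x * g ∧ g * g = 1} = (T : Set G) from
      Set.ext fun g => (hT g).symm, Subgroup.closure_eq]
  rw [this, hT]

theorem card_inv4 {x : G} (hx : orderOf x = 3) : Nat.card (inv4 x) = 4 := by
  obtain ⟨T, h4, hT⟩ := F.inv4_aux hx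
  have : inv4 x = T := Subgroup.ext fun a => (F.mem_inv4 hx).trans (hT a).symm
  rw [this, h4]

theorem mem_inv4_of {x t : G} (hx : orderOf x = 3) (ht : orderOf t = 2) (hc : Commute t x) :
    t ∈ inv4 x :=
  (F.mem_inv4 hx).mpr ⟨hc.eq, by rw [← pow_two]; exact orderOf_dvd_iff_pow_eq_one.mp (dvd_of_eq ht)⟩

theorem comm_inv4 {x a b : G} (hx : orderOf x = 3) (ha : a ∈ inv4 x) (hb : b ∈ inv4 x) :
    a * b = b * a := by
  have h := ((F.mem_inv4 hx).mp ((inv4 x).mul_mem ha hb)).2
  have ea : a⁻¹ = a := inv_eq_of_mul_eq_one_right ((F.mem_inv4 hx).mp ha).2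
  have eb : b⁻¹ = b := inv_eq_of_mul_eq_one_right ((F.mem_inv4 hx).mp hb).2
  calc a * b = (a * b)⁻¹ := (inv_eq_of_mul_eq_one_right h).symm
    _ = b⁻¹ * a⁻¹ := mul_inv_rev a b
    _ = b * a := by rw [ea, eb]

theorem orderOf_inv4 {x a : G} (hx : orderOf x = 3) (ha : a ∈ inv4 x) (h1 : a ≠ 1) :
    orderOf a = 2 :=
  orderOf_eq_prime (by rw [pow_two]; exact ((F.mem_inv4 hx).mp ha).2) h1

end Facts

end Cfsg.Agent.Lib.M22Nse57
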