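import Cfsg.Agent.Lib.M22Nse57.LocalInv

/-!
The largest normal 2-subgroup of an involution centraliser (order 64), its part centralising the
four group of an element of order three, and four groups inside invariant 2-subgroups.
-/

set_option autoImplicit false
set_option linter.style.haveILetI false
set_option linter.unusedSectionVars false

namespace Cfsg.Agent.Lib.M22Nse57

open Subgroup
open scoped Pointwise

universe u

variable {G : Type u} [Group G] [Finite G]

/-- The intersection of the 2-subgroups of order 128 of an involution centraliser. -/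
def core2 (t : G) : Subgroup G :=
  ⨅ (S : Subgroup G) (_ : S ≤ centralizer ({t} : Set G) ∧ Nat.card S = 128), S

theorem mem_core2 {t a : G} :
    a ∈ core2 t ↔ ∀ S : Subgroup G, S ≤ centralizer ({t} : Set G) → Nat.card S = 128 → a ∈ S := by
  simp [core2, Subgroup.mem_iInf]

/-- The part of `core2 t` centralising the four group of `x`. -/
def rCore (x t : G) : Subgroup G := core2 t ⊓ centralizer (inv4 x : Set G)

/-- The product of two commuting subgroups. -/
def prodSub (H K : Subgroup G) (hc : ∀ a ∈ H, ∀ b ∈ K, a * b = b * a) : Subgroup G where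
  carrier := {g | ∃ a ∈ H, ∃ b ∈ K, a * b = g}
  one_mem' := ⟨1, H.one_mem, 1, K.one_mem, one_mul 1⟩
  mul_mem' := by
    rintro _ _ ⟨a, ha, b, hb, rfl⟩ ⟨c, hc', d, hd, rfl⟩
    refine ⟨a * c, H.mul_mem ha hc', b * d, K.mul_mem hb hd, ?_⟩
    rw [show a * b * (c * d) = a * (b * c) * d by group, ← hc c hc' b hb]
    group
  inv_mem' := by
    rintro _ ⟨a, ha, b, hb, rfl⟩
    refine ⟨a⁻¹, H.inv_mem ha, b⁻¹, K.inv_mem hb, ?_⟩
    rw [mul_inv_rev]
    exact hc _ (H.inv_mem ha) _ (K.inv_mem hb)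

theorem mem_normalizer_of_conj_le {H : Subgroup G} {g : G} (h : ∀ a ∈ H, g * a * g⁻¹ ∈ H) :
    g ∈ normalizer (H : Set G) := by
  have hle : H.map (MulAut.conj g).toMonoidHom ≤ H := by
    rintro _ ⟨a, ha, rfl⟩; exact h a ha
  have heq := Subgroup.eq_of_le_of_card_ge hle
    (by rw [Subgroup.card_map_of_injective (MulAut.conj g).injective])
  refine mem_normalizer_iff.mpr fun a => ⟨h a, fun ha => ?_⟩
  rw [← heq] at ha
  obtain ⟨p, hp, e⟩ := ha
  simp only [MulEquiv.coe_toMonoidHom, MulAut.conj_apply] at e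
  exact (mul_left_cancel (mul_right_cancel e)) ▸ hp

theorem zpowers_le_normalizer {H : Subgroup G} {g : G} (h : ∀ a ∈ H, g * a * g⁻¹ ∈ H) :
    ∀ z ∈ zpowers g, ∀ a ∈ H, z * a * z⁻¹ ∈ H := fun _ hz a ha =>
  (mem_normalizer_iff.mp (zpowers_le.mpr (mem_normalizer_of_conj_le h) hz) a).mp ha

theorem isPGroup_of_card_dvd {H : Subgroup G} {n : ℕ} (h : Nat.card H ∣ 2 ^ n) :
    IsPGroup 2 H := by
  obtain ⟨k, -, hk⟩ := (Nat.dvd_prime_pow Nat.prime_two).mp h
  exact IsPGroup.of_card hk

namespace Facts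

variable (F : Facts G)
include F

theorem exists_above {t : G} (ht : orderOf t = 2) {Q : Subgroup G} (hQ : IsPGroup 2 Q)
    (hQt : Q ≤ centralizer ({t} : Set G)) :
    ∃ S : Subgroup G, S ≤ centralizer ({t} : Set G) ∧ Nat.card S = 128 ∧ Q ≤ S := by
  haveI : Fact (Nat.Prime 2) := ⟨by norm_num⟩
  obtain ⟨S, hS⟩ := (hQ.comap_subtype (K := centralizer ({t} : Set G))).exists_le_sylow
  refine ⟨(S : Subgroup (centralizer ({t} : Set G))).map (centralizer ({t} : Set G)).subtype,
    Subgroup.map_subtype_le _, ?_, fun q hq => ⟨⟨q, hQt hq⟩, hS (mem_subgroupOf.mpr hq), rfl⟩⟩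
  rw [Subgroup.card_map_of_injective (Subgroup.subtype_injective _),
    SmallGroups.card_sylow_eq S (k := 7) (m := 3)
      (by rw [F.card_centralizer_two ht]; norm_num) (by norm_num)]
  norm_num

theorem exists_decomp {x t : G} (hx : orderOf x = 3) (ht : orderOf t = 2) (hc : Commute t x)
    {S : Subgroup G} (hS : S ≤ centralizer ({t} : Set G)) (hS128 : Nat.card S = 128)
    {c : G} (hct : c * t = t * c) : ∃ z ∈ zpowers x, ∃ s ∈ S, c = z * s := by
  have hX : zpowers x ≤ centralizer ({t} : Set G) :=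
    zpowers_le.mpr (mem_centralizer_singleton_iff.mpr hc.symm.eq)
  have hbij := Function.Injective.bijective_of_nat_card_le
    (f := fun p : zpowers x × S =>
      (⟨(p.1 : G) * p.2, mul_mem (hX p.1.2) (hS p.2.2)⟩ : centralizer ({t} : Set G))) ?_ ?_
  · obtain ⟨⟨z, s⟩, h⟩ := hbij.surjective ⟨c, mem_centralizer_singleton_iff.mpr hct⟩
    exact ⟨z, z.2, s, s.2, (congrArg Subtype.val h).symm⟩
  · rintro ⟨z, s⟩ ⟨z', s'⟩ h
    have h' : (z : G) * s = z' * s' := congrArg Subtype.val h
    have hmem : (z' : G)⁻¹ * z ∈ zpowers x ⊓ S := by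
      refine mem_inf.mpr ⟨mul_mem (inv_mem z'.2) z.2, ?_⟩
      have e : (z' : G)⁻¹ * z = s' * (s : G)⁻¹ :=
        eq_mul_inv_of_mul_eq (by rw [mul_assoc, h']; group)
      rw [e]
      exact mul_mem s'.2 (inv_mem s.2)
    rw [inf_eq_bot_of_coprime (by rw [Nat.card_zpowers, hx, hS128]; norm_num), mem_bot] at hmem
    have e1 : (z : G) = z' := (inv_mul_eq_one.mp hmem).symm
    rw [e1] at h'
    exact Prod.ext (Subtype.ext e1) (Subtype.ext (mul_left_cancel h'))
  · rw [Nat.card_prod, Nat.card_zpowers, hx, hS128, F.card_centralizer_two ht]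

theorem exists_inverter {x t : G} (hx : orderOf x = 3) (ht : orderOf t = 2) (hc : Commute t x)
    {S : Subgroup G} (hS : S ≤ centralizer ({t} : Set G)) (hS128 : Nat.card S = 128) :
    ∃ s ∈ S, s * x * s⁻¹ = x⁻¹ := by
  obtain ⟨g, hg, hgt⟩ := F.pair_conj hx (by rw [orderOf_inv, hx]) ht ht hc hc.inv_right
  obtain ⟨z, hz, s, hs, e⟩ := F.exists_decomp hx ht hc hS hS128 (mul_inv_eq_iff_eq_mul.mp hgt)
  refine ⟨s, hs, ?_⟩
  obtain ⟨k, rfl⟩ := hz
  have e' : s = x ^ (-k) * g := by rw [e]; group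
  calc s * x * s⁻¹ = x ^ (-k) * (g * x * g⁻¹) * (x ^ (-k))⁻¹ := by rw [e']; group
    _ = x⁻¹ := by rw [hg]; group

theorem le_core2 {x t : G} (hx : orderOf x = 3) (ht : orderOf t = 2) (hc : Commute t x)
    {Q : Subgroup G} (hQ : IsPGroup 2 Q) (hQt : Q ≤ centralizer ({t} : Set G))
    (hxQ : ∀ a ∈ Q, x * a * x⁻¹ ∈ Q) : Q ≤ core2 t := by
  haveI : Fact (Nat.Prime 2) := ⟨by norm_num⟩
  intro a ha
  refine mem_core2.mpr fun S hS hS128 => ?_
  obtain ⟨S₁, hS₁, hS₁128, hQS⟩ := F.exists_above ht hQ hQt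
  have hsyl : ∀ T : Subgroup G, T ≤ centralizer ({t} : Set G) → Nat.card T = 128 →
      ∃ T' : Sylow 2 (centralizer ({t} : Set G)),
        (T' : Subgroup (centralizer ({t} : Set G))) = T.subgroupOf _ := fun T hT h128 => by
    obtain ⟨T', hT'⟩ := (IsPGroup.of_card (n := 7) (p := 2)
      (G := T.subgroupOf (centralizer ({t} : Set G)))
      (by rw [Nat.card_congr (Subgroup.subgroupOfEquivOfLe hT).toEquiv, h128]; norm_num)).exists_le_sylow
    refine ⟨T', (Subgroup.eq_of_le_of_card_ge hT' ?_).symm⟩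
    rw [Nat.card_congr (Subgroup.subgroupOfEquivOfLe hT).toEquiv, h128,
      SmallGroups.card_sylow_eq T' (k := 7) (m := 3)
        (by rw [F.card_centralizer_two ht]; norm_num) (by norm_num)]
    norm_num
  obtain ⟨T, hT⟩ := hsyl S hS hS128
  obtain ⟨T₁, hT₁⟩ := hsyl S₁ hS₁ hS₁128
  obtain ⟨c, hc'⟩ := MulAction.exists_smul_eq (centralizer ({t} : Set G)) T₁ T
  obtain ⟨z, hz, s, hs, e⟩ := F.exists_decomp hx ht hc hS₁ hS₁128
    (mem_centralizer_singleton_iff.mp c.2)
  have hb : z⁻¹ * a * z ∈ S₁ := hQS (by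
    simpa using zpowers_le_normalizer hxQ z⁻¹ (inv_mem hz) a ha)
  have hb' : c.1⁻¹ * a * c.1 ∈ S₁ := by
    rw [e, show (z * s)⁻¹ * a * (z * s) = s⁻¹ * (z⁻¹ * a * z) * s by group]
    exact mul_mem (mul_mem (inv_mem hs) hb) hs
  have hmem : (⟨a, hQt ha⟩ : centralizer ({t} : Set G)) ∈ (T : Subgroup _) := by
    rw [← hc', Sylow.coe_subgroup_smul, Subgroup.mem_pointwise_smul_iff_inv_smul_mem, hT₁]
    simpa [mem_subgroupOf] using hb'
  rw [hT] at hmem
  exact hmem

theorem core2_le {t : G} (ht : orderOf t = 2) : core2 t ≤ centralizer ({t} : Set G) := by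
  intro a ha
  obtain ⟨S, hS, hS128, -⟩ := F.exists_above ht (IsPGroup.of_bot (p := 2)) bot_le
  exact hS (mem_core2.mp ha S hS hS128)

theorem conj_core2 {t a : G} (g : G) (ha : a ∈ core2 t) :
    g * a * g⁻¹ ∈ core2 (g * t * g⁻¹) := by
  refine mem_core2.mpr fun S hS h128 => ?_
  have h := mem_core2.mp ha (S.map (MulAut.conj g⁻¹).toMonoidHom) ?_
    (by rw [Subgroup.card_map_of_injective (MulAut.conj g⁻¹).injective, h128])
  · obtain ⟨b, hb, e⟩ := h
    simp only [MulEquiv.coe_toMonoidHom, MulAut.conj_apply, inv_inv] at e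
    rw [← e]
    simpa [mul_assoc] using hb
  · rintro _ ⟨b, hb, rfl⟩
    have hbt : b * (g * t * g⁻¹) = g * t * g⁻¹ * b := mem_centralizer_singleton_iff.mp (hS hb)
    simp only [MulEquiv.coe_toMonoidHom, MulAut.conj_apply, inv_inv]
    refine mem_centralizer_singleton_iff.mpr ?_
    calc g⁻¹ * b * g * t = g⁻¹ * (b * (g * t * g⁻¹)) * g := by group
      _ = g⁻¹ * (g * t * g⁻¹ * b) * g := by rw [hbt]
      _ = t * (g⁻¹ * b * g) := by group

theorem normalizes_core2 {g t : G} (h : g * t = t * g) {a : G} (ha : a ∈ core2 t) :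
    g * a * g⁻¹ ∈ core2 t := by
  have := F.conj_core2 g ha
  rwa [show g * t * g⁻¹ = t by rw [h]; group] at this

theorem centralizer_le_normalizer_core2 (t : G) :
    centralizer ({t} : Set G) ≤ normalizer (core2 t : Set G) := fun _ hg =>
  mem_normalizer_of_conj_le fun _ ha =>
    F.normalizes_core2 (mem_centralizer_singleton_iff.mp hg) ha

theorem card_core2 {x t : G} (hx : orderOf x = 3) (ht : orderOf t = 2) (hc : Commute t x) :
    Nat.card (core2 t) = 64 := by
  obtain ⟨S₀, hS₀, h0, -⟩ := F.exists_above ht (IsPGroup.of_bot (p := 2)) bot_le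
  set S₁ := S₀.map (MulAut.conj x).toMonoidHom with hS₁d
  have hxC : x ∈ centralizer ({t} : Set G) := mem_centralizer_singleton_iff.mpr hc.symm.eq
  have hS₁ : S₁ ≤ centralizer ({t} : Set G) := by
    rintro _ ⟨a, ha, rfl⟩
    exact mul_mem (mul_mem hxC (hS₀ ha)) (inv_mem hxC)
  have h1 : Nat.card S₁ = 128 := by
    rw [hS₁d, Subgroup.card_map_of_injective (MulAut.conj x).injective, h0]
  have hne : S₁ ≠ S₀ := by
    intro he
    obtain ⟨s, hs, hsx⟩ := F.exists_inverter hx ht hc hS₀ h0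
    have hm : x * s⁻¹ * x⁻¹ ∈ S₀ := he ▸ ⟨s⁻¹, inv_mem hs, rfl⟩
    have hx2 : x⁻¹ * x⁻¹ ∈ S₀ := by
      have h := mul_mem hs hm
      rwa [show s * (x * s⁻¹ * x⁻¹) = s * x * s⁻¹ * x⁻¹ by group, hsx] at h
    have hxm : x ∈ S₀ := by
      have e : x⁻¹ * x⁻¹ = x := by
        have := pow_orderOf_eq_one x
        rw [hx] at this
        calc x⁻¹ * x⁻¹ = x⁻¹ * x⁻¹ * x ^ 3 := by rw [this, mul_one]
          _ = x := by simp [pow_succ, mul_assoc]
      rwa [e] at hx2
    have := Subgroup.orderOf_dvd_natCard _ hxm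
    rw [hx, h0] at this
    norm_num at this
  set D := S₀ ⊓ S₁ with hD
  have hidx : D.relIndex S₀ = 2 := by
    have hle : D.relIndex S₀ ≤ 3 := by
      rw [hD, Subgroup.inf_relIndex_left]
      refine (Subgroup.relIndex_le_of_le_right hS₀
        (fun h => by
          have := Subgroup.relIndex_mul_index (H := S₁) (K := centralizer ({t} : Set G)) hS₁
          rw [h, zero_mul] at this
          exact S₁.index_ne_zero_of_finite this.symm)).trans ?_
      have h := Subgroup.card_mul_index (S₁.subgroupOf (centralizer ({t} : Set G)))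
      rw [Nat.card_congr (Subgroup.subgroupOfEquivOfLe hS₁).toEquiv, h1,
        F.card_centralizer_two ht] at h
      change (S₁.subgroupOf _).index ≤ 3
      omega
    have hdvd : D.relIndex S₀ ∣ 128 := h0 ▸ Subgroup.index_dvd_card _
    have hne1 : D.relIndex S₀ ≠ 1 := fun h => hne (Subgroup.eq_of_le_of_card_ge
      (fun a ha => (mem_inf.mp (Subgroup.relIndex_eq_one.mp h ha)).2) (by rw [h0, h1])).symm
    have hne0 : D.relIndex S₀ ≠ 0 := fun h => by rw [h] at hdvd; norm_num at hdvd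
    have hne3 : D.relIndex S₀ ≠ 3 := fun h => by rw [h] at hdvd; norm_num at hdvd
    omega
  have hD64 : Nat.card D = 64 := by
    have h := Subgroup.card_mul_index (D.subgroupOf S₀)
    rw [Nat.card_congr (Subgroup.subgroupOfEquivOfLe (inf_le_left : D ≤ S₀)).toEquiv, h0] at h
    change Nat.card D * D.relIndex S₀ = 128 at h
    rw [hidx] at h
    omega
  have hnorm : ∀ T : Subgroup G, D ≤ T → Nat.card T = 128 → T ≤ normalizer (D : Set G) := by
    intro T hDT hT
    have hidx2 : (D.subgroupOf T).index = 2 := by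
      have h := Subgroup.card_mul_index (D.subgroupOf T)
      rw [Nat.card_congr (Subgroup.subgroupOfEquivOfLe hDT).toEquiv, hD64, hT] at h
      omega
    haveI := Subgroup.normal_of_index_eq_two hidx2
    exact (Subgroup.normal_subgroupOf_iff_le_normalizer hDT).mp inferInstance
  have hxN : x ∈ normalizer (D : Set G) := by
    set K := normalizer (D : Set G) ⊓ centralizer ({t} : Set G) with hK
    have hKS : S₀ ⊔ S₁ ≤ K := sup_le (le_inf (hnorm _ inf_le_left h0) hS₀)
      (le_inf (hnorm _ inf_le_right h1) hS₁)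
    have h128 : 128 ∣ Nat.card K := h0 ▸ Subgroup.card_dvd_of_le (le_sup_left.trans hKS)
    have h384 : Nat.card K ∣ 384 :=
      F.card_centralizer_two ht ▸ Subgroup.card_dvd_of_le inf_le_right
    have hgt : Nat.card K ≠ 128 := fun h => hne (by
      have e : S₀ = K := Subgroup.eq_of_le_of_card_ge (le_sup_left.trans hKS) (by rw [h, h0])
      exact Subgroup.eq_of_le_of_card_ge (e ▸ le_sup_right.trans hKS) (by rw [h0, h1]))
    have h : Nat.card K = 384 := (show ∀ d ∈ Nat.divisors 384, 128 ∣ d → d ≠ 128 → d = 384 by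
      decide +kernel) _ (Nat.mem_divisors.mpr ⟨h384, by norm_num⟩) h128 hgt
    have e : K = centralizer ({t} : Set G) :=
      Subgroup.eq_of_le_of_card_ge inf_le_right (by rw [h, F.card_centralizer_two ht])
    rw [← e] at hxC
    exact (mem_inf.mp hxC).1
  have he : core2 t = D := le_antisymm
    (fun a ha => mem_inf.mpr ⟨mem_core2.mp ha S₀ hS₀ h0, mem_core2.mp ha S₁ hS₁ h1⟩)
    (F.le_core2 hx ht hc (isPGroup_of_card_dvd (n := 6) (by rw [hD64]; norm_num))
      (inf_le_left.trans hS₀) fun a ha => (mem_normalizer_iff.mp hxN a).mp ha)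
  rw [he, hD64]

/-- An invariant 2-subgroup containing the four group has order 4 modulo 3. -/
theorem three_dvd {x : G} (hx : orderOf x = 3) {Q : Subgroup G} (hQ : IsPGroup 2 Q)
    (hV : inv4 x ≤ Q) (hxQ : ∀ a ∈ Q, x * a * x⁻¹ ∈ Q) : 3 ∣ Nat.card Q - 4 := by
  have h := dvd_ncard_of_free (zpowers x) ((Q : Set G) \ inv4 x) ?_ ?_
  · rwa [Nat.card_zpowers, hx, Set.ncard_sdiff hV, ← Nat.card_coe_set_eq,
      ← Nat.card_coe_set_eq, show Nat.card (inv4 x : Set G) = 4 from F.card_inv4 hx] at h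
  · rintro z hz s ⟨hs, hsV⟩
    refine ⟨zpowers_le_normalizer hxQ z hz s hs, fun h => hsV ?_⟩
    have hn : x ∈ normalizer (inv4 x : Set G) := mem_normalizer_of_conj_le fun a ha => by
      have := F.conj_inv4 hx x ha
      rwa [show x * x * x⁻¹ = x by group] at this
    exact (mem_normalizer_iff.mp (zpowers_le.mpr hn hz) s).mpr h
  · rintro z hz hz1 s ⟨hs, hsV⟩ hzs
    apply hsV
    have hxz : x ∈ zpowers z := by
      obtain ⟨k, rfl⟩ := hz
      have hle : zpowers (x ^ k) ≤ zpowers x := zpowers_le.mpr (zpow_mem (mem_zpowers x) k)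
      have : zpowers (x ^ k) = zpowers x := Subgroup.eq_of_le_of_card_ge hle (by
        rw [Nat.card_zpowers, Nat.card_zpowers, hx]
        have hd : orderOf (x ^ k) ∣ 3 := orderOf_dvd_of_pow_eq_one (by
          rw [← zpow_natCast, ← zpow_mul, mul_comm, zpow_mul, zpow_natCast, ← hx,
            pow_orderOf_eq_one, one_zpow])
        have h1 : orderOf (x ^ k) ≠ 1 := fun h => hz1 (orderOf_eq_one_iff.mp h)
        rcases (Nat.dvd_prime Nat.prime_three).mp hd with h | h <;> omega)
      exact this ▸ mem_zpowers x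
    obtain ⟨j, rfl⟩ := hxz
    have hsx : s * z ^ j = z ^ j * s := (Commute.zpow_left (show Commute z s from hzs) j).symm.eq
    refine (F.mem_inv4 hx).mpr ⟨hsx, F.sq_of_two_group hx
      (T := Q ⊓ centralizer ({z ^ j} : Set G)) (hQ.to_le inf_le_left)
      (fun a ha => mem_centralizer_singleton_iff.mp (mem_inf.mp ha).2)
      (mem_inf.mpr ⟨hs, mem_centralizer_singleton_iff.mpr hsx⟩)⟩

theorem rCore_le {x t : G} : rCore x t ≤ centralizer (inv4 x : Set G) := inf_le_right

theorem inv4_le_rCore {x t : G} (hx : orderOf x = 3) (ht : orderOf t = 2) (hc : Commute t x) :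
    inv4 x ≤ rCore x t := by
  have hcc : ∀ a ∈ inv4 x, a ∈ centralizer (inv4 x : Set G) := fun a ha =>
    mem_centralizer_iff.mpr fun b hb => F.comm_inv4 hx hb ha
  refine le_inf (F.le_core2 hx ht hc (IsPGroup.of_card (n := 2) (by rw [F.card_inv4 hx]; norm_num))
    (fun a ha => mem_centralizer_singleton_iff.mpr
      (F.comm_inv4 hx ha (F.mem_inv4_of hx ht hc))) fun a ha => ?_) hcc
  have := F.conj_inv4 hx x ha
  rwa [show x * x * x⁻¹ = x by group] at this

theorem isPGroup_rCore {x t : G} (hx : orderOf x = 3) (ht : orderOf t = 2) (hc : Commute t x) :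
    IsPGroup 2 (rCore x t) :=
  isPGroup_of_card_dvd (n := 6) <| by
    rw [show 2 ^ 6 = Nat.card (core2 t) by rw [F.card_core2 hx ht hc]; norm_num]
    exact Subgroup.card_dvd_of_le inf_le_left

theorem conj_rCore {x t a : G} (hx : orderOf x = 3) (g : G) (ha : a ∈ rCore x t) :
    g * a * g⁻¹ ∈ rCore (g * x * g⁻¹) (g * t * g⁻¹) := by
  refine mem_inf.mpr ⟨F.conj_core2 g (mem_inf.mp ha).1, mem_centralizer_iff.mpr fun b hb => ?_⟩
  have hx' : orderOf (g * x * g⁻¹) = 3 := by rw [← MulAut.conj_apply, MulEquiv.orderOf_eq, hx]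
  have hb' : g⁻¹ * b * g ∈ inv4 x := by
    have := F.conj_inv4 hx' g⁻¹ hb
    rwa [show g⁻¹ * (g * x * g⁻¹) * g⁻¹⁻¹ = x by group, inv_inv] at this
  have h : g⁻¹ * b * g * a = a * (g⁻¹ * b * g) := mem_centralizer_iff.mp (mem_inf.mp ha).2 _ hb'
  calc b * (g * a * g⁻¹) = g * (g⁻¹ * b * g * a) * g⁻¹ := by group
    _ = g * (a * (g⁻¹ * b * g)) * g⁻¹ := by rw [h]
    _ = g * a * g⁻¹ * b := by group

theorem rCore_indep {x t u : G} (hx : orderOf x = 3) (ht : orderOf t = 2) (hu : orderOf u = 2)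
    (hct : Commute t x) (hcu : Commute u x) : rCore x t = rCore x u := by
  suffices ∀ a b : G, orderOf a = 2 → orderOf b = 2 → Commute a x → Commute b x →
      rCore x a ≤ rCore x b from le_antisymm (this t u ht hu hct hcu) (this u t hu ht hcu hct)
  intro a b ha hb hca hcb
  refine le_inf (F.le_core2 hx hb hcb (F.isPGroup_rCore hx ha hca) (fun r hr =>
    mem_centralizer_singleton_iff.mpr
      (mem_centralizer_iff.mp (F.rCore_le hr) b (F.mem_inv4_of hx hb hcb)).symm) fun r hr => ?_)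
    inf_le_right
  have := F.conj_rCore hx x hr
  rwa [show x * x * x⁻¹ = x by group, show x * a * x⁻¹ = a by rw [hca.symm.eq]; group] at this

/-- The elements commuting with `x` normalise its core. -/
theorem normalizes_rCore {x t z a : G} (hx : orderOf x = 3) (ht : orderOf t = 2)
    (hc : Commute t x) (hz : z * x = x * z) (ha : a ∈ rCore x t) :
    z * a * z⁻¹ ∈ rCore x t := by
  have hzx : z * x * z⁻¹ = x := by rw [hz]; group
  have h := F.conj_rCore hx z ha
  rw [hzx] at h
  have ht' : orderOf (z * t * z⁻¹) = 2 := by rw [← MulAut.conj_apply, MulEquiv.orderOf_eq, ht]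
  have hc' : Commute (z * t * z⁻¹) x := by
    have := hc.map (MulAut.conj z).toMonoidHom
    simp only [MulEquiv.coe_toMonoidHom, MulAut.conj_apply] at this
    rwa [hzx] at this
  rwa [F.rCore_indep hx ht ht' hc hc']

theorem card_rCore {x t : G} (hx : orderOf x = 3) (ht : orderOf t = 2) (hc : Commute t x) :
    Nat.card (rCore x t) = 16 ∨ Nat.card (rCore x t) = 64 := by
  haveI : Fact (Nat.Prime 2) := ⟨by norm_num⟩
  have hV := F.inv4_le_rCore hx ht hc
  have h3 := F.three_dvd hx (F.isPGroup_rCore hx ht hc) hV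
    fun a ha => F.normalizes_rCore hx ht hc rfl ha
  have hd : Nat.card (rCore x t) ∣ 64 :=
    F.card_core2 hx ht hc ▸ Subgroup.card_dvd_of_le inf_le_left
  have h4 : 4 ≤ Nat.card (rCore x t) := F.card_inv4 hx ▸ Subgroup.card_le_of_le hV
  have hne4 : Nat.card (rCore x t) ≠ 4 := by
    intro h
    set E := core2 t with hE
    have hE64 := F.card_core2 hx ht hc
    set D := E ⊓ normalizer (inv4 x : Set G) with hD
    have hDx : ∀ a ∈ D, x * a * x⁻¹ ∈ D := fun a ha => by
      have hn : x ∈ normalizer (inv4 x : Set G) := mem_normalizer_of_conj_le fun b hb => by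
        have := F.conj_inv4 hx x hb
        rwa [show x * x * x⁻¹ = x by group] at this
      exact mem_inf.mpr ⟨F.normalizes_core2 hc.symm.eq (mem_inf.mp ha).1,
        mul_mem (mul_mem hn (mem_inf.mp ha).2) (inv_mem hn)⟩
    have hVE : inv4 x ≤ E := hV.trans inf_le_left
    have hVD : inv4 x ≤ D := le_inf hVE le_normalizer
    have hlt : inv4 x < D := by
      refine lt_of_le_of_ne hVD fun e => ?_
      haveI : Group.IsNilpotent E :=
        (IsPGroup.of_card (p := 2) (n := 6) (G := E) (by rw [hE64]; norm_num)).isNilpotent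
      have hlt' : (inv4 x).subgroupOf E < ⊤ := lt_top_iff_ne_top.mpr fun h' => by
        have := Subgroup.card_le_of_le (Subgroup.subgroupOf_eq_top.mp h')
        rw [hE64, F.card_inv4 hx] at this
        omega
      obtain ⟨n, hn, hnV⟩ := SetLike.exists_of_lt
        ((Group.normalizerCondition_of_isNilpotent (G := E)) _ hlt')
      apply hnV
      rw [mem_subgroupOf, e]
      refine mem_inf.mpr ⟨n.2, mem_normalizer_of_conj_le fun a ha => ?_⟩
      exact mem_subgroupOf.mp ((mem_normalizer_iff.mp hn ⟨a, hVE ha⟩).mp (mem_subgroupOf.mpr ha))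
    have hDp : IsPGroup 2 D := isPGroup_of_card_dvd (n := 6)
      (by rw [show 2 ^ 6 = Nat.card E by rw [hE64]; norm_num]; exact Subgroup.card_dvd_of_le inf_le_left)
    have h3D := F.three_dvd hx hDp hVD hDx
    have hdD : Nat.card D ∣ 64 := hE64 ▸ Subgroup.card_dvd_of_le inf_le_left
    have hgt : 4 < Nat.card D := by
      by_contra hle
      exact hlt.ne (Subgroup.eq_of_le_of_card_ge hVD (by rw [F.card_inv4 hx]; omega))
    have htV := F.mem_inv4_of hx ht hc
    have ht1 : t ≠ 1 := fun e => by simp [e] at ht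
    obtain ⟨u, hu, hu1, hut⟩ : ∃ u ∈ inv4 x, u ≠ 1 ∧ u ≠ t := by
      by_contra hh
      push Not at hh
      have : (inv4 x : Set G) ⊆ {1, t} := fun u hu => by
        by_cases hu1 : u = 1
        · simp [hu1]
        · simp [hh u hu hu1]
      have := Set.ncard_le_ncard this
      rw [← Nat.card_coe_set_eq, show Nat.card (inv4 x : Set G) = 4 from F.card_inv4 hx] at this
      have := Set.ncard_insert_le (1 : G) ({t} : Set G)
      rw [Set.ncard_singleton] at this
      omega
    have horb : orb D u ⊆ {u, t * u} := by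
      rintro _ ⟨n, hn, rfl⟩
      have hw := (mem_normalizer_iff.mp (mem_inf.mp hn).2 u).mp hu
      have hnt : n * t * n⁻¹ = t := by
        rw [mem_centralizer_singleton_iff.mp (F.core2_le ht (mem_inf.mp hn).1)]; group
      rcases F.four_cases hx htV hu hw ht1 hu1 (Ne.symm hut) with e | e | e | e
      · exact absurd (conj_eq_one_iff.mp e) hu1
      · refine absurd ?_ hut
        rw [← hnt] at e
        exact mul_left_cancel (mul_right_cancel e)
      · exact Or.inl e
      · exact Or.inr e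
    have h2 : (orb D u).ncard ≤ 2 := (Set.ncard_le_ncard horb).trans
      ((Set.ncard_insert_le _ _).trans (by rw [Set.ncard_singleton]))
    have hst : Nat.card (D ⊓ centralizer ({u} : Set G) : Subgroup G) ≤ 4 := by
      refine h ▸ Subgroup.card_le_of_le fun n hn => ?_
      obtain ⟨hnD, hnu⟩ := mem_inf.mp hn
      refine mem_inf.mpr ⟨(mem_inf.mp hnD).1, mem_centralizer_iff.mpr fun b hb => ?_⟩
      have h1 : Commute n t := mem_centralizer_singleton_iff.mp (F.core2_le ht (mem_inf.mp hnD).1)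
      have h2 : Commute n u := mem_centralizer_singleton_iff.mp hnu
      rcases F.four_cases hx htV hu hb ht1 hu1 (Ne.symm hut) with rfl | rfl | rfl | rfl
      exacts [(Commute.one_left n).eq, h1.symm.eq, h2.symm.eq, (h1.mul_right h2).symm.eq]
    have h8 := ncard_orb_mul D u
    have := Nat.mul_le_mul h2 hst
    have hn8 : Nat.card D ≠ 8 := fun e => by rw [e] at h3D; norm_num at h3D
    have := (show ∀ d ∈ Nat.divisors 64, 4 < d → d ≠ 8 → 8 < d by decide +kernel) _
      (Nat.mem_divisors.mpr ⟨hdD, by norm_num⟩) hgt hn8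
    omega
  exact (show ∀ d ∈ Nat.divisors 64, 4 ≤ d → d ≠ 4 → 3 ∣ d - 4 → d = 16 ∨ d = 64 by
    decide +kernel) _ (Nat.mem_divisors.mpr ⟨hd, by norm_num⟩) h4 hne4 h3

/-- A subgroup of order 16 with the four group in an invariant 2-subgroup of order 64 is
normalised by it. -/
theorem le_normalizer_sixteen {x : G} (hx : orderOf x = 3) {Q A : Subgroup G}
    (hQ : Nat.card Q = 64) (hxQ : ∀ a ∈ Q, x * a * x⁻¹ ∈ Q) (hA : Nat.card A = 16)
    (hxA : ∀ a ∈ A, x * a * x⁻¹ ∈ A) (hAQ : A ≤ Q) (hVA : inv4 x ≤ A) :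
    Q ≤ normalizer (A : Set G) := by
  haveI : Fact (Nat.Prime 2) := ⟨by norm_num⟩
  have hQp : IsPGroup 2 Q := isPGroup_of_card_dvd (n := 6) (by rw [hQ]; norm_num)
  haveI : Group.IsNilpotent Q := hQp.isNilpotent
  set D := Q ⊓ normalizer (A : Set G) with hD
  have hAD : A ≤ D := le_inf hAQ le_normalizer
  have hn : x ∈ normalizer (A : Set G) := mem_normalizer_of_conj_le hxA
  have h3 := F.three_dvd hx (hQp.to_le (inf_le_left : D ≤ Q)) (hVA.trans hAD) fun a ha =>
    mem_inf.mpr ⟨hxQ a (mem_inf.mp ha).1, mul_mem (mul_mem hn (mem_inf.mp ha).2) (inv_mem hn)⟩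
  have hd : Nat.card D ∣ 64 := hQ ▸ Subgroup.card_dvd_of_le inf_le_left
  have hgt : 16 < Nat.card D := by
    by_contra hle
    have e : A = D := Subgroup.eq_of_le_of_card_ge hAD (by omega)
    have hlt : A.subgroupOf Q < ⊤ := lt_top_iff_ne_top.mpr fun h' => by
      have := Subgroup.card_le_of_le (Subgroup.subgroupOf_eq_top.mp h')
      omega
    obtain ⟨n, hn', hnA⟩ := SetLike.exists_of_lt
      ((Group.normalizerCondition_of_isNilpotent (G := Q)) _ hlt)
    apply hnA
    rw [mem_subgroupOf, e]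
    refine mem_inf.mpr ⟨n.2, mem_normalizer_of_conj_le fun a ha => ?_⟩
    exact mem_subgroupOf.mp ((mem_normalizer_iff.mp hn' ⟨a, hAQ ha⟩).mp (mem_subgroupOf.mpr ha))
  have h64 : Nat.card D = 64 := (show ∀ d ∈ Nat.divisors 64, 16 < d → 3 ∣ d - 4 → d = 64 by
    decide +kernel) _ (Nat.mem_divisors.mpr ⟨hd, by norm_num⟩) hgt h3
  have e : D = Q := Subgroup.eq_of_le_of_card_ge inf_le_left (by rw [h64, hQ])
  exact e.ge.trans inf_le_right

theorem inv4_eq_or_disjoint {x z : G} {P : Subgroup G} (hP : Nat.card P = 9) (hxP : x ∈ P)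
    (hzP : z ∈ P) (hx : orderOf x = 3) (hz : orderOf z = 3) :
    inv4 z = inv4 x ∨ ∀ a ∈ inv4 z, a ∈ inv4 x → a = 1 := by
  by_cases hzx : z ∈ zpowers x
  · left
    have he : zpowers z = zpowers x := Subgroup.eq_of_le_of_card_ge (zpowers_le.mpr hzx)
      (by rw [Nat.card_zpowers, Nat.card_zpowers, hx, hz])
    obtain ⟨j, hj⟩ := he.symm ▸ mem_zpowers x
    obtain ⟨k, hk⟩ := hzx
    ext a
    rw [F.mem_inv4 hz, F.mem_inv4 hx]
    exact ⟨fun h => ⟨hj ▸ (Commute.zpow_right (show Commute a z from h.1) j).eq, h.2⟩,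
      fun h => ⟨hk ▸ (Commute.zpow_right (show Commute a x from h.1) k).eq, h.2⟩⟩
  · right
    intro a haz hax
    by_contra h1
    apply F.not_nine (F.orderOf_inv4 hx hax h1) P hP
    have hle : zpowers x ⊔ zpowers z ≤ P :=
      sup_le (zpowers_le.mpr hxP) (zpowers_le.mpr hzP)
    have hd : Nat.card (zpowers x ⊔ zpowers z : Subgroup G) ∣ 3 ^ 2 := by
      rw [show 3 ^ 2 = Nat.card P by rw [hP]; norm_num]; exact Subgroup.card_dvd_of_le hle
    have hne3 : Nat.card (zpowers x ⊔ zpowers z : Subgroup G) ≠ 3 := fun h3 => hzx (by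
      have e : zpowers x = zpowers x ⊔ zpowers z := Subgroup.eq_of_le_of_card_ge le_sup_left
        (by rw [h3, Nat.card_zpowers, hx])
      rw [e]; exact mem_sup_right (mem_zpowers z))
    have h3d : 3 ∣ Nat.card (zpowers x ⊔ zpowers z : Subgroup G) := by
      have := Subgroup.card_dvd_of_le (le_sup_left : zpowers x ≤ zpowers x ⊔ zpowers z)
      rwa [Nat.card_zpowers, hx] at this
    have h9 : Nat.card (zpowers x ⊔ zpowers z : Subgroup G) = 9 :=
      (show ∀ d ∈ Nat.divisors 9, 3 ∣ d → d ≠ 3 → d = 9 by decide +kernel) _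
        (Nat.mem_divisors.mpr ⟨by simpa using hd, by norm_num⟩) h3d hne3
    rw [← Subgroup.eq_of_le_of_card_ge hle (by rw [h9, hP])]
    exact sup_le (zpowers_le.mpr (mem_centralizer_singleton_iff.mpr ((F.mem_inv4 hx).mp hax).1.symm))
      (zpowers_le.mpr (mem_centralizer_singleton_iff.mpr ((F.mem_inv4 hz).mp haz).1.symm))

/-- A second four group in an invariant 2-subgroup of order 16 or 64. -/
theorem exists_second {x : G} {P Q : Subgroup G} (hP : Nat.card P = 9) (hxP : x ∈ P)
    (hx : orderOf x = 3) (hPQ : ∀ z ∈ P, ∀ a ∈ Q, z * a * z⁻¹ ∈ Q) (hVQ : inv4 x ≤ Q)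
    (hcard : Nat.card Q = 16 ∨ Nat.card Q = 64) :
    ∃ z ∈ P, orderOf z = 3 ∧ inv4 z ≤ Q ∧ ∀ a ∈ inv4 z, a ∈ inv4 x → a = 1 := by
  obtain ⟨hPc, hPo⟩ := F.nine_props hP
  have hQp : IsPGroup 2 Q :=
    isPGroup_of_card_dvd (n := 6) (by rcases hcard with h | h <;> rw [h] <;> norm_num)
  have hVP : ∀ p ∈ P, ∀ a, a ∈ inv4 x → p * a * p⁻¹ ∈ inv4 x := fun p hp a ha => by
    have := F.conj_inv4 hx p ha
    rwa [show p * x * p⁻¹ = x by rw [hPc p hp x hxP]; group] at this
  by_contra hno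
  push Not at hno
  have hfree := dvd_ncard_of_free P ((Q : Set G) \ inv4 x) ?_ ?_
  · rw [hP, Set.ncard_sdiff hVQ, ← Nat.card_coe_set_eq, ← Nat.card_coe_set_eq,
      show Nat.card (inv4 x : Set G) = 4 from F.card_inv4 hx] at hfree
    change 9 ∣ Nat.card Q - 4 at hfree
    rcases hcard with h | h <;> rw [h] at hfree <;> norm_num at hfree
  · rintro p hp s ⟨hs, hsV⟩
    refine ⟨hPQ p hp s hs, fun h => hsV ?_⟩
    have := hVP p⁻¹ (inv_mem hp) _ h
    rwa [show p⁻¹ * (p * s * p⁻¹) * p⁻¹⁻¹ = s by group] at this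
  · rintro z hz hz1 s ⟨hs, hsV⟩ hzs
    have hz3 := hPo z hz hz1
    have hsz : s ∈ inv4 z := (F.mem_inv4 hz3).mpr ⟨hzs.symm, F.sq_of_two_group hz3
      (T := Q ⊓ centralizer ({z} : Set G)) (hQp.to_le inf_le_left)
      (fun a ha => mem_centralizer_singleton_iff.mp (mem_inf.mp ha).2)
      (mem_inf.mpr ⟨hs, mem_centralizer_singleton_iff.mpr hzs.symm⟩)⟩
    rcases F.inv4_eq_or_disjoint hP hxP hz hx hz3 with e | e
    · exact hsV (e ▸ hsz)
    · have hle : inv4 z ≤ Q := fun u hu => by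
        by_cases hu1 : u = 1
        · exact hu1 ▸ Q.one_mem
        have hs1 : s ≠ 1 := fun h => hsV (h ▸ one_mem _)
        obtain ⟨p, hp, hpu⟩ := F.exists_move hP hz hz3 hsz hu hs1 hu1
        exact hpu ▸ hPQ p hp s hs
      obtain ⟨a, ha, hax, ha1⟩ := hno z hz hz3 hle
      exact ha1 (e a ha hax)

end Facts

end Cfsg.Agent.Lib.M22Nse57
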