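import Cfsg.Agent.Lib.M22Nse57.LocalCore
import Cfsg.Agent.Lib.SmallGroups.PrimeSylow

/-!
Two four groups generating a subgroup of order sixteen, and the involutions sharing one
`core2` when `core2 t` centralises the four group.
-/

set_option autoImplicit false
set_option linter.style.haveILetI false
set_option linter.unusedSectionVars false

namespace Cfsg.Agent.Lib.M22Nse57

open Subgroup

universe u

variable {G : Type u} [Group G] [Finite G]

/-- Two pairs `(x, t)`, `(z, w)` in a subgroup `P` of order nine with the product `A` of their four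
groups. -/
structure Two (x t z w : G) (P A : Subgroup G) : Prop where
  hx : orderOf x = 3
  ht : orderOf t = 2
  hc : Commute t x
  hz : orderOf z = 3
  hw : orderOf w = 2
  hcw : Commute w z
  hP : Nat.card P = 9
  hxP : x ∈ P
  hzP : z ∈ P
  disj : ∀ a ∈ inv4 z, a ∈ inv4 x → a = 1
  hA : Nat.card A = 16
  sq : ∀ a ∈ A, a * a = 1
  hPA : ∀ p ∈ P, ∀ a ∈ A, p * a * p⁻¹ ∈ A
  hxA : inv4 x ≤ A
  hzA : inv4 z ≤ A
  mem : ∀ a ∈ A, ∃ v ∈ inv4 x, ∃ u ∈ inv4 z, v * u = a
  hAx : A ≤ rCore x t
  hAz : A ≤ rCore z w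

theorem Two.symm {x t z w : G} {P A : Subgroup G} (T : Two x t z w P A) : Two z w x t P A where
  hx := T.hz
  ht := T.hw
  hc := T.hcw
  hz := T.hx
  hw := T.ht
  hcw := T.hc
  hP := T.hP
  hxP := T.hzP
  hzP := T.hxP
  disj := fun a hax haz => T.disj a haz hax
  hA := T.hA
  sq := T.sq
  hPA := T.hPA
  hxA := T.hzA
  hzA := T.hxA
  mem := fun a ha => by
    obtain ⟨v, hv, u, hu, e⟩ := T.mem a ha
    refine ⟨u, hu, v, hv, ?_⟩
    rw [← e, ← mem_centralizer_iff.mp (mem_inf.mp (T.hAx (T.hzA hu))).2 v hv]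
  hAx := T.hAz
  hAz := T.hAx

namespace Facts

variable (F : Facts G)
include F

theorem exists_two : ∃ x t z w : G, ∃ P A : Subgroup G, Two x t z w P A := by
  obtain ⟨x, hx⟩ := F.exists_three
  obtain ⟨P, hP, hxP, hPc, -⟩ := F.exists_nine hx
  have hne : ∀ y : G, orderOf y = 3 → ∃ t ∈ inv4 y, t ≠ 1 := fun y hy => by
    by_contra h
    push Not at h
    have := F.card_inv4 hy
    rw [(Subgroup.eq_bot_iff_forall _).mpr h, Subgroup.card_bot] at this
    norm_num at this
  obtain ⟨t, ht, ht1⟩ := hne x hx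
  have ht2 := F.orderOf_inv4 hx ht ht1
  have hct : Commute t x := ((F.mem_inv4 hx).mp ht).1
  obtain ⟨z, hzP, hz, hle, hdisj⟩ := F.exists_second (Q := rCore x t) hP hxP hx
    (fun p hp a ha => F.normalizes_rCore hx ht2 hct (hPc p hp x hxP) ha)
    (F.inv4_le_rCore hx ht2 hct) (F.card_rCore hx ht2 hct)
  obtain ⟨w, hw, hw1⟩ := hne z hz
  have hcom : ∀ a ∈ inv4 x, ∀ b ∈ inv4 z, a * b = b * a := fun a ha b hb =>
    mem_centralizer_iff.mp (mem_inf.mp (hle hb)).2 a ha
  set A := prodSub (inv4 x) (inv4 z) hcom with hAdef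
  have hxA : inv4 x ≤ A := fun a ha => ⟨a, ha, 1, one_mem _, mul_one a⟩
  have hzA : inv4 z ≤ A := fun a ha => ⟨1, one_mem _, a, ha, one_mul a⟩
  have hA : Nat.card A = 16 := by
    rw [← Nat.card_eq_of_bijective
      (fun p : inv4 x × inv4 z => (⟨(p.1 : G) * p.2, ⟨_, p.1.2, _, p.2.2, rfl⟩⟩ : A)) ⟨?_, ?_⟩,
      Nat.card_prod, F.card_inv4 hx, F.card_inv4 hz]
    · rintro ⟨a, b⟩ ⟨a', b'⟩ h
      have h' : (a : G) * b = a' * b' := congrArg Subtype.val h
      have e : (a' : G)⁻¹ * a = b' * (b : G)⁻¹ :=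
        eq_mul_inv_of_mul_eq (by rw [mul_assoc, h']; group)
      have h1 : (a' : G)⁻¹ * a = 1 :=
        hdisj _ (e ▸ mul_mem b'.2 (inv_mem b.2)) (mul_mem (inv_mem a'.2) a.2)
      have e1 : (a : G) = a' := (inv_mul_eq_one.mp h1).symm
      rw [e1] at h'
      exact Prod.ext (Subtype.ext e1) (Subtype.ext (mul_left_cancel h'))
    · rintro ⟨g, a, ha, b, hb, rfl⟩
      exact ⟨(⟨a, ha⟩, ⟨b, hb⟩), rfl⟩
  have hsq : ∀ a ∈ A, a * a = 1 := by
    rintro _ ⟨a, ha, b, hb, rfl⟩
    rw [show a * b * (a * b) = a * (b * a) * b by group, ← hcom a ha b hb,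
      show a * (a * b) * b = (a * a) * (b * b) by group, ((F.mem_inv4 hx).mp ha).2,
      ((F.mem_inv4 hz).mp hb).2, one_mul]
  have hPA : ∀ p ∈ P, ∀ a ∈ A, p * a * p⁻¹ ∈ A := by
    rintro p hp _ ⟨a, ha, b, hb, rfl⟩
    have h1 := F.conj_inv4 hx p ha
    have h2 := F.conj_inv4 hz p hb
    rw [show p * x * p⁻¹ = x by rw [hPc p hp x hxP]; group] at h1
    rw [show p * z * p⁻¹ = z by rw [hPc p hp z hzP]; group] at h2
    exact ⟨_, h1, _, h2, by group⟩
  have habel : ∀ a ∈ A, ∀ b ∈ A, a * b = b * a := fun a ha b hb => by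
    have ea : a⁻¹ = a := inv_eq_of_mul_eq_one_right (hsq a ha)
    have eb : b⁻¹ = b := inv_eq_of_mul_eq_one_right (hsq b hb)
    calc a * b = (a * b)⁻¹ := (inv_eq_of_mul_eq_one_right (hsq _ (mul_mem ha hb))).symm
      _ = b * a := by rw [mul_inv_rev, ea, eb]
  have hw2 := F.orderOf_inv4 hz hw hw1
  have hcw : Commute w z := ((F.mem_inv4 hz).mp hw).1
  refine ⟨x, t, z, w, P, A, hx, ht2, hct, hz, hw2, hcw, hP, hxP, hzP, hdisj, hA, hsq, hPA, hxA,
    hzA, fun _ ha => ha, ?_, le_inf ?_ ?_⟩
  · rintro _ ⟨a, ha, b, hb, rfl⟩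
    exact mul_mem (F.inv4_le_rCore hx ht2 hct ha) (hle hb)
  · exact F.le_core2 hz hw2 hcw (IsPGroup.of_card (n := 4) (by rw [hA]; norm_num))
      (fun a ha => mem_centralizer_singleton_iff.mpr (habel a ha w (hzA hw))) (hPA z hzP)
  · exact fun a ha => mem_centralizer_iff.mpr fun b hb => habel b (hzA hb) a ha

theorem card_rCore_le {x t x' t' : G} (hx : orderOf x = 3) (hx' : orderOf x' = 3)
    (ht : orderOf t = 2) (ht' : orderOf t' = 2) (hc : Commute t x) (hc' : Commute t' x') :
    Nat.card (rCore x t) ≤ Nat.card (rCore x' t') := by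
  obtain ⟨g, h1, h2⟩ := F.pair_conj hx hx' ht ht' hc hc'
  refine Nat.card_le_card_of_injective (fun a : rCore x t =>
    (⟨g * a * g⁻¹, h1 ▸ h2 ▸ F.conj_rCore hx g a.2⟩ : rCore x' t')) fun a b h => Subtype.ext ?_
  exact mul_left_cancel (mul_right_cancel (Subtype.mk.inj h))

theorem card_rCore_eq {x t x' t' : G} (hx : orderOf x = 3) (hx' : orderOf x' = 3)
    (ht : orderOf t = 2) (ht' : orderOf t' = 2) (hc : Commute t x) (hc' : Commute t' x') :
    Nat.card (rCore x t) = Nat.card (rCore x' t') :=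
  le_antisymm (F.card_rCore_le hx hx' ht ht' hc hc') (F.card_rCore_le hx' hx ht' ht hc' hc)

theorem rCore_eq_core2 {x t : G} (hx : orderOf x = 3) (ht : orderOf t = 2) (hc : Commute t x)
    (h64 : Nat.card (rCore x t) = 64) : rCore x t = core2 t :=
  Subgroup.eq_of_le_of_card_ge inf_le_left (by rw [h64, F.card_core2 hx ht hc])

/-- No element of order seven is normalised by more than 21 elements. -/
theorem card_normalizer_seven (T : Sylow 7 G) :
    Nat.card (normalizer ((T : Subgroup G) : Set G)) = 21 := by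
  haveI : Fact (Nat.Prime 7) := ⟨by norm_num⟩
  have hT : Nat.card (T : Subgroup G) = 7 :=
    (SmallGroups.card_sylow_eq T (k := 1) (m := 63360) (by rw [F.card]; norm_num)
      (by norm_num)).trans (pow_one 7)
  have h := SmallGroups.card_orderOf_eq_prime T hT
  rw [F.c7] at h
  have h2 := SmallGroups.card_normalizer_sylow_mul T
  rw [F.card, show Nat.card (Sylow 7 G) = 21120 by omega] at h2
  omega

/-- The involutions with the same `core2` as `t`, in case it centralises the four group. -/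
theorem fib {x t : G} (hx : orderOf x = 3) (ht : orderOf t = 2) (hc : Commute t x)
    (h64 : Nat.card (rCore x t) = 64) :
    (∀ a : G, orderOf a = 2 → core2 a = core2 t → a ∈ inv4 x) ∧
      Nat.card (normalizer (core2 t : Set G)) = 1152 := by
  classical
  cases nonempty_fintype G
  set N := normalizer (core2 t : Set G) with hN
  set E := core2 t with hE
  have hE64 : Nat.card E = 64 := F.card_core2 hx ht hc
  have hC : centralizer ({t} : Set G) ≤ N := F.centralizer_le_normalizer_core2 t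
  have hV : (inv4 x : Set G) \ {1} ⊆ {a | orderOf a = 2 ∧ core2 a = E} := by
    rintro v ⟨hv, hv1⟩
    have hv2 := F.orderOf_inv4 hx hv hv1
    have hcv : Commute v x := ((F.mem_inv4 hx).mp hv).1
    refine ⟨hv2, ?_⟩
    rw [← F.rCore_eq_core2 hx hv2 hcv (by rw [← h64, F.rCore_indep hx ht hv2 hc hcv]),
      ← F.rCore_indep hx ht hv2 hc hcv, F.rCore_eq_core2 hx ht hc h64]
  have horb : orb N t = {a | orderOf a = 2 ∧ core2 a = E} := by
    ext a
    constructor
    · rintro ⟨n, hn, rfl⟩
      refine ⟨by rw [← MulAut.conj_apply, MulEquiv.orderOf_eq, ht],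
        (Subgroup.eq_of_le_of_card_ge (fun b hb => ?_) ?_).symm⟩
      · have := F.conj_core2 n ((mem_normalizer_iff''.mp hn b).mp hb)
        rwa [show n * (n⁻¹ * b * n) * n⁻¹ = b by group] at this
      · rw [hE64, F.card_core2 (x := n * x * n⁻¹) (by rw [← MulAut.conj_apply, MulEquiv.orderOf_eq, hx])
          (by rw [← MulAut.conj_apply, MulEquiv.orderOf_eq, ht])
          (by simpa using hc.map (MulAut.conj n).toMonoidHom)]
    · rintro ⟨ha, hae⟩
      obtain ⟨g, hg⟩ := isConj_iff.mp (F.isConj_two ht ha)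
      refine ⟨g, mem_normalizer_of_conj_le fun b hb => ?_, hg⟩
      have := F.conj_core2 g hb
      rwa [hg, hae] at this
  have hk := ncard_orb_mul N t
  rw [inf_eq_right.mpr hC, F.card_centralizer_two ht, horb] at hk
  set k := ({a | orderOf a = 2 ∧ core2 a = E} : Set G).ncard with hkd
  have hdvd : k ∣ 1155 :=
    Nat.dvd_of_mul_dvd_mul_right (k := 384) (by norm_num) ((hk.dvd.trans (F.mul_card N)).trans
      (by norm_num))
  obtain ⟨P, hP, hxP, hPc, -⟩ := F.exists_nine hx
  have hPN : P ≤ N := fun p hp => by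
    have hv : p * t * p⁻¹ ∈ inv4 x := by
      have := F.conj_inv4 hx p (F.mem_inv4_of hx ht hc)
      rwa [show p * x * p⁻¹ = x by rw [hPc p hp x hxP]; group] at this
    have h := (hV ⟨hv, fun e => by
      rw [Set.mem_singleton_iff, conj_eq_one_iff] at e
      simp [e] at ht⟩).2
    refine mem_normalizer_of_conj_le fun b hb => ?_
    have := F.conj_core2 p hb
    rwa [h] at this
  have h3 : 3 ∣ k := by
    have h9 : 9 ∣ k * 384 := hk ▸ hP ▸ Subgroup.card_dvd_of_le hPN
    omega
  have hfree : ∀ p : ℕ, p = 5 ∨ p = 11 → ¬ p ∣ k := by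
    intro p hp hpk
    haveI hf : Fact p.Prime := ⟨by rcases hp with rfl | rfl <;> norm_num⟩
    obtain ⟨f, hf⟩ := exists_prime_orderOf_dvd_card' (G := N) p (hk ▸ hpk.mul_right 384)
    rw [← Subgroup.orderOf_coe] at hf
    have h := dvd_ncard_of_free (zpowers (f : G)) ((E : Set G) \ {1}) ?_ ?_
    · rw [Nat.card_zpowers, hf, Set.ncard_sdiff_singleton_of_mem E.one_mem,
        ← Nat.card_coe_set_eq] at h
      change p ∣ Nat.card E - 1 at h
      rw [hE64] at h
      rcases hp with rfl | rfl <;> norm_num at h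
    · rintro z hz s ⟨hs, hs1⟩
      refine ⟨(mem_normalizer_iff.mp (zpowers_le.mpr f.2 hz) s).mp hs, fun e => hs1 ?_⟩
      simpa using e
    · rintro z hz hz1 s ⟨hs, hs1⟩ hzs
      have hzo : orderOf z = p := by
        have hd : orderOf z ∣ p := by
          have := Subgroup.orderOf_dvd_natCard _ hz
          rwa [Nat.card_zpowers, hf] at this
        rcases (Nat.dvd_prime Fact.out).mp hd with h | h
        · exact absurd (orderOf_eq_one_iff.mp h) hz1
        · exact h
      have hd : orderOf s ∣ 64 := hE64 ▸ Subgroup.orderOf_dvd_natCard _ hs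
      have hs' : orderOf s ≠ 1 := fun h => hs1 (orderOf_eq_one_iff.mp h)
      have hm := F.ord_mem (z * s)
      rw [(show Commute z s from hzs).orderOf_mul_eq_mul_orderOf_of_coprime (by
        rw [hzo]
        exact ((Nat.coprime_primes Fact.out Nat.prime_two).mpr (by omega)).pow_right 6
          |>.coprime_dvd_right (by simpa using hd)), hzo] at hm
      have := Nat.mul_le_mul (show 5 ≤ p by omega) (show 2 ≤ orderOf s by
        have := orderOf_pos s; omega)
      simp only [Finset.mem_insert, Finset.mem_singleton] at hm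
      rcases hp with rfl | rfl <;> omega
  have h21 : k ≠ 21 := by
    intro h21
    haveI : Fact (Nat.Prime 7) := ⟨by norm_num⟩
    have hN8 : Nat.card N = 7 * 1152 := by omega
    obtain ⟨T⟩ : Nonempty (Sylow 7 N) := inferInstance
    have hT : Nat.card (T : Subgroup N) = 7 :=
      (SmallGroups.card_sylow_eq T (k := 1) (m := 1152) (by rw [hN8]; norm_num)
        (by norm_num)).trans (pow_one 7)
    have hTG : Nat.card ((T : Subgroup N).map N.subtype) = 7 := by
      rw [Subgroup.card_map_of_injective (Subgroup.subtype_injective _), hT]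
    obtain ⟨S, hS⟩ := (IsPGroup.of_card (p := 7) (n := 1) (G := (T : Subgroup N).map N.subtype)
      (by rw [hTG, pow_one])).exists_le_sylow
    have hSe : (T : Subgroup N).map N.subtype = (S : Subgroup G) :=
      Subgroup.eq_of_le_of_card_ge hS (by
        rw [hTG, SmallGroups.card_sylow_eq S (k := 1) (m := 63360)
          (by rw [F.card]; norm_num) (by norm_num)]
        norm_num)
    have hle : Nat.card (normalizer ((T : Subgroup N) : Set N)) ∣ 21 := by
      have h1 := Subgroup.card_dvd_of_le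
        (Subgroup.le_normalizer_map N.subtype (H := (T : Subgroup N)))
      rw [Subgroup.card_map_of_injective (Subgroup.subtype_injective N), hSe,
        F.card_normalizer_seven S] at h1
      exact h1
    have h7 : 7 ∣ Nat.card (normalizer ((T : Subgroup N) : Set N)) := by
      have h1 := Subgroup.card_dvd_of_le (le_normalizer (H := (T : Subgroup N)))
      rwa [hT] at h1
    have h1 := SmallGroups.card_normalizer_sylow_mul T
    have hmod := card_sylow_modEq_one 7 N
    rw [hN8] at h1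
    rw [Nat.ModEq] at hmod
    rcases (show ∀ d ∈ Nat.divisors 21, 7 ∣ d → d = 7 ∨ d = 21 by decide +kernel) _
      (Nat.mem_divisors.mpr ⟨hle, by norm_num⟩) h7 with e | e <;> rw [e] at h1 <;> omega
  have hk3 : k = 3 := (show ∀ d ∈ Nat.divisors 1155, 3 ∣ d → ¬ 5 ∣ d → ¬ 11 ∣ d → d ≠ 21 → d = 3 by
    decide +kernel) _ (Nat.mem_divisors.mpr ⟨hdvd, by norm_num⟩) h3 (hfree 5 (Or.inl rfl))
    (hfree 11 (Or.inr rfl)) h21
  refine ⟨fun a ha hae => ?_, by rw [← hk, hk3]⟩
  have hVc : ((inv4 x : Set G) \ {1}).ncard = 3 := by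
    rw [Set.ncard_sdiff_singleton_of_mem (inv4 x).one_mem, ← Nat.card_coe_set_eq,
      show Nat.card (inv4 x : Set G) = 4 from F.card_inv4 hx]
  have heq := Set.eq_of_subset_of_ncard_le hV (by rw [← hkd, hk3, hVc])
  have hm : a ∈ (inv4 x : Set G) \ {1} := by rw [heq]; exact ⟨ha, hae⟩
  exact hm.1

end Facts

end Cfsg.Agent.Lib.M22Nse57
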