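import Cfsg.Agent.Lib.M22Nse57.LocalBase

/-!
The centraliser of an involution has order 384, all pairs of an element of order three and a
commuting involution are conjugate.
-/

set_option autoImplicit false
set_option linter.style.haveILetI false
set_option linter.unusedSectionVars false

namespace Cfsg.Agent.Lib.M22Nse57

open Subgroup
open scoped Pointwise

universe u

variable {G : Type u} [Group G] [Finite G]

/-- The conjugates of an element under a subgroup. -/
def orb (H : Subgroup G) (a : G) : Set G := {b | ∃ h ∈ H, h * a * h⁻¹ = b}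

theorem ncard_orb_mul (H : Subgroup G) (a : G) :
    (orb H a).ncard * Nat.card (H ⊓ centralizer ({a} : Set G) : Subgroup G) = Nat.card H := by
  classical
  cases nonempty_fintype G
  let act : MulAction H G :=
    { smul := fun h b => (h : G) * b * (h : G)⁻¹
      one_smul := fun b => show (1 : G) * b * (1 : G)⁻¹ = b by group
      mul_smul := fun h k b => show (h * k : G) * b * ((h : G) * k)⁻¹ =
        (h : G) * ((k : G) * b * (k : G)⁻¹) * (h : G)⁻¹ by group }
  letI := act
  have h1 : orb H a = MulAction.orbit H a := Set.ext fun b =>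
    ⟨fun ⟨h, hh, e⟩ => ⟨⟨h, hh⟩, e⟩, fun ⟨h, e⟩ => ⟨h.1, h.2, e⟩⟩
  have h2 : MulAction.stabilizer H a =
      (H ⊓ centralizer ({a} : Set G) : Subgroup G).subgroupOf H := by
    ext h
    rw [MulAction.mem_stabilizer_iff, mem_subgroupOf, mem_inf, mem_centralizer_singleton_iff]
    exact ⟨fun e => ⟨h.2, mul_inv_eq_iff_eq_mul.mp e⟩, fun e => mul_inv_eq_iff_eq_mul.mpr e.2⟩
  rw [h1, ← Nat.card_coe_set_eq,
    ← Nat.card_congr (Subgroup.subgroupOfEquivOfLe (inf_le_left : H ⊓ centralizer ({a} : Set G) ≤ H)).toEquiv,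
    ← h2, Nat.card_congr (MulAction.orbitEquivQuotientStabilizer H a)]
  exact Subgroup.index_mul_card _

namespace Facts

variable (F : Facts G)
include F

theorem conj_inv4 {x a : G} (hx : orderOf x = 3) (g : G) (ha : a ∈ inv4 x) :
    g * a * g⁻¹ ∈ inv4 (g * x * g⁻¹) := by
  have hx' : orderOf (g * x * g⁻¹) = 3 := by rw [← MulAut.conj_apply, MulEquiv.orderOf_eq, hx]
  obtain ⟨h1, h2⟩ := (F.mem_inv4 hx).mp ha
  refine (F.mem_inv4 hx').mpr ⟨?_, ?_⟩
  · rw [show g * a * g⁻¹ * (g * x * g⁻¹) = g * (a * x) * g⁻¹ by group, h1]; group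
  · rw [show g * a * g⁻¹ * (g * a * g⁻¹) = g * (a * a) * g⁻¹ by group, h2]; group

theorem four_cases {x a b c : G} (hx : orderOf x = 3) (ha : a ∈ inv4 x) (hb : b ∈ inv4 x)
    (hc : c ∈ inv4 x) (ha1 : a ≠ 1) (hb1 : b ≠ 1) (hab : a ≠ b) :
    c = 1 ∨ c = a ∨ c = b ∨ c = a * b := by
  classical
  have h4 : (inv4 x : Set G).ncard = 4 := by rw [← Nat.card_coe_set_eq]; exact F.card_inv4 hx
  have e : a⁻¹ = a := inv_eq_of_mul_eq_one_right ((F.mem_inv4 hx).mp ha).2
  have hsub : ({1, a, b, a * b} : Set G) ⊆ inv4 x := by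
    rintro d (rfl | rfl | rfl | rfl)
    exacts [one_mem _, ha, hb, mul_mem ha hb]
  have hn : ({1, a, b, a * b} : Set G).ncard = 4 := by
    rw [Set.ncard_insert_of_notMem (by
        simp only [Set.mem_insert_iff, Set.mem_singleton_iff, not_or]
        exact ⟨Ne.symm ha1, Ne.symm hb1, fun h => hab (e.symm.trans (inv_eq_of_mul_eq_one_right h.symm))⟩),
      Set.ncard_insert_of_notMem (by
        simp only [Set.mem_insert_iff, Set.mem_singleton_iff, not_or]
        exact ⟨hab, fun h => hb1 (left_eq_mul.mp h)⟩),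
      Set.ncard_insert_of_notMem (by
        simp only [Set.mem_singleton_iff]
        exact fun h => ha1 (right_eq_mul.mp h)), Set.ncard_singleton]
  have := Set.eq_of_subset_of_ncard_le hsub (by omega)
  have hc' : c ∈ ({1, a, b, a * b} : Set G) := by rw [this]; exact hc
  simpa using hc'

/-- An element of order three that centralises one involution of a four group and normalises
it centralises it. -/
theorem centralizes_inv4 {x y t : G} (hx : orderOf x = 3) (hy : y ^ 3 = 1)
    (hyx : y * x = x * y) (ht : t ∈ inv4 x) (ht1 : t ≠ 1) (hyt : y * t = t * y) {u : G}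
    (hu : u ∈ inv4 x) : y * u = u * y := by
  by_cases hu1 : u = 1
  · simp [hu1]
  by_cases hut : u = t
  · rw [hut]; exact hyt
  have hw : y * u * y⁻¹ ∈ inv4 x := by
    have := F.conj_inv4 hx y hu
    rwa [show y * x * y⁻¹ = x by rw [hyx]; group] at this
  rcases F.four_cases hx ht hu hw ht1 hu1 (Ne.symm hut) with h | h | h | h
  · exact absurd (by simpa using h) hu1
  · refine absurd ?_ hut
    have h2 : y * u * y⁻¹ = y * t * y⁻¹ := by rw [h, hyt]; group
    simpa using h2
  · exact mul_inv_eq_iff_eq_mul.mp h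
  · have htt := ((F.mem_inv4 hx).mp ht).2
    have hct : y * t * y⁻¹ = t := mul_inv_eq_iff_eq_mul.mpr hyt
    have h2 : y * y * u * (y * y)⁻¹ = u := by
      calc y * y * u * (y * y)⁻¹ = y * (y * u * y⁻¹) * y⁻¹ := by group
        _ = y * (t * u) * y⁻¹ := by rw [h]
        _ = (y * t * y⁻¹) * (y * u * y⁻¹) := by group
        _ = u := by rw [hct, h, ← mul_assoc, htt, one_mul]
    have h3 : Commute (y * y) u := mul_inv_eq_iff_eq_mul.mp h2
    have e4 : y * y * (y * y) = y := by
      have : y ^ 4 = y := by rw [pow_succ, hy, one_mul]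
      calc y * y * (y * y) = y ^ 4 := by simp [pow_succ, mul_assoc]
        _ = y := this
    exact e4 ▸ (h3.mul_left h3).eq

theorem nine_props {P : Subgroup G} (hP : Nat.card P = 9) :
    (∀ a ∈ P, ∀ b ∈ P, a * b = b * a) ∧ ∀ a ∈ P, a ≠ 1 → orderOf a = 3 := by
  haveI : Fact (Nat.Prime 3) := ⟨by norm_num⟩
  refine ⟨fun a ha b hb => ?_, fun a ha hne => ?_⟩
  · haveI := IsPGroup.isMulCommutative_of_card_eq_prime_sq (p := 3) (G := P) (by rw [hP]; norm_num)
    exact congrArg Subtype.val (mul_comm' (⟨a, ha⟩ : P) ⟨b, hb⟩)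
  · have hd : orderOf a ∣ 3 ^ 2 := by
      rw [show 3 ^ 2 = Nat.card P by rw [hP]; norm_num]; exact Subgroup.orderOf_dvd_natCard _ ha
    obtain ⟨k, hk, hka⟩ := (Nat.dvd_prime_pow Nat.prime_three).mp hd
    have h1 : orderOf a ≠ 1 := fun h => hne (orderOf_eq_one_iff.mp h)
    have hm := F.ord_mem a
    interval_cases k <;> simp_all

theorem card_centralizer_two_dvd {t : G} (ht : orderOf t = 2) :
    Nat.card (centralizer ({t} : Set G)) ∣ 1152 := by
  have h1 : Nat.card (centralizer ({t} : Set G)) ∣ 1152 * 385 := (F.mul_card _).trans (by norm_num)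
  refine Nat.Coprime.dvd_of_dvd_mul_right ?_ h1
  have key : ∀ p : ℕ, p = 5 ∨ p = 7 ∨ p = 11 →
      Nat.Coprime (Nat.card (centralizer ({t} : Set G))) p := by
    intro p hp
    haveI hf : Fact p.Prime := ⟨by rcases hp with rfl | rfl | rfl <;> norm_num⟩
    refine Nat.Coprime.symm (hf.out.coprime_iff_not_dvd.mpr fun hd => ?_)
    obtain ⟨⟨y, hy⟩, hyo⟩ := exists_prime_orderOf_dvd_card' p hd
    rw [← Subgroup.orderOf_coe] at hyo
    simp only at hyo
    have hcm : Commute y t := mem_centralizer_singleton_iff.mp hy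
    have ho := F.ord_mem (y * t)
    rw [hcm.orderOf_mul_eq_mul_orderOf_of_coprime
      (by rw [hyo, ht]; rcases hp with rfl | rfl | rfl <;> norm_num), hyo, ht] at ho
    rcases hp with rfl | rfl | rfl <;> simp at ho
  rw [show 385 = 5 * 7 * 11 by norm_num]
  exact ((key 5 (by omega)).mul_right (key 7 (by omega))).mul_right (key 11 (by omega))

theorem class_two_le {t : G} (ht : orderOf t = 2) : Nat.card {g : G // IsConj t g} ≤ 1155 := by
  rw [← F.c2]
  exact Nat.card_le_card_of_injective (fun g => ⟨g.1, by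
    obtain ⟨c, hc⟩ := isConj_iff.mp g.2
    rw [← hc, ← MulAut.conj_apply, MulEquiv.orderOf_eq, ht]⟩)
    (fun a b h => Subtype.ext (by simpa using h))

theorem le_card_centralizer_two {t : G} (ht : orderOf t = 2) :
    384 ≤ Nat.card (centralizer ({t} : Set G)) := by
  have hle := F.class_two_le ht
  have hmul := SmallGroups.card_isConj_mul_card_centralizer t
  rw [F.card] at hmul
  by_contra hlt
  have := Nat.mul_le_mul hle (Nat.le_of_lt_succ (not_le.mp hlt) : _ ≤ 383)
  omega

theorem not_nine {t : G} (ht : orderOf t = 2) (P : Subgroup G) (hP : Nat.card P = 9)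
    (hPt : P ≤ centralizer ({t} : Set G)) : False := by
  classical
  haveI : Fact (Nat.Prime 3) := ⟨by norm_num⟩
  obtain ⟨hPc, hPo⟩ := F.nine_props hP
  have ht1 : t ≠ 1 := fun h => by simp [h] at ht
  have hVz : ∀ z ∈ P, z ≠ 1 → t ∈ inv4 z ∧ ∀ p ∈ P, ∀ u ∈ inv4 z, p * u = u * p := by
    intro z hz hz1
    have hzt : z * t = t * z := mem_centralizer_singleton_iff.mp (hPt hz)
    have htz := F.mem_inv4_of (hPo z hz hz1) ht hzt.symm
    refine ⟨htz, fun p hp u hu => F.centralizes_inv4 (hPo z hz hz1) ?_ (hPc p hp z hz) htz ht1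
      (mem_centralizer_singleton_iff.mp (hPt hp)) hu⟩
    by_cases hp1 : p = 1
    · simp [hp1]
    · rw [← hPo p hp hp1]; exact pow_orderOf_eq_one p
  have hC : ∀ z ∈ P, z ≠ 1 → ∀ d : G, d * z = z * d → d ∈ centralizer (P : Set G) := by
    intro z hz hz1 d hd
    have hle : centralizer ({z} : Set G) ⊓ centralizer (P : Set G) = centralizer ({z} : Set G) := by
      refine Subgroup.eq_of_le_of_card_ge inf_le_left ?_
      have h9 : 9 ∣ Nat.card (centralizer ({z} : Set G) ⊓ centralizer (P : Set G) : Subgroup G) :=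
        hP ▸ Subgroup.card_dvd_of_le (fun a ha => mem_inf.mpr
          ⟨mem_centralizer_singleton_iff.mpr (hPc a ha z hz),
            mem_centralizer_iff.mpr fun b hb => hPc b hb a ha⟩)
      have h4 : 4 ∣ Nat.card (centralizer ({z} : Set G) ⊓ centralizer (P : Set G) : Subgroup G) :=
        F.card_inv4 (hPo z hz hz1) ▸ Subgroup.card_dvd_of_le (fun a ha => mem_inf.mpr
          ⟨mem_centralizer_singleton_iff.mpr ((F.mem_inv4 (hPo z hz hz1)).mp ha).1,
            mem_centralizer_iff.mpr fun b hb => (hVz z hz hz1).2 b hb a ha⟩)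
      rw [F.card_centralizer_three (hPo z hz hz1)]
      exact Nat.le_of_dvd Nat.card_pos
        ((show Nat.Coprime 9 4 by norm_num).mul_dvd_of_dvd_of_dvd h9 h4)
    exact (mem_inf.mp (hle.symm ▸ mem_centralizer_singleton_iff.mpr hd)).2
  have hcube : ∀ z ∈ P, z ≠ 1 → ∀ q : G, q * z = z * q → q ^ 3 = 1 → q ∈ P := by
    intro z hz hz1 q hq h3
    set C := centralizer ({z} : Set G) with hCdef
    have hPC : P ≤ C := fun a ha => mem_centralizer_singleton_iff.mpr (hPc a ha z hz)
    haveI : (P.subgroupOf C).Normal := ⟨fun a ha c => by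
      have hc := mem_centralizer_iff.mp (hC z hz hz1 c (mem_centralizer_singleton_iff.mp c.2)) _ ha
      rw [mem_subgroupOf, Subgroup.coe_mul, Subgroup.coe_mul, Subgroup.coe_inv]
      have hc' : (a : G) * (c : G) = (c : G) * (a : G) := hc
      rw [← hc']
      simpa using mem_subgroupOf.mp ha⟩
    have hidx : (P.subgroupOf C).index = 4 := by
      have := Subgroup.card_mul_index (P.subgroupOf C)
      rw [Nat.card_congr (Subgroup.subgroupOfEquivOfLe hPC).toEquiv, hP,
        F.card_centralizer_three (hPo z hz hz1)] at this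
      omega
    have hq4 := Subgroup.pow_index_mem (P.subgroupOf C)
      (⟨q, mem_centralizer_singleton_iff.mpr hq⟩ : C)
    rw [hidx, mem_subgroupOf] at hq4
    have : q ^ 4 = q := by rw [pow_succ, h3, one_mul]
    simpa [this] using hq4
  obtain ⟨x, hxP, hx1⟩ : ∃ x ∈ P, x ≠ 1 := by
    by_contra h
    push Not at h
    have : P = ⊥ := (Subgroup.eq_bot_iff_forall P).mpr h
    rw [this, Subgroup.card_bot] at hP
    norm_num at hP
  have hx := hPo x hxP hx1
  set N := normalizer (P : Set G) with hN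
  have hCxN : centralizer ({x} : Set G) ≤ N := fun d hd =>
    centralizer_le_normalizer _ (hC x hxP hx1 d (mem_centralizer_singleton_iff.mp hd))
  have horb : orb N x = (P : Set G) \ {1} := by
    ext b
    constructor
    · rintro ⟨n, hn, rfl⟩
      exact ⟨(mem_normalizer_iff.mp hn x).mp hxP, fun h => hx1 (by simpa using h)⟩
    · rintro ⟨hb, hb1⟩
      obtain ⟨g, hg⟩ := isConj_iff.mp (F.isConj_three hx (hPo b hb hb1))
      refine ⟨g, ?_, hg⟩
      have hmap : P.map (MulAut.conj g).toMonoidHom ≤ P := by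
        rintro _ ⟨p, hp, rfl⟩
        simp only [MulEquiv.coe_toMonoidHom, MulAut.conj_apply]
        refine hcube b hb hb1 _ ?_ ?_
        · rw [← hg, show g * p * g⁻¹ * (g * x * g⁻¹) = g * (p * x) * g⁻¹ by group,
            hPc p hp x hxP]
          group
        · rw [conj_pow]
          by_cases hp1 : p = 1
          · simp [hp1]
          · rw [← hPo p hp hp1, pow_orderOf_eq_one]; simp
      exact mem_normalizer_iff.mpr fun a => ⟨fun ha => hmap ⟨a, ha, rfl⟩, fun ha => by
        have heq := Subgroup.eq_of_le_of_card_ge hmap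
          (by rw [Subgroup.card_map_of_injective (MulAut.conj g).injective])
        rw [← heq] at ha
        obtain ⟨p, hp, e⟩ := ha
        simp only [MulEquiv.coe_toMonoidHom, MulAut.conj_apply] at e
        exact (mul_left_cancel (mul_right_cancel e)) ▸ hp⟩
  have hNcard : Nat.card N = 288 := by
    have h := ncard_orb_mul N x
    rw [horb, inf_eq_right.mpr hCxN, F.card_centralizer_three hx,
      Set.ncard_sdiff_singleton_of_mem P.one_mem] at h
    have h9 : (P : Set G).ncard = 9 := by rw [← Nat.card_coe_set_eq]; exact hP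
    omega
  set C := centralizer ({t} : Set G) with hCt
  have hNC : 96 ≤ Nat.card (N ⊓ C : Subgroup G) := by
    have h : (orb N t).ncard * Nat.card (N ⊓ C : Subgroup G) = 288 :=
      (ncard_orb_mul N t).trans hNcard
    have hsub : orb N t ⊆ (inv4 x : Set G) \ {1} := by
      rintro _ ⟨n, hn, rfl⟩
      refine ⟨?_, fun h => ht1 (by simpa using h)⟩
      have hz : n⁻¹ * x * n ∈ P := (mem_normalizer_iff''.mp hn x).mp hxP
      have hz1 : n⁻¹ * x * n ≠ 1 := fun h => hx1 (by
        have e : x = n * (n⁻¹ * x * n) * n⁻¹ := by group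
        rw [e, h]; group)
      have := F.conj_inv4 (hPo _ hz hz1) n (hVz _ hz hz1).1
      rwa [show n * (n⁻¹ * x * n) * n⁻¹ = x by group] at this
    have h3 := Set.ncard_le_ncard hsub
    rw [Set.ncard_sdiff_singleton_of_mem (inv4 x).one_mem] at h3
    have h4 : (inv4 x : Set G).ncard = 4 := by rw [← Nat.card_coe_set_eq]; exact F.card_inv4 hx
    have h5 := Nat.mul_le_mul_right (Nat.card (N ⊓ C : Subgroup G)) (show (orb N t).ncard ≤ 3 by omega)
    omega
  -- Sylow 3-subgroups of the centraliser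
  have hCd := F.card_centralizer_two_dvd ht
  have hC9 : 9 ∣ Nat.card C := hP ▸ Subgroup.card_dvd_of_le hPt
  obtain ⟨m, hm⟩ := hC9
  have hm128 : m ∣ 2 ^ 7 := Nat.dvd_of_mul_dvd_mul_left (k := 9) (by norm_num) (hm ▸ hCd)
  have h3m : ¬ 3 ∣ m := fun h => by
    have := Nat.prime_three.dvd_of_dvd_pow (h.trans hm128)
    norm_num at this
  have hS : ∀ S : Sylow 3 C, Nat.card (S : Subgroup C) = 9 := fun S =>
    (SmallGroups.card_sylow_eq S (k := 2) (m := m) (by rw [hm]; norm_num) h3m).trans (by norm_num)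
  obtain ⟨P', hP'⟩ := (IsPGroup.of_card (n := 2) (p := 3) (G := P.subgroupOf C)
    (by rw [Nat.card_congr (Subgroup.subgroupOfEquivOfLe hPt).toEquiv, hP]; norm_num)).exists_le_sylow
  have hP'e : (P' : Subgroup C) = P.subgroupOf C := (Subgroup.eq_of_le_of_card_ge hP'
    (by rw [hS, Nat.card_congr (Subgroup.subgroupOfEquivOfLe hPt).toEquiv, hP])).symm
  have hnC : Nat.card (Sylow 3 C) * Nat.card (N ⊓ C : Subgroup G) ≤ 1152 := by
    have hle : ((N ⊓ C : Subgroup G).subgroupOf C) ≤
        normalizer (((P' : Subgroup C)) : Set C) := by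
      intro c hc
      rw [hP'e]
      refine mem_normalizer_iff.mpr fun a => ?_
      rw [mem_subgroupOf, mem_subgroupOf]
      exact mem_normalizer_iff.mp (mem_inf.mp (mem_subgroupOf.mp hc)).1 a.1
    have h1 := Subgroup.card_le_of_le hle
    rw [Nat.card_congr (Subgroup.subgroupOfEquivOfLe inf_le_right).toEquiv] at h1
    have h2 := SmallGroups.card_normalizer_sylow_mul P'
    have h3 : Nat.card C ≤ 1152 := Nat.le_of_dvd (by norm_num) hCd
    calc Nat.card (Sylow 3 C) * Nat.card (N ⊓ C : Subgroup G)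
        ≤ Nat.card (Sylow 3 C) * Nat.card (normalizer (((P' : Subgroup C)) : Set C)) :=
          Nat.mul_le_mul_left _ h1
      _ ≤ 1152 := (mul_comm _ _).trans_le (h2.le.trans h3)
  have huniq : Subsingleton (Sylow 3 C) := by
    refine ⟨fun A B => ?_⟩
    suffices ∀ Q : Sylow 3 C, Q = P' from (this A).trans (this B).symm
    intro Q
    by_contra hQ
    have hinj : Function.Injective (fun z : (P' : Subgroup C) => (z : C) • Q) := by
      intro a b hab
      by_contra hne
      set z : C := (b : C)⁻¹ * a with hz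
      have hzP : z ∈ (P' : Subgroup C) := mul_mem (inv_mem b.2) a.2
      have hfix : z • Q = Q := by
        rw [hz, mul_smul, show (a : C) • Q = (b : C) • Q from hab, inv_smul_smul]
      have hz1 : (z : G) ≠ 1 := fun h => hne (Subtype.ext (by
        have : z = 1 := Subtype.ext h
        exact (inv_mul_eq_one.mp this).symm))
      have hzQ : z ∈ (Q : Subgroup C) := by
        have h := (IsPGroup.inf_normalizer_sylow P'.isPGroup' Q).le
          (mem_inf.mpr ⟨hzP, Sylow.smul_eq_iff_mem_normalizer.mp hfix⟩)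
        exact (mem_inf.mp h).2
      apply hQ
      refine Sylow.ext (Subgroup.eq_of_le_of_card_ge ?_ (by rw [hS, hS]))
      intro q hq
      rw [hP'e, mem_subgroupOf]
      have hQc : IsMulCommutative (Q : Subgroup C) :=
        IsPGroup.isMulCommutative_of_card_eq_prime_sq (p := 3) (by rw [hS]; norm_num)
      refine hcube (z : G) (by rw [hP'e, mem_subgroupOf] at hzP; exact hzP) hz1 (q : G) ?_ ?_
      · have h := congrArg Subtype.val (mul_comm' (⟨q, hq⟩ : (Q : Subgroup C)) ⟨z, hzQ⟩)
        exact congrArg Subtype.val h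
      · by_cases hq1 : q = 1
        · simp [hq1]
        have hd : orderOf q ∣ 9 := hS Q ▸ Subgroup.orderOf_dvd_natCard _ hq
        have h9 : orderOf (q : G) ≠ 9 := fun h => by
          have := F.ord_mem (q : G)
          simp [h] at this
        rw [Subgroup.orderOf_coe] at h9
        rw [← orderOf_dvd_iff_pow_eq_one, Subgroup.orderOf_coe]
        obtain ⟨k, hk, hkq⟩ := (Nat.dvd_prime_pow (m := 2) Nat.prime_three).mp
          (by simpa using hd)
        interval_cases k <;> simp_all
    have hne : ∀ z : (P' : Subgroup C), (z : C) • Q ≠ P' := fun z h => hQ (by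
      have h' := congrArg (fun S => (z : C)⁻¹ • S) h
      simp only [inv_smul_smul] at h'
      rw [h']
      exact Sylow.smul_eq_iff_mem_normalizer.mpr (le_normalizer (inv_mem z.2)))
    have h9 : 9 < Nat.card (Sylow 3 C) := by
      have h1 : Nat.card {S : Sylow 3 C // S ≠ P'} < Nat.card (Sylow 3 C) :=
        Finite.card_subtype_lt (x := P') (fun h => h rfl)
      have h2 := Nat.card_le_card_of_injective
        (fun z : (P' : Subgroup C) => (⟨(z : C) • Q, hne z⟩ : {S : Sylow 3 C // S ≠ P'}))
        (fun a b h => hinj (congrArg Subtype.val h))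
      rw [hS] at h2
      omega
    -- the number of Sylow subgroups is a power of two congruent to one
    have hdvd : Nat.card (Sylow 3 C) ∣ 2 ^ 7 :=
      (SmallGroups.card_sylow_dvd (k := 2) (m := m) (by rw [hm]; norm_num) h3m).trans hm128
    have hmod := card_sylow_modEq_one 3 C
    have h12 : Nat.card (Sylow 3 C) * 96 ≤ 1152 :=
      (Nat.mul_le_mul_left _ hNC).trans hnC
    obtain ⟨k, hk, hk2⟩ := (Nat.dvd_prime_pow Nat.prime_two).mp hdvd
    rw [Nat.ModEq, hk2] at hmod
    interval_cases k <;> simp_all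
  have hsub : C ≤ N := by
    intro c hc
    have hn : (⟨c, hc⟩ : C) ∈ normalizer (((P' : Subgroup C)) : Set C) :=
      Sylow.smul_eq_iff_mem_normalizer.mp (Subsingleton.elim _ _)
    rw [hP'e] at hn
    refine mem_normalizer_iff.mpr fun a => ⟨fun ha => ?_, fun ha => ?_⟩
    · have := (mem_normalizer_iff.mp hn ⟨a, hPt ha⟩).mp (mem_subgroupOf.mpr ha)
      simpa [mem_subgroupOf] using this
    · have hac : a ∈ C := by
        have := mul_mem (mul_mem (inv_mem hc) (hPt ha)) hc
        simpa [mul_assoc] using this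
      have h := (mem_normalizer_iff.mp hn ⟨a, hac⟩).mpr (by simpa [mem_subgroupOf] using ha)
      simpa [mem_subgroupOf] using h
  have h1 := Nat.le_of_dvd (by norm_num) (hNcard ▸ Subgroup.card_dvd_of_le hsub)
  have h2 : 384 ≤ Nat.card C := F.le_card_centralizer_two ht
  omega

theorem card_centralizer_two {t : G} (ht : orderOf t = 2) :
    Nat.card (centralizer ({t} : Set G)) = 384 := by
  haveI : Fact (Nat.Prime 3) := ⟨by norm_num⟩
  have h1 := F.card_centralizer_two_dvd ht
  have h2 := F.le_card_centralizer_two ht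
  have h9 : ¬ 9 ∣ Nat.card (centralizer ({t} : Set G)) := fun h => by
    obtain ⟨Q, hQ⟩ := Sylow.exists_subgroup_card_pow_prime 3 (n := 2)
      (G := centralizer ({t} : Set G)) (by norm_num; exact h)
    exact F.not_nine ht (Q.map (centralizer ({t} : Set G)).subtype)
      (by rw [Subgroup.card_map_of_injective (Subgroup.subtype_injective _), hQ]; norm_num)
      (Subgroup.map_subtype_le Q)
  have hm := Nat.mem_divisors.mpr ⟨h1, by norm_num⟩
  exact (show ∀ d ∈ Nat.divisors 1152, 384 ≤ d → ¬ 9 ∣ d → d = 384 by decide +kernel) _ hm h2 h9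

/-- One class of involutions. -/
theorem isConj_two {s t : G} (hs : orderOf s = 2) (ht : orderOf t = 2) : IsConj s t := by
  have hmul := SmallGroups.card_isConj_mul_card_centralizer s
  rw [F.card, F.card_centralizer_two hs] at hmul
  have hcard : Nat.card {g : G // orderOf g = 2} ≤ Nat.card {g : G // IsConj s g} := by
    rw [F.c2]; omega
  have hbij := Function.Injective.bijective_of_nat_card_le
    (f := fun g : {g : G // IsConj s g} => (⟨g.1, by
      obtain ⟨c, hc⟩ := isConj_iff.mp g.2
      rw [← hc, ← MulAut.conj_apply, MulEquiv.orderOf_eq, hs]⟩ : {g : G // orderOf g = 2}))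
    (fun a b h => Subtype.ext (by simpa using h)) hcard
  obtain ⟨g, hg⟩ := hbij.surjective ⟨t, ht⟩
  have e : g.1 = t := congrArg Subtype.val hg
  exact e ▸ g.2

/-- A Sylow 3-subgroup is transitive on the involutions centralising one of its elements. -/
theorem exists_move {x : G} {P : Subgroup G} (hP : Nat.card P = 9) (hxP : x ∈ P) (hx : orderOf x = 3)
    {t u : G} (ht : t ∈ inv4 x) (hu : u ∈ inv4 x) (ht1 : t ≠ 1) (hu1 : u ≠ 1) :
    ∃ p ∈ P, p * t * p⁻¹ = u := by
  obtain ⟨hPc, hPo⟩ := F.nine_props hP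
  obtain ⟨y, hy, hyt⟩ : ∃ y ∈ P, y * t ≠ t * y := by
    by_contra h
    push Not at h
    exact F.not_nine (F.orderOf_inv4 hx ht ht1) P hP fun a ha =>
      mem_centralizer_singleton_iff.mpr (h a ha)
  have hyx : y * x * y⁻¹ = x := by rw [hPc y hy x hxP]; group
  have hy3 : y ^ 3 = 1 := by
    by_cases h1 : y = 1
    · simp [h1]
    · rw [← hPo y hy h1]; exact pow_orderOf_eq_one y
  have h1 : y * t * y⁻¹ ∈ inv4 x := hyx ▸ F.conj_inv4 hx y ht
  have hne : t ≠ y * t * y⁻¹ := fun h => hyt (mul_inv_eq_iff_eq_mul.mp h.symm)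
  have h2 : (y * y) * t * (y * y)⁻¹ ∈ inv4 x := by
    have := F.conj_inv4 hx y h1
    rw [hyx] at this
    convert this using 1
    group
  rcases F.four_cases hx ht h1 hu ht1 (fun h => ht1 (by simpa using h)) hne with h | h | h | h
  · exact absurd h hu1
  · exact ⟨1, P.one_mem, by rw [h]; group⟩
  · exact ⟨y, hy, h.symm⟩
  · refine ⟨y * y, P.mul_mem hy hy, ?_⟩
    rcases F.four_cases hx ht h1 h2 ht1 (fun h => ht1 (by simpa using h)) hne with h' | h' | h' | h'
    · exact absurd (conj_eq_one_iff.mp h') ht1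
    · exfalso
      have h'' : Commute (y * y) t := mul_inv_eq_iff_eq_mul.mp h'
      have e4 : y * y * (y * y) = y := by
        have e : y ^ 4 = y := by rw [pow_succ, hy3, one_mul]
        calc y * y * (y * y) = y ^ 4 := by simp [pow_succ, mul_assoc]
          _ = y := e
      exact hyt (e4 ▸ (h''.mul_left h''))
    · exfalso
      exact hne (calc t = y⁻¹ * (y * t * y⁻¹) * y := by group
        _ = y⁻¹ * ((y * y) * t * (y * y)⁻¹) * y := by rw [h']
        _ = y * t * y⁻¹ := by group)
    · exact h'.trans h.symm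

/-- All pairs of an element of order three and a commuting involution are conjugate. -/
theorem pair_conj {x x' t t' : G} (hx : orderOf x = 3) (hx' : orderOf x' = 3)
    (ht : orderOf t = 2) (ht' : orderOf t' = 2) (hc : Commute t x) (hc' : Commute t' x') :
    ∃ g : G, g * x * g⁻¹ = x' ∧ g * t * g⁻¹ = t' := by
  obtain ⟨g, hg⟩ := isConj_iff.mp (F.isConj_three hx hx')
  obtain ⟨P, hP, hxP, hPc, -⟩ := F.exists_nine hx'
  have h1 : g * t * g⁻¹ ∈ inv4 x' := hg ▸ F.conj_inv4 hx g (F.mem_inv4_of hx ht hc)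
  have hn1 : g * t * g⁻¹ ≠ 1 := fun h => by
    rw [show t = 1 by simpa using h] at ht
    simp at ht
  obtain ⟨p, hp, hpt⟩ := F.exists_move hP hxP hx' h1 (F.mem_inv4_of hx' ht' hc') hn1
    (fun h => by simp [h] at ht')
  refine ⟨p * g, ?_, ?_⟩
  · calc p * g * x * (p * g)⁻¹ = p * (g * x * g⁻¹) * p⁻¹ := by group
      _ = x' := by rw [hg, hPc p hp x' hxP]; group
  · calc p * g * t * (p * g)⁻¹ = p * (g * t * g⁻¹) * p⁻¹ := by group
      _ = t' := hpt

end Facts

end Cfsg.Agent.Lib.M22Nse57
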