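import Cfsg.Agent.Lib.M22Nse57.LocalFib

/-!
`core2 t` does not centralise the four group of an element of order three commuting with `t`.
-/

set_option autoImplicit false
set_option linter.style.haveILetI false
set_option linter.unusedSectionVars false

namespace Cfsg.Agent.Lib.M22Nse57

open Subgroup

universe u

variable {G : Type u} [Group G] [Finite G]

namespace Two

variable {x t z w : G} {P A : Subgroup G} (T : Two x t z w P A) (F : Facts G)
include T F

theorem commP {p : G} (hp : p ∈ P) : p * x * p⁻¹ = x := by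
  rw [(F.nine_props T.hP).1 p hp x T.hxP]; group

theorem ne_one_t : t ≠ 1 := fun e => by
  have := T.ht
  simp [e] at this

theorem mem_t : t ∈ inv4 x := F.mem_inv4_of T.hx T.ht T.hc

theorem P_le : P ≤ normalizer (A : Set G) := fun p hp =>
  mem_normalizer_of_conj_le (T.hPA p hp)

theorem inv4_subset_orb : (inv4 x : Set G) \ {1} ⊆ orb P t := by
  rintro v ⟨hv, hv1⟩
  exact F.exists_move T.hP T.hxP T.hx (T.mem_t F) hv (T.ne_one_t F) hv1

theorem prod_mem_orb {v u v' u' : G} (hv : v ∈ inv4 x) (hv1 : v ≠ 1) (hu : u ∈ inv4 z)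
    (hu1 : u ≠ 1) (hv' : v' ∈ inv4 x) (hv'1 : v' ≠ 1) (hu' : u' ∈ inv4 z) (hu'1 : u' ≠ 1) :
    ∃ p ∈ P, p * (v * u) * p⁻¹ = v' * u' := by
  classical
  obtain ⟨p, hp, hpv⟩ := F.exists_move T.hP T.hxP T.hx hv hv' hv1 hv'1
  have hu₂ : p * u * p⁻¹ ∈ inv4 z := by
    have := F.conj_inv4 T.hz p hu
    rwa [show p * z * p⁻¹ = z from T.symm.commP F hp] at this
  have hu₂1 : p * u * p⁻¹ ≠ 1 := fun e => hu1 (conj_eq_one_iff.mp e)
  have hsub : orb (zpowers x) (p * u * p⁻¹) ⊆ (inv4 z : Set G) \ {1} := by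
    rintro _ ⟨q, hq, rfl⟩
    refine ⟨?_, fun e => hu₂1 (conj_eq_one_iff.mp e)⟩
    have := F.conj_inv4 T.hz q hu₂
    rwa [show q * z * q⁻¹ = z from T.symm.commP F (zpowers_le.mpr T.hxP hq)] at this
  have hst : zpowers x ⊓ centralizer ({p * u * p⁻¹} : Set G) = ⊥ := by
    refine (Subgroup.eq_bot_iff_forall _).mpr fun q hq => ?_
    by_contra hq1
    obtain ⟨hqx, hqc⟩ := mem_inf.mp hq
    have e : zpowers q = zpowers x := Subgroup.eq_of_le_of_card_ge (zpowers_le.mpr hqx) (by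
      rw [Nat.card_zpowers, Nat.card_zpowers, T.hx,
        (F.nine_props T.hP).2 q (zpowers_le.mpr T.hxP hqx) hq1])
    obtain ⟨j, hj⟩ := e.symm ▸ mem_zpowers x
    refine hu₂1 (T.disj _ hu₂ ((F.mem_inv4 T.hx).mpr ⟨?_, ((F.mem_inv4 T.hz).mp hu₂).2⟩))
    rw [← hj]
    exact ((show Commute q (p * u * p⁻¹) from mem_centralizer_singleton_iff.mp hqc).zpow_left j).symm.eq
  have h3 := ncard_orb_mul (zpowers x) (p * u * p⁻¹)
  rw [hst, Subgroup.card_bot, mul_one, Nat.card_zpowers, T.hx] at h3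
  have heq := Set.eq_of_subset_of_ncard_le hsub (by
    rw [h3, Set.ncard_sdiff_singleton_of_mem (inv4 z).one_mem, ← Nat.card_coe_set_eq,
      show Nat.card (inv4 z : Set G) = 4 from F.card_inv4 T.hz])
  obtain ⟨q, hq, hqu⟩ : u' ∈ orb (zpowers x) (p * u * p⁻¹) := by
    rw [heq]; exact ⟨hu', hu'1⟩
  refine ⟨q * p, P.mul_mem (zpowers_le.mpr T.hxP hq) hp, ?_⟩
  have hqv : q * v' * q⁻¹ = v' := by
    obtain ⟨j, rfl⟩ := hq
    rw [((show Commute v' x from ((F.mem_inv4 T.hx).mp hv').1).zpow_right j).symm.eq]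
    group
  calc q * p * (v * u) * (q * p)⁻¹
      = q * (p * v * p⁻¹) * q⁻¹ * (q * (p * u * p⁻¹) * q⁻¹) := by group
    _ = v' * u' := by rw [hpv, hqv, hqu]

theorem core2_le_normalizer (h64 : Nat.card (rCore x t) = 64) :
    core2 t ≤ normalizer (A : Set G) :=
  F.le_normalizer_sixteen T.hx (F.card_core2 T.hx T.ht T.hc)
    (fun _ ha => F.normalizes_core2 T.hc.symm.eq ha) T.hA (T.hPA x T.hxP)
    (T.hAx.trans inf_le_left) T.hxA

theorem exists_out (h64 : Nat.card (rCore x t) = 64) (h64' : Nat.card (rCore z w) = 64) :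
    ∃ e ∈ core2 w, e * t * e⁻¹ ∈ A ∧ e * t * e⁻¹ ∉ inv4 x ∧ e * t * e⁻¹ ∉ inv4 z := by
  classical
  have hNA := T.symm.core2_le_normalizer F h64'
  have hrz := F.rCore_eq_core2 T.hz T.hw T.hcw h64'
  have hxE : ∀ a ∈ core2 w, x * a * x⁻¹ ∈ core2 w := fun a ha => by
    rw [← hrz] at ha ⊢
    exact F.normalizes_rCore T.hz T.hw T.hcw
      ((F.nine_props T.hP).1 x T.hxP z T.hzP) ha
  have hVE : inv4 x ≤ core2 w := T.hxA.trans (T.hAz.trans inf_le_left)
  obtain ⟨e, he, hout⟩ : ∃ e ∈ core2 w, e * t * e⁻¹ ∉ inv4 x := by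
    by_contra hno
    push Not at hno
    have hsub : orb (core2 w) t ⊆ (inv4 x : Set G) \ {1} := by
      rintro _ ⟨e, he, rfl⟩
      exact ⟨hno e he, fun h => T.ne_one_t F (conj_eq_one_iff.mp h)⟩
    have h3 : (orb (core2 w) t).ncard ≤ 3 := (Set.ncard_le_ncard hsub).trans (by
      rw [Set.ncard_sdiff_singleton_of_mem (inv4 x).one_mem, ← Nat.card_coe_set_eq,
        show Nat.card (inv4 x : Set G) = 4 from F.card_inv4 T.hx])
    set D := core2 w ⊓ centralizer ({t} : Set G) with hD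
    have hDx : ∀ a ∈ D, x * a * x⁻¹ ∈ D := fun a ha => mem_inf.mpr ⟨hxE a (mem_inf.mp ha).1,
      mul_mem (mul_mem (mem_centralizer_singleton_iff.mpr T.hc.symm.eq) (mem_inf.mp ha).2)
        (inv_mem (mem_centralizer_singleton_iff.mpr T.hc.symm.eq))⟩
    have hVD : inv4 x ≤ D := le_inf hVE fun a ha =>
      mem_centralizer_singleton_iff.mpr (F.comm_inv4 T.hx ha (T.mem_t F))
    have hE := F.card_core2 T.hz T.hw T.hcw
    have hDd : Nat.card D ∣ 64 := hE ▸ Subgroup.card_dvd_of_le inf_le_left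
    have hDp : IsPGroup 2 D := isPGroup_of_card_dvd (n := 6) (by simpa using hDd)
    have hmul := ncard_orb_mul (core2 w) t
    rw [hE, ← hD] at hmul
    have hle := Nat.mul_le_mul_right (Nat.card D) h3
    rw [hmul] at hle
    have h3D := F.three_dvd T.hx hDp hVD hDx
    have h64D : Nat.card D = 64 := (show ∀ d ∈ Nat.divisors 64, 64 ≤ 3 * d → 3 ∣ d - 4 → d = 64 by
      decide +kernel) _ (Nat.mem_divisors.mpr ⟨hDd, by norm_num⟩) hle h3D
    have hDe : D = core2 w := Subgroup.eq_of_le_of_card_ge inf_le_left (by rw [h64D, hE])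
    have hle2 : core2 w ≤ core2 t := by
      rw [← hDe]
      exact F.le_core2 T.hx T.ht T.hc hDp inf_le_right hDx
    have heq : core2 w = core2 t := Subgroup.eq_of_le_of_card_ge hle2
      (by rw [hE, F.card_core2 T.hx T.ht T.hc])
    have hw1 : w ≠ 1 := fun e => by
      have := T.hw
      simp [e] at this
    exact hw1 (T.disj w (F.mem_inv4_of T.hz T.hw T.hcw)
      ((F.fib T.hx T.ht T.hc h64).1 w T.hw heq))
  refine ⟨e, he, (mem_normalizer_iff.mp (hNA he) t).mp (T.hxA (T.mem_t F)), hout, fun hz' => ?_⟩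
  rw [← hrz] at he
  have h := mem_centralizer_iff.mp (mem_inf.mp he).2 _ hz'
  have e1 : e * t * e⁻¹ = t := by
    calc e * t * e⁻¹ = e⁻¹ * (e * (e * t * e⁻¹)) := by group
      _ = e⁻¹ * (e * t * e⁻¹ * e) := by rw [h]
      _ = t := by group
  exact T.ne_one_t F (T.disj t (e1 ▸ hz') (T.mem_t F))

theorem not_sixtyFour (h64 : Nat.card (rCore x t) = 64) : False := by
  classical
  cases nonempty_fintype G
  have h64' : Nat.card (rCore z w) = 64 :=
    (F.card_rCore_eq T.hz T.hx T.hw T.ht T.hcw T.hc).trans h64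
  set N := normalizer (A : Set G) with hN
  have hPN : P ≤ N := T.P_le F
  have hEN : core2 t ≤ N := T.core2_le_normalizer F h64
  have hEN' : core2 w ≤ N := T.symm.core2_le_normalizer F h64'
  -- the orbit of `t` under the normalizer
  have hin : ∀ g ∈ N, ∀ a ∈ orb N t, g * a * g⁻¹ ∈ orb N t := by
    rintro g hg _ ⟨n, hn, rfl⟩
    exact ⟨g * n, mul_mem hg hn, by group⟩
  have hmixed : ∀ v ∈ inv4 x, ∀ u ∈ inv4 z, v ≠ 1 → u ≠ 1 → v * u ∈ orb N t := by
    intro v hv u hu hv1 hu1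
    obtain ⟨e, he, heA, hex, hez⟩ := T.exists_out F h64 h64'
    obtain ⟨v₀, hv₀, u₀, hu₀, h0⟩ := T.mem _ heA
    obtain ⟨p, hp, hpe⟩ := T.prod_mem_orb F hv₀ (fun h => hez (by rw [← h0, h, one_mul]; exact hu₀))
      hu₀ (fun h => hex (by rw [← h0, h, mul_one]; exact hv₀)) hv hv1 hu hu1
    refine ⟨p * e, mul_mem (hPN hp) (hEN' he), ?_⟩
    rw [← hpe, h0]
    group
  have hVorb : (inv4 x : Set G) \ {1} ⊆ orb N t := fun v hv => by
    obtain ⟨p, hp, e⟩ := T.inv4_subset_orb F hv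
    exact ⟨p, hPN hp, e⟩
  have hworb : w ∈ orb N t := by
    obtain ⟨e, he, heA, hez, hex⟩ := T.symm.exists_out F h64' h64
    obtain ⟨v₀, hv₀, u₀, hu₀, h0⟩ := T.mem _ heA
    have hm := hmixed v₀ hv₀ u₀ hu₀ (fun h => hez (by rw [← h0, h, one_mul]; exact hu₀))
      (fun h => hex (by rw [← h0, h, mul_one]; exact hv₀))
    rw [h0] at hm
    have := hin e⁻¹ (inv_mem (hEN he)) _ hm
    rwa [show e⁻¹ * (e * w * e⁻¹) * e⁻¹⁻¹ = w by group] at this
  have horb : orb N t = (A : Set G) \ {1} := by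
    ext a
    constructor
    · rintro ⟨n, hn, rfl⟩
      exact ⟨(mem_normalizer_iff.mp hn t).mp (T.hxA (T.mem_t F)),
        fun h => T.ne_one_t F (conj_eq_one_iff.mp h)⟩
    · rintro ⟨ha, ha1⟩
      obtain ⟨v, hv, u, hu, rfl⟩ := T.mem a ha
      by_cases hv1 : v = 1
      · subst hv1
        rw [one_mul] at ha1 ⊢
        obtain ⟨p, hp, e⟩ := T.symm.inv4_subset_orb F ⟨hu, ha1⟩
        exact e ▸ hin p (hPN hp) w hworb
      by_cases hu1 : u = 1
      · subst hu1
        rw [mul_one] at ha1 ⊢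
        exact hVorb ⟨hv, ha1⟩
      exact hmixed v hv u hu hv1 hu1
  have hcardN := ncard_orb_mul N t
  rw [horb, Set.ncard_sdiff_singleton_of_mem A.one_mem, ← Nat.card_coe_set_eq,
    show Nat.card (A : Set G) = 16 from T.hA] at hcardN
  -- a subgroup of index five
  obtain ⟨hfib, hNE⟩ := F.fib T.hx T.ht T.hc h64
  set M := N ⊓ normalizer (core2 t : Set G) with hM
  have hPM : P ≤ M := le_inf hPN fun p hp => by
    have hpt : p * t * p⁻¹ ∈ inv4 x := by
      have := F.conj_inv4 T.hx p (T.mem_t F)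
      rwa [T.commP F hp] at this
    have hp2 : orderOf (p * t * p⁻¹) = 2 := by
      rw [← MulAut.conj_apply, MulEquiv.orderOf_eq, T.ht]
    have hcp : Commute (p * t * p⁻¹) x := ((F.mem_inv4 T.hx).mp hpt).1
    have he : core2 (p * t * p⁻¹) = core2 t := by
      rw [← F.rCore_eq_core2 T.hx T.ht T.hc h64, F.rCore_indep T.hx T.ht hp2 T.hc hcp,
        F.rCore_eq_core2 T.hx hp2 hcp (by rw [← F.rCore_indep T.hx T.ht hp2 T.hc hcp, h64])]
    refine mem_normalizer_of_conj_le fun b hb => ?_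
    have := F.conj_core2 p hb
    rwa [he] at this
  have hMorb : orb M t = (inv4 x : Set G) \ {1} := by
    refine Set.Subset.antisymm ?_ fun v hv => ?_
    · rintro _ ⟨m, hm, rfl⟩
      refine ⟨hfib _ (by rw [← MulAut.conj_apply, MulEquiv.orderOf_eq, T.ht])
        (Subgroup.eq_of_le_of_card_ge (fun b hb => ?_) ?_).symm,
        fun h => T.ne_one_t F (conj_eq_one_iff.mp h)⟩
      · have := F.conj_core2 m ((mem_normalizer_iff''.mp (mem_inf.mp hm).2 b).mp hb)
        rwa [show m * (m⁻¹ * b * m) * m⁻¹ = b by group] at this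
      · rw [F.card_core2 T.hx T.ht T.hc, F.card_core2 (x := m * x * m⁻¹)
          (by rw [← MulAut.conj_apply, MulEquiv.orderOf_eq, T.hx])
          (by rw [← MulAut.conj_apply, MulEquiv.orderOf_eq, T.ht])
          (by simpa using T.hc.map (MulAut.conj m).toMonoidHom)]
    · obtain ⟨p, hp, e⟩ := T.inv4_subset_orb F hv
      exact ⟨p, hPM hp, e⟩
  have hcardM := ncard_orb_mul M t
  rw [hMorb, Set.ncard_sdiff_singleton_of_mem (inv4 x).one_mem, ← Nat.card_coe_set_eq,
    show Nat.card (inv4 x : Set G) = 4 from F.card_inv4 T.hx,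
    show M ⊓ centralizer ({t} : Set G) = N ⊓ centralizer ({t} : Set G) by
      rw [hM, inf_assoc, inf_eq_right.mpr (F.centralizer_le_normalizer_core2 t)]] at hcardM
  have hM1152 : Nat.card M ∣ 1152 := hNE ▸ Subgroup.card_dvd_of_le inf_le_right
  have hidx : (M.subgroupOf N).index = 5 := by
    have h := Subgroup.card_mul_index (M.subgroupOf N)
    rw [Nat.card_congr (Subgroup.subgroupOfEquivOfLe (inf_le_left : M ≤ N)).toEquiv] at h
    have hpos : 0 < Nat.card (N ⊓ centralizer ({t} : Set G) : Subgroup G) := Nat.card_pos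
    nlinarith
  set K := (M.subgroupOf N).normalCore with hK
  have hK120 : K.index ∣ 120 := by
    rw [hK, Subgroup.normalCore_eq_ker, Subgroup.index_ker]
    have h := Subgroup.card_subgroup_dvd_card (MulAction.toPermHom N (N ⧸ M.subgroupOf N)).range
    rwa [Nat.card_perm, ← Subgroup.index_eq_card, hidx] at h
  have hKM : Nat.card K ∣ 1152 :=
    (Subgroup.card_dvd_of_le (M.subgroupOf N).normalCore_le).trans
      ((Nat.card_congr (Subgroup.subgroupOfEquivOfLe (inf_le_left : M ≤ N)).toEquiv) ▸ hM1152)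
  have hKN := Subgroup.card_mul_index K
  haveI : Fact (Nat.Prime 3) := ⟨by norm_num⟩
  haveI : Fact (Nat.Prime 5) := ⟨by norm_num⟩
  have h3K : 3 ∣ Nat.card K := by
    by_contra h3
    have h9 : 9 ∣ Nat.card K * K.index := by
      rw [hKN, ← T.hP]; exact Subgroup.card_dvd_of_le hPN
    have hcop : Nat.Coprime 9 (Nat.card K) := by
      rw [show 9 = 3 ^ 2 by norm_num]
      exact (Nat.prime_three.coprime_iff_not_dvd.mpr h3).pow_left 2
    have := (hcop.dvd_of_dvd_mul_left h9).trans hK120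
    norm_num at this
  obtain ⟨S⟩ : Nonempty (Sylow 3 K) := inferInstance
  set R := (S : Subgroup K).map K.subtype with hR
  have hsup : normalizer (R : Set N) ⊔ K = ⊤ := Sylow.normalizer_sup_eq_top S
  have h5R : 5 ∣ Nat.card (normalizer (R : Set N)) := by
    have h1 : K.relIndex (normalizer (R : Set N)) = K.index := by
      rw [← Subgroup.relIndex_sup_right, hsup, Subgroup.relIndex_top_right]
    have h5 : 5 ∣ K.index := hidx ▸ Subgroup.index_dvd_of_le (M.subgroupOf N).normalCore_le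
    exact h5.trans (h1 ▸ Subgroup.relIndex_dvd_card K _)
  obtain ⟨f, hf⟩ := exists_prime_orderOf_dvd_card' (G := normalizer (R : Set N)) 5 h5R
  rw [← Subgroup.orderOf_coe, ← Subgroup.orderOf_coe] at hf
  set RG := R.map N.subtype with hRG
  have hfR : ∀ a ∈ RG, ((f : N) : G) * a * ((f : N) : G)⁻¹ ∈ RG := by
    rintro _ ⟨b, hb, rfl⟩
    exact ⟨(f : N) * b * (f : N)⁻¹, (mem_normalizer_iff.mp f.2 b).mp hb, by simp⟩
  have hRGc : Nat.card RG = Nat.card (S : Subgroup K) := by
    rw [hRG, Subgroup.card_map_of_injective (Subgroup.subtype_injective _), hR,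
      Subgroup.card_map_of_injective (Subgroup.subtype_injective _)]
  obtain ⟨j, hj⟩ := IsPGroup.iff_card.mp S.isPGroup'
  rw [← hRGc] at hj
  have hj0 : j ≠ 0 := by
    rintro rfl
    exact S.ne_bot_of_dvd_card h3K (Subgroup.eq_bot_of_card_eq _ (by rw [← hRGc, hj, pow_zero]))
  have hj2 : j ≤ 2 := by
    by_contra h
    have : 3 ^ 3 ∣ 443520 := (pow_dvd_pow 3 (not_le.mp h)).trans (hj ▸ F.mul_card RG)
    norm_num at this
  have h := dvd_ncard_of_free (zpowers ((f : N) : G)) ((RG : Set G) \ {1}) ?_ ?_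
  · rw [Nat.card_zpowers, hf, Set.ncard_sdiff_singleton_of_mem RG.one_mem,
      ← Nat.card_coe_set_eq] at h
    change 5 ∣ Nat.card RG - 1 at h
    rw [hj] at h
    interval_cases j <;> simp at h hj0
  · rintro y hy s ⟨hs, hs1⟩
    exact ⟨zpowers_le_normalizer hfR y hy s hs, fun e => hs1 (conj_eq_one_iff.mp e)⟩
  · rintro y hy hy1 s ⟨hs, hs1⟩ hys
    have hyo : orderOf y = 5 := by
      have hd : orderOf y ∣ 5 := by
        have := Subgroup.orderOf_dvd_natCard _ hy
        rwa [Nat.card_zpowers, hf] at this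
      exact ((Nat.dvd_prime Fact.out).mp hd).resolve_left fun h => hy1 (orderOf_eq_one_iff.mp h)
    have hsd : orderOf s ∣ 3 ^ j := hj ▸ Subgroup.orderOf_dvd_natCard _ hs
    obtain ⟨i, -, hi⟩ := (Nat.dvd_prime_pow Nat.prime_three).mp hsd
    have hm := F.ord_mem (y * s)
    rw [(show Commute y s from hys).orderOf_mul_eq_mul_orderOf_of_coprime
      (by rw [hyo, hi]; exact Nat.Coprime.pow_right i (by norm_num)), hyo] at hm
    have hs' : orderOf s ≠ 1 := fun h => hs1 (orderOf_eq_one_iff.mp h)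
    have h3s : 3 ∣ orderOf s := by
      rw [hi]
      rcases i with _ | i
      · simp [hi] at hs'
      · exact dvd_pow_self 3 (Nat.succ_ne_zero i)
    simp only [Finset.mem_insert, Finset.mem_singleton] at hm
    omega

end Two

end Cfsg.Agent.Lib.M22Nse57
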