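import Cfsg.Agent.Lib.Compute.Mathieu.ClassesM22

/-! Class representatives of M22 (code pair, order, bound on the centralizer) and kernel checks. -/

set_option autoImplicit false
set_option maxRecDepth 100000

namespace Cfsg.Agent.Lib.M22Nse57

open Cfsg.Agent.Lib.Compute Cfsg.Agent.Lib.Compute.Mathieu

/-- Representatives of the eleven classes other than the identity. -/
def nseReps : List ((ℕ × ℕ) × ℕ × ℕ) := [
  ((0x170710080d0f1115120e13090a0b0c141604050603020100, 0x170710080d0f1115120e13090a0b0c141604050603020100), 2, 384),
  ((0x1710090b1406050d12111607130c08150a0f0e0403020100, 0x170d08130b0f0e160605100a140715090c12110403020100), 3, 36),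
  ((0x170e0a070f0c1611151003120813060b09140d0504020100, 0x17110f060a0c100e131605120815070b140904030d020100), 4, 32),
  ((0x1711060807140d030c160e090f120b0a1315100504020100, 0x170e0612070a16050b0d110f09080c141315040310020100), 4, 16),
  ((0x17130b110c0f160703101514090e050a08120d0604020100, 0x17110d0c1606140e120a051315080b07100409030f020100), 5, 5),
  ((0x17050b15080f160e060d110a090713140c12100304010200, 0x1711140809060d0512100e07150c0b130a0f160304010200), 6, 12),
  ((0x17110c070f0a140e091302060810120d15160b0504030100, 0x170607110e09160a1310081505120f0b140c0403020d0100), 7, 7),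
  ((0x170a1216101114061513080e020f0c0509070b0d04030100, 0x17140f110e1512130a0c04090516070d06100803020b0100), 7, 7),
  ((0x170b05090313160c0a0d120615140f070e11100804010200, 0x17110b0a120d060509070e10160f1404080c150313010200), 8, 8),
  ((0x1711120b0a10080107150e14060f0d0c1613090504030200, 0x17070e0c061516120a0d0908141305110f0b040302011000), 11, 11),
  ((0x17010d060b13090e100811160a140c120f07150504030200, 0x170c050a12080d0f07101509130b110e0614040302011600), 11, 11)]

/-- The representatives are elements of the group. -/
theorem nseReps_pairs : (nseReps.map Prod.fst).all (pairCheck 8 24 m22Chain) = true := by decide +kernel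

/-- The orders are as listed. -/
theorem nseReps_orders : (nseReps.all fun r => Nat.beq (codePow r.1.1 r.2.1) (permOps 8 24).one &&
    (List.range (r.2.1 - 1)).all fun k => !Nat.beq (codePow r.1.1 (k + 1)) (permOps 8 24).one) = true := by
  decide +kernel

/-- The centralizers are at most as large as listed. -/
theorem nseReps_cents : (nseReps.all fun r =>
    Nat.ble (transList (permOps 8 24) r.1.1 r.1.1 m22Chain (permOps 8 24).one []).length r.2.2) = true := by
  decide +kernel

/-- Representatives of equal order are not conjugate. -/
theorem nseReps_split : ((List.range 11).all fun i => (List.range 11).all fun j =>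
    !(Nat.blt i j && Nat.beq (nseReps.getD i ((0, 0), 0, 0)).2.1 (nseReps.getD j ((0, 0), 0, 0)).2.1) ||
      (transList (permOps 8 24) (nseReps.getD i ((0, 0), 0, 0)).1.1 (nseReps.getD j ((0, 0), 0, 0)).1.1
        m22Chain (permOps 8 24).one []).isEmpty) = true := by
  decide +kernel

end Cfsg.Agent.Lib.M22Nse57
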